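import Mathlib
import Cfsg.Prelude.Def_SolvableStructure
import Cfsg.Agent.H18.PCore
import Cfsg.Agent.H18.PRes
import Cfsg.Agent.H2.Frobenius
import Cfsg.Agent.H23.Coprime3
import Cfsg.Agent.L.IndexP

/-!
# supersolvable groups: extension by a cyclic normal subgroup; a criterion for `p`-groups acted on
-/

set_option autoImplicit false
set_option linter.style.haveILetI false

namespace Cfsg.Agent.H19

open Subgroup
open scoped commutatorElement

theorem isSupersolvable_of_equiv {G G' : Type*} [Group G] [Group G'] (e : G ≃* G') (h : Cfsg.IsSupersolvable G) :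
    Cfsg.IsSupersolvable G' := by
  obtain ⟨n, H, h0, h1, hn, hs⟩ := h
  refine ⟨n, fun i => (H i).map e.toMonoidHom, ?_, ?_, ?_, ?_⟩
  · simp only [h0, Subgroup.map_bot]
  · simp only [h1]
    exact Subgroup.map_top_of_surjective _ e.surjective
  · intro i
    exact (hn i).map _ e.surjective
  · intro i
    obtain ⟨g, hg⟩ := hs i
    refine ⟨e g, ?_⟩
    simp only [hg, Subgroup.map_sup, MonoidHom.map_zpowers]
    rfl

theorem isSupersolvable_of_cyclic_normal {G : Type*} [Group G] (N : Subgroup G) [hN : N.Normal] {g₀ : G}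
    (hc : N = zpowers g₀) (h : Cfsg.IsSupersolvable (G ⧸ N)) : Cfsg.IsSupersolvable G := by
  obtain ⟨n, H, h0, h1, hn, hs⟩ := h
  refine ⟨n + 1, Fin.cons ⊥ (fun i => (H i).comap (QuotientGroup.mk' N)), ?_, ?_, ?_, ?_⟩
  · simp
  · rw [← Fin.succ_last, Fin.cons_succ, h1, Subgroup.comap_top]
  · intro i
    refine Fin.cases ?_ (fun j => ?_) i
    · simp only [Fin.cons_zero]; infer_instance
    · simp only [Fin.cons_succ]
      haveI := hn j
      infer_instance
  · intro i
    refine Fin.cases ?_ (fun j => ?_) i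
    · refine ⟨g₀, ?_⟩
      simp only [Fin.cons_succ, Fin.castSucc_zero, Fin.cons_zero, h0]
      rw [← hc, bot_sup_eq]
      ext x
      simp [Subgroup.mem_comap]
    · obtain ⟨gb, hgb⟩ := hs j
      obtain ⟨g, rfl⟩ := QuotientGroup.mk'_surjective N gb
      refine ⟨g, ?_⟩
      rw [Fin.cons_succ, ← Fin.succ_castSucc, Fin.cons_succ, hgb]
      have hNle : N ≤ (H j.castSucc).comap (QuotientGroup.mk' N) := by
        intro x hx
        rw [Subgroup.mem_comap, QuotientGroup.mk'_apply, (QuotientGroup.eq_one_iff x).mpr hx]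
        exact one_mem _
      apply Subgroup.map_injective_of_ker_le (QuotientGroup.mk' N) (by
          rw [QuotientGroup.ker_mk']
          exact hNle.trans (Subgroup.comap_mono le_sup_left)) (by
          rw [QuotientGroup.ker_mk']; exact hNle.trans le_sup_left)
      rw [Subgroup.map_comap_eq_self_of_surjective (QuotientGroup.mk'_surjective N), Subgroup.map_sup,
        Subgroup.map_comap_eq_self_of_surjective (QuotientGroup.mk'_surjective N), MonoidHom.map_zpowers]

open Polynomial in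
/-- an endomorphism with `T ^ |F| = T` of a nonzero space over the finite field `F` has an eigenvector -/
theorem exists_eigenvector {F V : Type*} [Field F] [Fintype F] [AddCommGroup V] [Module F V] [Finite V]
    [Nontrivial V] (T : V →ₗ[F] V) (hT : T ^ Fintype.card F = T) : ∃ (a : F) (v : V), v ≠ 0 ∧ T v = a • v := by
  haveI : Module.Finite F V := Module.Finite.of_finite
  have hs : (X ^ Fintype.card F - X : F[X]).Splits := by
    rw [splits_iff_card_roots, FiniteField.roots_X_pow_card_sub_X, ← Finset.card_def, Finset.card_univ,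
      FiniteField.X_pow_card_sub_X_natDegree_eq F Fintype.one_lt_card]
  have hd : minpoly F T ∣ (X ^ Fintype.card F - X : F[X]) := by
    apply minpoly.dvd
    rw [map_sub, map_pow, aeval_X, hT, sub_self]
  have hs' : (minpoly F T).Splits :=
    hs.of_dvd (FiniteField.X_pow_card_sub_X_ne_zero F Fintype.one_lt_card) hd
  obtain ⟨a, ha⟩ := hs'.exists_eval_eq_zero
    (minpoly.degree_pos (Algebra.IsIntegral.isIntegral T)).ne'
  have h1 : Module.End.HasEigenvalue T a := Module.End.hasEigenvalue_of_isRoot ha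
  obtain ⟨v, hv⟩ := h1.exists_hasEigenvector
  exact ⟨a, v, hv.2, hv.apply_eq_smul⟩

theorem exists_eigen_zmod_aux {V : Type*} [AddCommGroup V] [Finite V] [Nontrivial V] {r : ℕ} [hr : Fact r.Prime]
    [Module (ZMod r) V] (f : V →+ V) (hf : ∀ v, f^[r - 1] v = v) :
    ∃ (k : ℕ) (v : V), v ≠ 0 ∧ f v = k • v := by
  let T : Module.End (ZMod r) V := f.toZModLinearMap r
  have hTpow : ∀ (n : ℕ) (x : V), (T ^ n) x = f^[n] x := by
    intro n x
    rw [Module.End.pow_apply]
    rfl
  haveI : Fintype (ZMod r) := ZMod.fintype r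
  have hT : T ^ Fintype.card (ZMod r) = T := by
    rw [ZMod.card r]
    have h1 : T ^ (r - 1) = 1 := by
      apply LinearMap.ext
      intro x
      rw [hTpow, hf]; rfl
    calc T ^ r = T ^ (r - 1 + 1) := by rw [Nat.sub_add_cancel hr.out.one_le]
      _ = T := by rw [pow_succ, h1, one_mul]
  obtain ⟨c, v, hv, hTv⟩ := exists_eigenvector T hT
  refine ⟨c.val, v, hv, ?_⟩
  have h1 : c • v = c.val • v := by
    rw [← Nat.cast_smul_eq_nsmul (ZMod r), ZMod.natCast_zmod_val]
  rw [← h1]
  exact hTv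

theorem exists_eigen_zmod {V : Type*} [AddCommGroup V] [Finite V] [Nontrivial V] {r : ℕ} [Fact r.Prime]
    (hV : ∀ v : V, r • v = 0) (f : V →+ V) (hf : ∀ v, f^[r - 1] v = v) :
    ∃ (k : ℕ) (v : V), v ≠ 0 ∧ f v = k • v := by
  letI : Module (ZMod r) V := AddCommGroup.zmodModule hV
  exact exists_eigen_zmod_aux (r := r) f hf

/-- group version: an element of exponent dividing `r - 1` on the elementary abelian `N` has an eigenvector -/
theorem exists_conj_eq_pow {G : Type*} [Group G] [Finite G] {r : ℕ} [hr : Fact r.Prime] (N : Subgroup G)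
    (hN1 : N ≠ ⊥) (hcomm : ∀ a ∈ N, ∀ b ∈ N, a * b = b * a) (hexp : ∀ a ∈ N, a ^ r = 1) {g : G}
    (hg : g ∈ normalizer (N : Set G)) (hgr : ∀ a ∈ N, g ^ (r - 1) * a * (g ^ (r - 1))⁻¹ = a) :
    ∃ (k : ℕ) (a : G), a ∈ N ∧ a ≠ 1 ∧ g * a * g⁻¹ = a ^ k := by
  letI : CommGroup N := { (inferInstance : Group N) with
    mul_comm := fun a b => Subtype.ext (hcomm a a.2 b b.2) }
  haveI : Nontrivial N := (Subgroup.nontrivial_iff_ne_bot N).mpr hN1
  let φ : N →* N :=
    { toFun := fun a => ⟨g * a * g⁻¹, H18.conj_mem_of_mem_normalizer hg a.2⟩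
      map_one' := Subtype.ext (by simp)
      map_mul' := fun a b => Subtype.ext (by simp [mul_assoc]) }
  have hpow : ∀ (n : ℕ) (x : N), ((φ^[n] x : N) : G) = g ^ n * (x : G) * (g ^ n)⁻¹ := by
    intro n
    induction n with
    | zero => intro x; simp
    | succ n ih =>
      intro x
      rw [Function.iterate_succ_apply, ih]
      have h2 : ((φ x : N) : G) = g * (x : G) * g⁻¹ := rfl
      rw [h2, pow_succ]; group
  obtain ⟨k, v, hv, hfv⟩ := exists_eigen_zmod (V := Additive N) (r := r)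
    (fun v => congrArg Additive.ofMul (Subtype.ext (hexp v.toMul v.toMul.2) : (v.toMul) ^ r = 1))
    (MonoidHom.toAdditive φ) (fun v => by
      have h2 : φ^[r - 1] v.toMul = v.toMul := Subtype.ext (by
        rw [hpow, hgr _ v.toMul.2])
      exact congrArg Additive.ofMul h2)
  refine ⟨k, (v.toMul : G), v.toMul.2, ?_, ?_⟩
  · intro h
    exact hv (congrArg Additive.ofMul (Subtype.ext h : v.toMul = 1))
  · have h2 : φ v.toMul = v.toMul ^ k := congrArg Additive.toMul hfv
    exact congrArg Subtype.val h2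

/-- a nontrivial normal `r`-subgroup on which `G` acts "strictly supersolvably" contains a normal subgroup
of order `r` -/
theorem exists_normal_prime_of_criterion {G : Type*} [Group G] [Finite G] {r : ℕ} [hr : Fact r.Prime]
    (R Y : Subgroup G) [hR : R.Normal] [hY : Y.Normal] (hRr : IsPGroup r R) (hR1 : R ≠ ⊥)
    (hexp : ∀ g : G, g ^ (r - 1) ∈ Y) (hcomm : ∀ a b : G, a * b * a⁻¹ * b⁻¹ ∈ Y)
    (hcent : ∀ y ∈ Y, (orderOf y).Coprime r → y ∈ centralizer (R : Set G)) :
    ∃ N : Subgroup G, N.Normal ∧ N ≤ R ∧ Nat.card N = r := by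
  classical
  have hRY : R ≤ Y := by
    intro g hg
    have h1 : (r - 1).Coprime (orderOf g) := by
      obtain ⟨k, hk⟩ := H18.isPGroup_of_mem hRr hg
      have h1 : orderOf g ∣ r ^ k := orderOf_dvd_of_pow_eq_one hk
      have h2 : r.Coprime (r - 1) := (Nat.coprime_self_sub_right hr.out.one_le).mpr (Nat.coprime_one_right r)
      exact ((h2.pow_left k).coprime_dvd_left h1).symm
    obtain ⟨m, hm⟩ := exists_pow_eq_self_of_coprime h1
    rw [← hm]
    exact Y.pow_mem (hexp g) m
  obtain ⟨S, hS, hRS⟩ := H23.exists_isSylowOf_ge hRY hRr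
  have hSp : IsPGroup r S := hS.isPGroup
  haveI hRSn : (R.subgroupOf S).Normal := inferInstance
  have hRS1 : R.subgroupOf S ≠ ⊥ := by
    intro h
    rw [Subgroup.subgroupOf_eq_bot] at h
    rw [disjoint_iff, inf_of_le_left hRS] at h
    exact hR1 h
  have h1 := H23.inf_center_ne_bot (P := S) hSp hRS1
  obtain ⟨w', hw1'⟩ := (Subgroup.ne_bot_iff_exists_ne_one).mp h1
  set w : G := ((w' : S) : G) with hw
  have hw1 : w ≠ 1 := by
    intro h
    apply hw1'
    exact Subtype.ext (Subtype.ext h)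
  have hwR : w ∈ R := (mem_inf.mp w'.2).1
  have hwS : ∀ s ∈ S, s * w = w * s := by
    intro s hs
    have := mem_center_iff.mp (mem_inf.mp w'.2).2 ⟨s, hs⟩
    exact congrArg Subtype.val this
  have hYw : Y ≤ centralizer ({w} : Set G) := by
    refine H2.le_of_relIndex_of_residual (p := r) (R := S) ?_ hS.not_dvd ?_
    · intro s hs
      exact mem_centralizer_singleton_iff.mpr (hwS s hs)
    · intro y hy hyo
      exact mem_centralizer_singleton_iff.mpr ((mem_centralizer_iff.mp (hcent y hy hyo) w hwR).symm)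
  set W := R ⊓ centralizer (Y : Set G) with hW
  have hW1 : W ≠ ⊥ := by
    intro h
    have : w ∈ W := mem_inf.mpr ⟨hwR, by
      rw [mem_centralizer_iff]
      intro y hy
      exact mem_centralizer_singleton_iff.mp (hYw hy)⟩
    rw [h] at this
    exact hw1 (mem_bot.mp this)
  obtain ⟨N, hN⟩ := (Set.toFinite {K : Subgroup G | K.Normal ∧ K ≠ ⊥ ∧ K ≤ W}).exists_minimal
    ⟨W, by rw [hW]; infer_instance, hW1, le_rfl⟩
  obtain ⟨⟨hNn, hN1, hNW⟩, hNmin⟩ := hN
  have hmin : ∀ K : Subgroup G, K.Normal → K ≠ ⊥ → K ≤ N → K = N := fun K h1 h2 h3 =>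
    le_antisymm h3 (hNmin ⟨h1, h2, h3.trans hNW⟩ h3)
  have hNR : N ≤ R := hNW.trans inf_le_left
  have hNc : ∀ a ∈ N, ∀ b ∈ Y, b * a = a * b := fun a ha b hb =>
    mem_centralizer_iff.mp (mem_inf.mp (hNW ha)).2 b hb
  have hNcomm : ∀ a ∈ N, ∀ b ∈ N, a * b = b * a := fun a ha b hb => hNc b hb a (hRY (hNR ha))
  -- exponent
  have hNexp : ∀ a ∈ N, a ^ r = 1 := by
    let Ω : Subgroup G :=
      { carrier := {a | a ∈ N ∧ a ^ r = 1}
        one_mem' := ⟨N.one_mem, one_pow r⟩
        mul_mem' := by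
          rintro a b ⟨ha, ha'⟩ ⟨hb, hb'⟩
          exact ⟨N.mul_mem ha hb, by
            rw [(show Commute a b from hNcomm a ha b hb).mul_pow, ha', hb', one_mul]⟩
        inv_mem' := by
          rintro a ⟨ha, ha'⟩
          exact ⟨N.inv_mem ha, by rw [inv_pow, ha', inv_one]⟩ }
    have hΩn : Ω.Normal := ⟨by
      rintro a ⟨ha, ha'⟩ g
      exact ⟨hNn.conj_mem a ha g, by rw [conj_pow, ha', mul_one, mul_inv_cancel]⟩⟩
    have hΩ1 : Ω ≠ ⊥ := by
      haveI : Nontrivial N := (Subgroup.nontrivial_iff_ne_bot N).mpr hN1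
      have hdvd : r ∣ Nat.card N := by
        obtain ⟨k, hk⟩ := H18.card_isPGroup_iff.mp (H18.isPGroup_mono hRr hNR)
        rw [hk]
        apply dvd_pow_self
        rintro rfl
        rw [pow_zero] at hk
        exact hN1 (Subgroup.card_eq_one.mp hk)
      obtain ⟨x, hx⟩ := exists_prime_orderOf_dvd_card' r hdvd
      intro h
      have hx' : (x : G) ∈ Ω := ⟨x.2, by
        have := pow_orderOf_eq_one x
        rw [hx] at this
        exact congrArg Subtype.val this⟩
      rw [h, mem_bot] at hx'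
      have h3 : x = 1 := Subtype.ext hx'
      rw [h3, orderOf_one] at hx
      exact hr.out.one_lt.ne hx
    have h2 := hmin Ω hΩn hΩ1 (fun a ha => ha.1)
    intro a ha
    rw [← h2] at ha
    exact ha.2
  -- every element acts as a scalar
  have hscal : ∀ g : G, ∃ k : ℕ, ∀ a ∈ N, g * a * g⁻¹ = a ^ k := by
    intro g
    obtain ⟨k, a, haN, ha1, hak⟩ := exists_conj_eq_pow N hN1 hNcomm hNexp
      (g := g) (by rw [normalizer_eq_top_iff.mpr hNn]; exact mem_top g) (fun a ha => by
        rw [hNc a ha _ (hexp g), mul_inv_cancel_right])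
    let K : Subgroup G :=
      { carrier := {a | a ∈ N ∧ g * a * g⁻¹ = a ^ k}
        one_mem' := ⟨N.one_mem, by simp⟩
        mul_mem' := by
          rintro a b ⟨ha, ha'⟩ ⟨hb, hb'⟩
          refine ⟨N.mul_mem ha hb, ?_⟩
          rw [(show Commute a b from hNcomm a ha b hb).mul_pow, ← ha', ← hb']; group
        inv_mem' := by
          rintro a ⟨ha, ha'⟩
          refine ⟨N.inv_mem ha, ?_⟩
          rw [inv_pow, ← ha']; group }
    have hKn : K.Normal := ⟨by
      rintro a ⟨ha, ha'⟩ h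
      refine ⟨hNn.conj_mem a ha h, ?_⟩
      rw [conj_pow, ← ha']
      -- `[h⁻¹, g] ∈ Y` centralizes `a`
      have h2 := hNc (g * a * g⁻¹) (hNn.conj_mem a ha g) _ (hcomm h⁻¹ g)
      calc g * (h * a * h⁻¹) * g⁻¹ = h * ((h⁻¹ * g * h⁻¹⁻¹ * g⁻¹) * (g * a * g⁻¹)) * (h⁻¹ * g * h⁻¹⁻¹ * g⁻¹)⁻¹ * h⁻¹ := by
            group
        _ = h * ((g * a * g⁻¹) * (h⁻¹ * g * h⁻¹⁻¹ * g⁻¹)) * (h⁻¹ * g * h⁻¹⁻¹ * g⁻¹)⁻¹ * h⁻¹ := by rw [h2]
        _ = h * (g * a * g⁻¹) * h⁻¹ := by group⟩
    have hK1 : K ≠ ⊥ := by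
      intro h
      have h2 : a ∈ K := ⟨haN, hak⟩
      rw [h] at h2
      exact ha1 (mem_bot.mp h2)
    have h2 := hmin K hKn hK1 (fun a ha => ha.1)
    refine ⟨k, fun b hb => ?_⟩
    rw [← h2] at hb
    exact hb.2
  obtain ⟨w₀', hw₀'⟩ := (Subgroup.ne_bot_iff_exists_ne_one).mp hN1
  have hw₀1 : (w₀' : G) ≠ 1 := fun h => hw₀' (Subtype.ext h)
  have hzn : (zpowers (w₀' : G)).Normal := ⟨by
    intro y hy g
    obtain ⟨k, hk⟩ := hscal g
    have hyN : y ∈ N := (zpowers_le.mpr w₀'.2) hy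
    rw [hk y hyN]
    exact pow_mem hy k⟩
  have h2 := hmin _ hzn (fun h => hw₀1 (zpowers_eq_bot.mp h)) (zpowers_le.mpr w₀'.2)
  refine ⟨N, hNn, hNR, ?_⟩
  rw [← h2, Nat.card_zpowers]
  exact orderOf_eq_prime (hNexp _ w₀'.2) hw₀1

theorem isSupersolvable_of_criterion (n : ℕ) : ∀ (G : Type*) [Group G] [Finite G] {r : ℕ} [hr : Fact r.Prime]
    (R Y : Subgroup G) [hR : R.Normal] [hY : Y.Normal], Nat.card R = n → IsPGroup r R →
    (∀ g : G, g ^ (r - 1) ∈ Y) → (∀ a b : G, a * b * a⁻¹ * b⁻¹ ∈ Y) →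
    (∀ y ∈ Y, (orderOf y).Coprime r → y ∈ centralizer (R : Set G)) → Cfsg.IsSupersolvable (G ⧸ R) →
    Cfsg.IsSupersolvable G := by
  induction n using Nat.strong_induction_on with
  | _ n ih =>
    intro G _ _ r hr R Y hR hY hn hRr hexp hcomm hcent hss
    by_cases hR1 : R = ⊥
    · subst hR1
      exact isSupersolvable_of_equiv QuotientGroup.quotientBot hss
    · obtain ⟨N, hNn, hNR, hNc⟩ := exists_normal_prime_of_criterion R Y hRr hR1 hexp hcomm hcent
      haveI : IsCyclic N := isCyclic_of_prime_card hNc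
      obtain ⟨g₀, hg₀⟩ := (Subgroup.isCyclic_iff_exists_zpowers_eq_top N).mp inferInstance
      refine isSupersolvable_of_cyclic_normal N (g₀ := g₀) hg₀.symm ?_
      haveI : (R.map (QuotientGroup.mk' N)).Normal := hR.map _ (QuotientGroup.mk'_surjective N)
      haveI : (Y.map (QuotientGroup.mk' N)).Normal := hY.map _ (QuotientGroup.mk'_surjective N)
      refine ih (Nat.card (R.map (QuotientGroup.mk' N))) ?_ (G ⧸ N) (r := r) (R.map (QuotientGroup.mk' N))
        (Y.map (QuotientGroup.mk' N)) rfl (hRr.map _) ?_ ?_ ?_ ?_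
      · have h1 := Subgroup.relIndex_ker (f := QuotientGroup.mk' N) (K := R)
        rw [QuotientGroup.ker_mk'] at h1
        rw [← h1, ← hn]
        have h2 := Subgroup.relIndex_mul_relIndex ⊥ N R bot_le hNR
        rw [relIndex_bot_left, relIndex_bot_left, hNc] at h2
        rw [← h2]
        have h3 : 0 < N.relIndex R := Nat.pos_of_ne_zero (by
          intro h0; rw [h0, mul_zero] at h2; exact Nat.card_pos.ne h2)
        nlinarith [hr.out.one_lt]
      · intro gb
        obtain ⟨g, rfl⟩ := QuotientGroup.mk'_surjective N gb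
        exact ⟨g ^ (r - 1), hexp g, by rw [map_pow]⟩
      · intro ab bb
        obtain ⟨a, rfl⟩ := QuotientGroup.mk'_surjective N ab
        obtain ⟨b, rfl⟩ := QuotientGroup.mk'_surjective N bb
        exact ⟨a * b * a⁻¹ * b⁻¹, hcomm a b, by simp only [map_mul, map_inv]⟩
      · rintro _ ⟨y, hy, rfl⟩ hyo
        obtain ⟨m, hm1, hm2⟩ := L.exists_p'_lift (p := r) (QuotientGroup.mk' N) hyo
        rw [← hm2, mem_centralizer_iff]
        rintro _ ⟨x, hx, rfl⟩
        rw [← map_mul, ← map_mul, mem_centralizer_iff.mp (hcent _ (Y.pow_mem hy m) hm1) x hx]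
      · exact isSupersolvable_of_equiv (QuotientGroup.quotientQuotientEquivQuotient N R hNR).symm hss

end Cfsg.Agent.H19
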