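import Mathlib
import Cfsg.Agent.H19.Sylow2
import Cfsg.Agent.H10.LBalTwo4
import Cfsg.Agent.H10.Comp
import Cfsg.Agent.H23.Subnormal
import Cfsg.Agent.H1.Chief

/-!
# Sylow subgroups of joins of subnormal subgroups
-/

set_option autoImplicit false
set_option linter.style.haveILetI false

namespace Cfsg.Agent.H19

open Subgroup Cfsg.Agent.H23
open scoped Pointwise

universe u

variable {G : Type*} [Group G] {p : ℕ}

theorem pResidual_le_ker [Fact p.Prime] {Q : Type*} [Group Q] (hQ : IsPGroup p Q) (f : G →* Q) :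
    Cfsg.pResidual p G ≤ f.ker := by
  unfold Cfsg.pResidual
  rw [Subgroup.closure_le]
  intro g hg
  have hg' : Nat.Coprime (orderOf g) p := hg
  rw [SetLike.mem_coe, MonoidHom.mem_ker]
  obtain ⟨k, hk⟩ := hQ (f g)
  have h1 : orderOf (f g) ∣ p ^ k := orderOf_dvd_of_pow_eq_one hk
  have h2 : orderOf (f g) ∣ orderOf g := orderOf_map_dvd f g
  have h3 : Nat.Coprime (orderOf g) (p ^ k) := hg'.pow_right k
  exact orderOf_eq_one_iff.mp (Nat.eq_one_of_dvd_coprimes h3 h2 h1)

/-- a central subgroup `N ≤ O^p(G)` cannot have a complement in a Sylow `p`-subgroup -/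
theorem central_complement_eq_bot [Finite G] [Fact p.Prime] {S P N : Subgroup G} (hS : IsSylowOf p S ⊤)
    (hN : ∀ z ∈ N, ∀ g : G, g * z = z * g) (hSP : S = P ⊔ N) (hPN : P ⊓ N = ⊥)
    (hNR : N ≤ Cfsg.pResidual p G) : N = ⊥ := by
  have hPS : P ≤ S := hSP ▸ le_sup_left
  have hNS : N ≤ S := hSP ▸ le_sup_right
  have hmem : ∀ {s : G}, s ∈ S → ∃ x ∈ P, ∃ z ∈ N, x * z = s := by
    intro s hs
    rw [hSP] at hs
    have hNn : P ≤ normalizer (N : Set G) := by
      intro g _
      rw [mem_normalizer_iff]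
      intro z
      constructor
      · intro hz
        rw [hN z hz g]
        simpa using hz
      · intro hz
        have h1 := hN _ hz g
        have h2 : z = g * z * g⁻¹ := by
          have h3 : g * (g * z * g⁻¹) = g * z := by rw [h1]; group
          exact (mul_left_cancel h3).symm
        rw [h2]; exact hz
    rw [sup_comm] at hs
    exact (H1.mem_sup_iff_of_le_normalizer' hNn).mp hs
  haveI hPn : (P.subgroupOf S).Normal := by
    refine ⟨fun x hx s => ?_⟩
    rw [mem_subgroupOf] at hx ⊢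
    obtain ⟨y, hy, z, hz, hyz⟩ := hmem s.2
    have e : ((s * x * s⁻¹ : S) : G) = y * x * y⁻¹ := by
      push_cast
      rw [← hyz]
      calc y * z * x * (y * z)⁻¹ = y * (z * x) * z⁻¹ * y⁻¹ := by group
        _ = y * (x * z) * z⁻¹ * y⁻¹ := by rw [hN z hz x]
        _ = _ := by group
    rw [e]
    exact mul_mem (mul_mem hy hx) (inv_mem hy)
  have hcomm : ∀ a b : S ⧸ P.subgroupOf S, a * b = b * a := by
    intro a b
    obtain ⟨⟨s, hs⟩, rfl⟩ := QuotientGroup.mk_surjective a
    obtain ⟨⟨t, ht⟩, rfl⟩ := QuotientGroup.mk_surjective b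
    obtain ⟨y, hy, z, hz, hyz⟩ := hmem hs
    have e1 : (QuotientGroup.mk (⟨s, hs⟩ : S) : S ⧸ P.subgroupOf S) = QuotientGroup.mk ⟨z, hNS hz⟩ := by
      rw [QuotientGroup.eq_iff_div_mem, mem_subgroupOf]
      have : ((⟨s, hs⟩ / ⟨z, hNS hz⟩ : S) : G) = y := by
        push_cast
        rw [← hyz, mul_div_cancel_right]
      rw [this]; exact hy
    rw [e1, ← QuotientGroup.mk_mul, ← QuotientGroup.mk_mul]
    congr 1
    exact Subtype.ext (hN z hz t).symm
  letI : CommGroup (S ⧸ P.subgroupOf S) := { (inferInstance : Group (S ⧸ P.subgroupOf S)) with mul_comm := hcomm }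
  let τ : G →* (S ⧸ P.subgroupOf S) := MonoidHom.transfer (QuotientGroup.mk' (P.subgroupOf S))
  have hQ : IsPGroup p (S ⧸ P.subgroupOf S) := hS.isPGroup.to_quotient _
  have hker := pResidual_le_ker hQ τ
  rw [Subgroup.eq_bot_iff_forall]
  intro z hz
  have h1 : τ z = 1 := hker (hNR hz)
  have key : ∀ (k : ℕ) (g₀ : G), g₀⁻¹ * z ^ k * g₀ ∈ S → g₀⁻¹ * z ^ k * g₀ = z ^ k := by
    intro k g₀ _
    rw [mul_assoc, ← hN _ (pow_mem hz k) g₀]; group
  have h2 := MonoidHom.transfer_eq_pow (QuotientGroup.mk' (P.subgroupOf S)) z key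
  have h3 : (QuotientGroup.mk' (P.subgroupOf S)) ⟨z ^ S.index, MonoidHom.transfer_eq_pow_aux z key⟩ = 1 := by
    rw [← h2]; exact h1
  have h4 : (QuotientGroup.mk (⟨z ^ S.index, MonoidHom.transfer_eq_pow_aux z key⟩ : S) : S ⧸ P.subgroupOf S) = 1 := h3
  rw [QuotientGroup.eq_one_iff, mem_subgroupOf] at h4
  have h5 : z ^ S.index ∈ P ⊓ N := mem_inf.mpr ⟨h4, pow_mem hz _⟩
  rw [hPN, mem_bot] at h5
  obtain ⟨k, hk⟩ := hS.isPGroup ⟨z, hNS hz⟩
  have hk' : z ^ p ^ k = 1 := congrArg Subtype.val hk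
  have h6 : Nat.Coprime S.index (p ^ k) := by
    apply Nat.Coprime.pow_right
    have h7 := hS.not_dvd
    rw [Subgroup.relIndex_top_right] at h7
    exact ((Fact.out : p.Prime).coprime_iff_not_dvd.mpr h7).symm
  exact orderOf_eq_one_iff.mp (Nat.eq_one_of_dvd_coprimes h6 (orderOf_dvd_of_pow_eq_one h5) (orderOf_dvd_of_pow_eq_one hk'))

/-- **Sylow subgroups of joins of subnormal subgroups** -/
theorem sylow_join_aux (p : ℕ) [Fact p.Prime] (n : ℕ) : ∀ {G : Type u} [Group G] [Finite G], Nat.card G = n →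
    ∀ S A₁ A₂ : Subgroup G, IsSylowOf p S ⊤ → A₁.IsSubnormal → A₂.IsSubnormal →
      (A₁ ⊔ A₂) ⊓ S ≤ (A₁ ⊓ S) ⊔ (A₂ ⊓ S) := by
  classical
  induction n using Nat.strong_induction_on with
  | _ n ih =>
  intro G _ _ hn S A₁ A₂ hS h₁ h₂
  -- the inductive hypothesis for proper subnormal subgroups
  have hres : ∀ J : Subgroup G, J.IsSubnormal → J ≠ ⊤ → ∀ B₁ B₂ : Subgroup G, B₁ ≤ J → B₂ ≤ J →
      B₁.IsSubnormal → B₂.IsSubnormal → (B₁ ⊔ B₂) ⊓ S ≤ (B₁ ⊓ S) ⊔ (B₂ ⊓ S) := by
    intro J hJ hJt B₁ B₂ hB₁ hB₂ hs₁ hs₂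
    have hlt : Nat.card J < n := by
      rw [← hn]
      have h := H1.card_lt_of_lt' (lt_top_iff_ne_top.mpr hJt)
      rwa [Subgroup.card_top] at h
    have hSJ : IsSylowOf p (S ⊓ J) J := isSylowOf_inf_subnormal hS hJ
    have h3 : IsSylowOf p ((S ⊓ J).subgroupOf J) ⊤ := by
      have := H10.isSylowOf_subgroupOf hSJ (le_refl J)
      rwa [Subgroup.subgroupOf_self] at this
    have h4 := ih _ hlt rfl ((S ⊓ J).subgroupOf J) (B₁.subgroupOf J) (B₂.subgroupOf J) h3
      hs₁.subgroupOf hs₂.subgroupOf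
    have h5 := Subgroup.map_mono (f := J.subtype) h4
    rw [Subgroup.map_inf _ _ _ J.subtype_injective, Subgroup.map_sup, Subgroup.map_sup,
      Subgroup.map_inf _ _ _ J.subtype_injective, Subgroup.map_inf _ _ _ J.subtype_injective,
      Subgroup.map_subgroupOf_eq_of_le hB₁, Subgroup.map_subgroupOf_eq_of_le hB₂,
      Subgroup.map_subgroupOf_eq_of_le inf_le_right] at h5
    refine le_trans ?_ (h5.trans ?_)
    · exact le_inf inf_le_left (le_inf inf_le_right (inf_le_left.trans (sup_le hB₁ hB₂)))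
    · exact sup_le_sup (inf_le_inf_left _ inf_le_left) (inf_le_inf_left _ inf_le_left)
  by_cases hJ : A₁ ⊔ A₂ = ⊤
  swap
  · exact hres (A₁ ⊔ A₂) (isSubnormal_sup h₁ h₂) hJ A₁ A₂ le_sup_left le_sup_right h₁ h₂
  by_cases hR : Cfsg.pResidual p G = ⊥
  · -- `G` is a `p`-group
    have hGp : S = ⊤ := by
      have h1 : IsPGroup p G := by
        rw [IsPGroup.iff_card]
        have h2 : ∀ q : ℕ, q.Prime → q ∣ Nat.card G → q = p := by
          intro q hq hqd
          haveI := Fact.mk hq
          by_contra hne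
          obtain ⟨x, hx⟩ := exists_prime_orderOf_dvd_card' q hqd
          have h3 : x ∈ Cfsg.pResidual p G := Subgroup.subset_closure (by
            show Nat.Coprime (orderOf x) p
            rw [hx]
            exact (Nat.coprime_primes hq (Fact.out : p.Prime)).mpr hne)
          rw [hR, mem_bot] at h3
          rw [h3, orderOf_one] at hx
          exact hq.one_lt.ne hx
        exact ⟨_, Nat.eq_prime_pow_of_unique_prime_dvd Nat.card_pos.ne' (fun {d} hd hdd => h2 d hd hdd)⟩
      exact (IsSylowOf.eq_of_le hS le_top le_rfl (h1.to_subgroup ⊤)).symm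
    rw [hGp, inf_top_eq, inf_top_eq, inf_top_eq]
  haveI hRn : (Cfsg.pResidual p G).Normal := by
    refine ⟨fun x hx g => ?_⟩
    have h1 : (Cfsg.pResidual p G).map (MulAut.conj g).toMonoidHom ≤ Cfsg.pResidual p G := by
      unfold Cfsg.pResidual
      rw [MonoidHom.map_closure, Subgroup.closure_le]
      rintro _ ⟨y, hy, rfl⟩
      apply Subgroup.subset_closure
      have hy' : Nat.Coprime (orderOf y) p := hy
      show Nat.Coprime (orderOf ((MulAut.conj g).toMonoidHom y)) p
      rw [orderOf_injective _ (MulAut.conj g).injective]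
      exact hy'
    exact h1 ⟨x, hx, rfl⟩
  obtain ⟨N, hNmin, hNR⟩ := exists_isMinNormal_le hRn hR
  haveI hNn := hNmin.1
  set P := (A₁ ⊓ S) ⊔ (A₂ ⊓ S) with hP
  have hPS : P ≤ S := sup_le inf_le_right inf_le_right
  -- the quotient
  have hSN : S ≤ P ⊔ N := by
    have hlt : Nat.card (G ⧸ N) < n := by
      rw [← hn, ← Subgroup.index_eq_card]
      have h1 := N.card_mul_index
      have h2 : 1 < Nat.card N := by
        rw [Subgroup.one_lt_card_iff_ne_bot]; exact hNmin.2.1
      rw [← h1]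
      have h3 : 0 < N.index := Nat.pos_of_ne_zero N.index_ne_zero_of_finite
      nlinarith
    have hsurj := QuotientGroup.mk'_surjective N
    have h3 : IsSylowOf p (S.map (QuotientGroup.mk' N)) ⊤ := by
      have := H10.isSylowOf_map (QuotientGroup.mk' N) hS
      rwa [Subgroup.map_top_of_surjective _ hsurj] at this
    have h4 := ih _ hlt rfl (S.map (QuotientGroup.mk' N)) (A₁.map (QuotientGroup.mk' N)) (A₂.map (QuotientGroup.mk' N))
      h3 (h₁.map hsurj) (h₂.map hsurj)
    rw [← Subgroup.map_sup, hJ, Subgroup.map_top_of_surjective _ hsurj, top_inf_eq] at h4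
    -- `A.map ⊓ S.map ≤ (A ⊓ S).map`
    have h5 : ∀ A : Subgroup G, A.IsSubnormal → A.map (QuotientGroup.mk' N) ⊓ S.map (QuotientGroup.mk' N) ≤
        (A ⊓ S).map (QuotientGroup.mk' N) := by
      intro A hA
      have e1 : IsSylowOf p ((S ⊓ A).map (QuotientGroup.mk' N)) (A.map (QuotientGroup.mk' N)) :=
        H10.isSylowOf_map _ (isSylowOf_inf_subnormal hS hA)
      have e2 := IsSylowOf.eq_of_le e1 (Q := A.map (QuotientGroup.mk' N) ⊓ S.map (QuotientGroup.mk' N))
        (le_inf (Subgroup.map_mono inf_le_right) (Subgroup.map_mono inf_le_left)) inf_le_left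
        (h3.isPGroup.to_le inf_le_right)
      rw [e2, inf_comm]
    have h6 : S.map (QuotientGroup.mk' N) ≤ P.map (QuotientGroup.mk' N) := by
      rw [hP, Subgroup.map_sup]
      exact h4.trans (sup_le_sup (h5 A₁ h₁) (h5 A₂ h₂))
    have h7 := Subgroup.comap_mono (f := QuotientGroup.mk' N) h6
    rw [Subgroup.comap_map_eq, Subgroup.comap_map_eq, QuotientGroup.ker_mk'] at h7
    exact le_sup_left.trans h7
  -- it suffices to show `S ∩ N ≤ P`
  have hfin : S ⊓ N ≤ P → (A₁ ⊔ A₂) ⊓ S ≤ P := by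
    intro h s hs
    have h1 := hSN hs.2
    rw [Subgroup.mem_sup_of_normal_right] at h1
    obtain ⟨x, hx, z, hz, rfl⟩ := h1
    have h2 : z ∈ S := by
      have : z = x⁻¹ * (x * z) := by group
      rw [this]
      exact mul_mem (inv_mem (hPS hx)) hs.2
    exact mul_mem hx (h (mem_inf.mpr ⟨h2, hz⟩))
  apply hfin
  by_cases hsol : Group.IsSolvable N
  · -- abelian minimal normal subgroup
    obtain ⟨hNab, q, hq, hNq, _⟩ := H1.minimal_normal_solvable hNn hNmin.2.1 hNmin.2.2 hsol
    haveI := Fact.mk hq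
    by_cases hqp : q = p
    swap
    · have : S ⊓ N = ⊥ := by
        apply H1.inf_eq_bot_of_card_coprime
        obtain ⟨a, ha⟩ := IsPGroup.iff_card.mp hS.isPGroup
        obtain ⟨b, hb⟩ := IsPGroup.iff_card.mp hNq
        rw [ha, hb]
        exact Nat.Coprime.pow _ _ ((Nat.coprime_primes (Fact.out : p.Prime) hq).mpr (Ne.symm hqp))
      rw [this]; exact bot_le
    subst hqp
    have hNS : N ≤ S := by
      have h1 : IsPGroup q (S ⊔ N : Subgroup G) := IsPGroup.to_sup_of_normal_right hS.isPGroup hNq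
      have h2 := IsSylowOf.eq_of_le hS le_sup_left le_top h1
      exact (le_sup_right : N ≤ S ⊔ N).trans h2.le
    have hN1 : N ≤ normalizer (A₁ : Set G) := minNormal_le_normalizer h₁ hNmin
    have hN2 : N ≤ normalizer (A₂ : Set G) := minNormal_le_normalizer h₂ hNmin
    have hc : ∀ A : Subgroup G, N ≤ normalizer (A : Set G) → ⁅N, A⁆ ≤ A ⊓ S := by
      intro A hA
      refine le_inf ?_ ((Subgroup.commutator_le_left N A).trans hNS)
      rw [Subgroup.commutator_comm]
      exact H1.commutator_le_left_of_le_normalizer hA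
    set K := ⁅N, A₁⁆ ⊔ ⁅N, A₂⁆ with hK
    have hKN : K ≤ N := sup_le (Subgroup.commutator_le_left _ _) (Subgroup.commutator_le_left _ _)
    have hKn : K.Normal := by
      rw [← Subgroup.normalizer_eq_top_iff, eq_top_iff, ← hJ]
      have h3 : ∀ A B : Subgroup G, ⁅⁅N, A⁆, B⁆ ≤ ⁅N, B⁆ := fun A B =>
        Subgroup.commutator_mono (Subgroup.commutator_le_left _ _) le_rfl
      have h4 : ∀ B : Subgroup G, ⁅N, B⁆ ≤ K → B ≤ normalizer (K : Set G) := by
        intro B hB b hb
        have key : ∀ c ∈ B, ∀ x ∈ K, c * x * c⁻¹ ∈ K := by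
          intro c hc x hx
          have h5 : x * c * x⁻¹ * c⁻¹ ∈ K := hB (Subgroup.commutator_mem_commutator (hKN hx) hc)
          have h6 : c * x * c⁻¹ = (x * c * x⁻¹ * c⁻¹)⁻¹ * x := by group
          rw [h6]
          exact mul_mem (inv_mem h5) hx
        rw [mem_normalizer_iff]
        intro x
        refine ⟨key b hb x, fun hx => ?_⟩
        have h7 := key b⁻¹ (inv_mem hb) _ hx
        have e : b⁻¹ * (b * x * b⁻¹) * b⁻¹⁻¹ = x := by group
        rwa [e] at h7
      exact sup_le (h4 A₁ le_sup_left) (h4 A₂ le_sup_right)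
    rcases hNmin.2.2 K hKn hKN with h | h
    · -- `N` is central
      have hcen : N ≤ centralizer ((A₁ ⊔ A₂ : Subgroup G) : Set G) := by
        have e1 : ⁅N, A₁⁆ = ⊥ := le_bot_iff.mp (h ▸ le_sup_left)
        have e2 : ⁅N, A₂⁆ = ⊥ := le_bot_iff.mp (h ▸ le_sup_right)
        rw [Subgroup.commutator_eq_bot_iff_le_centralizer] at e1 e2
        exact Subgroup.le_centralizer_iff.mp (sup_le (Subgroup.le_centralizer_iff.mp e1) (Subgroup.le_centralizer_iff.mp e2))
      have hcen' : ∀ z ∈ N, ∀ g : G, g * z = z * g := by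
        intro z hz g
        exact mem_centralizer_iff.mp (hcen hz) g (by rw [hJ]; exact mem_top g)
      have hPNn : (P ⊓ N).Normal := by
        refine ⟨fun x hx g => ?_⟩
        rw [hcen' x hx.2 g]
        simpa using hx
      rcases hNmin.2.2 (P ⊓ N) hPNn inf_le_right with h5 | h5
      · exfalso
        apply hNmin.2.1
        exact central_complement_eq_bot hS hcen' (le_antisymm hSN (sup_le hPS hNS)) h5 hNR
      · exact inf_le_right.trans (h5 ▸ inf_le_left)
    · calc S ⊓ N ≤ N := inf_le_right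
        _ = K := h.symm
        _ ≤ P := sup_le_sup (hc A₁ hN1) (hc A₂ hN2)
  · -- nonabelian minimal normal subgroup
    have hFit : N ≤ centralizer (Cfsg.fittingSubgroup G : Set G) := by
      rw [← Subgroup.commutator_eq_bot_iff_le_centralizer]
      have hF := H10.fitting_normal G
      have h1 : ⁅N, Cfsg.fittingSubgroup G⁆ ≤ N ⊓ Cfsg.fittingSubgroup G := Subgroup.commutator_le_inf _ _
      rcases hNmin.2.2 ⁅N, Cfsg.fittingSubgroup G⁆ (Subgroup.commutator_normal _ _) (h1.trans inf_le_left) with h | h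
      · exact h
      · exfalso
        apply hsol
        rw [h] at h1
        haveI := H10.fitting_isNilpotent G
        exact H10.isSolvable_of_le (h1.trans inf_le_right) inferInstance
    obtain ⟨K₀, hK₀, hK₀N⟩ := H10.exists_component_le hNn.isSubnormal hsol hFit
    set T := sSup {K : Subgroup G | Cfsg.IsComponent K ∧ K ≤ N} with hT
    have hTn : T.Normal := by
      refine ⟨fun x hx g => ?_⟩
      have h1 : T.map (MulAut.conj g).toMonoidHom ≤ T := by
        rw [Subgroup.map_le_iff_le_comap]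
        refine sSup_le ?_
        rintro K ⟨hK1, hK2⟩
        rw [← Subgroup.map_le_iff_le_comap]
        refine le_sSup ⟨H10.component_map_equiv (MulAut.conj g) hK1, ?_⟩
        rintro _ ⟨k, hk, rfl⟩
        exact hNn.conj_mem k (hK2 hk) g
      exact h1 ⟨x, hx, rfl⟩
    have hTN : T ≤ N := sSup_le fun K hK => hK.2
    have hTeq : T = N := by
      rcases hNmin.2.2 T hTn hTN with h | h
      · exfalso
        have h1 : K₀ ≤ T := le_sSup ⟨hK₀, hK₀N⟩
        rw [h, le_bot_iff] at h1
        exact H10.comp_ne_bot hK₀ h1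
      · exact h
    have hle : N ≤ (A₁ ⊓ N) ⊔ (A₂ ⊓ N) := by
      conv_lhs => rw [← hTeq]
      refine sSup_le ?_
      rintro K ⟨hK1, hK2⟩
      rcases H10.comp_le_or_commutes hK1 h₁ with h | h
      · exact (le_inf h hK2).trans le_sup_left
      rcases H10.comp_le_or_commutes hK1 h₂ with h' | h'
      · exact (le_inf h' hK2).trans le_sup_right
      exfalso
      apply H10.comp_not_comm hK1
      rw [← Subgroup.le_centralizer_iff_isMulCommutative]
      rw [Subgroup.commutator_eq_bot_iff_le_centralizer] at h h'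
      have h3 : (⊤ : Subgroup G) ≤ centralizer (K : Set G) := by rw [← hJ]; exact sup_le h h'
      exact le_top.trans h3
    by_cases hNt : N = ⊤
    · -- `G` is simple
      haveI hsimple : IsSimpleGroup G := by
        haveI : Nontrivial G := by
          rw [← Subgroup.nontrivial_iff (G := G)]
          exact ⟨⊥, N, hNmin.2.1.symm⟩
        refine ⟨fun K hK => ?_⟩
        have := hNmin.2.2 K hK (by rw [hNt]; exact le_top)
        rwa [hNt] at this
      have hs : ∀ A : Subgroup G, A.IsSubnormal → A = ⊥ ∨ A = ⊤ := by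
        intro A hA
        induction hA with
        | top => exact Or.inr rfl
        | step H K h_le hSubn hNormal ih2 =>
          rcases ih2 with h | h
          · left; exact le_bot_iff.mp (h ▸ h_le)
          · subst h
            have : H.Normal := by
              rw [← Subgroup.normalizer_eq_top_iff, eq_top_iff]
              exact (H18.normal_subgroupOf_iff h_le).mp hNormal
            exact this.eq_bot_or_eq_top
      rcases hs A₁ h₁ with h | h
      · rw [h, bot_sup_eq] at hJ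
        exact (inf_le_left : S ⊓ N ≤ S).trans ((le_inf (by rw [hJ]; exact le_top) le_rfl).trans le_sup_right)
      · exact (inf_le_left : S ⊓ N ≤ S).trans ((le_inf (by rw [h]; exact le_top) le_rfl).trans le_sup_left)
    · have hi1 : (A₁ ⊓ N).IsSubnormal := h₁.inf hNn.isSubnormal
      have hi2 : (A₂ ⊓ N).IsSubnormal := h₂.inf hNn.isSubnormal
      have h1 := hres N hNn.isSubnormal hNt (A₁ ⊓ N) (A₂ ⊓ N) inf_le_right inf_le_right hi1 hi2
      calc S ⊓ N ≤ ((A₁ ⊓ N) ⊔ (A₂ ⊓ N)) ⊓ S := le_inf (inf_le_right.trans hle) inf_le_left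
        _ ≤ _ := h1
        _ ≤ P := sup_le_sup (inf_le_inf_right _ inf_le_left) (inf_le_inf_right _ inf_le_left)

theorem sylow_join [Finite G] [Fact p.Prime] {S A₁ A₂ : Subgroup G} (hS : IsSylowOf p S ⊤) (h₁ : A₁.IsSubnormal)
    (h₂ : A₂.IsSubnormal) : (A₁ ⊔ A₂) ⊓ S = (A₁ ⊓ S) ⊔ (A₂ ⊓ S) :=
  le_antisymm (sylow_join_aux p _ rfl S A₁ A₂ hS h₁ h₂)
    (sup_le (inf_le_inf_right _ le_sup_left) (inf_le_inf_right _ le_sup_right))

end Cfsg.Agent.H19
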