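import Mathlib
import Cfsg.Prelude.Def_BaumannBlocks
import Cfsg.Agent.H19.CD
import Cfsg.Agent.H1.Basic

/-!
# Centrally large subgroups
-/

set_option autoImplicit false
set_option linter.style.haveILetI false

namespace Cfsg.Agent.H19

open Subgroup
open scoped Pointwise

variable {G : Type*} [Group G]

theorem card_center_eq (R : Subgroup G) :
    Nat.card ↥(center ↥R) = Nat.card (R ⊓ centralizer (R : Set G) : Subgroup G) := by
  have h : (center ↥R).map R.subtype = R ⊓ centralizer (R : Set G) := by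
    ext x
    constructor
    · rintro ⟨y, hy, rfl⟩
      refine mem_inf.mpr ⟨y.2, ?_⟩
      rw [mem_centralizer_iff]
      intro z hz
      have := mem_center_iff.mp hy ⟨z, hz⟩
      exact congrArg Subtype.val this
    · rintro ⟨hx, hx2⟩
      refine ⟨⟨x, hx⟩, ?_, rfl⟩
      refine mem_center_iff.mpr fun z => ?_
      exact Subtype.ext (mem_centralizer_iff.mp hx2 z z.2)
  rw [← h]
  exact (Nat.card_congr ((center ↥R).equivMapOfInjective R.subtype R.subtype_injective).toEquiv)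

theorem cl_iff' (R : Subgroup G) : Cfsg.IsCentrallyLarge R ↔
    Nat.card R * Nat.card (R ⊓ centralizer (R : Set G) : Subgroup G) = Cfsg.maxCentralProduct G := by
  unfold Cfsg.IsCentrallyLarge
  rw [card_center_eq]

theorem clm_le_max [Finite G] (R : Subgroup G) :
    Nat.card R * Nat.card (R ⊓ centralizer (R : Set G) : Subgroup G) ≤ Cfsg.maxCentralProduct G := by
  rw [← card_center_eq]
  unfold Cfsg.maxCentralProduct
  refine le_csSup ?_ ⟨R, rfl⟩
  refine (Set.finite_range (fun R : Subgroup G => Nat.card R * Nat.card (center ↥R))).bddAbove.mono ?_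
  rintro _ ⟨R, rfl⟩
  exact ⟨R, rfl⟩

theorem clm_le_cdm [Finite G] (R : Subgroup G) :
    Nat.card R * Nat.card (R ⊓ centralizer (R : Set G) : Subgroup G) ≤ cdm R := by
  unfold cdm
  gcongr
  exact Subgroup.card_le_of_le inf_le_right

theorem exists_large [Finite G] : ∃ R : Subgroup G, Cfsg.IsCentralizerLarge R := by
  have hne : {k : ℕ | ∃ R : Subgroup G, Nat.card ↥R * Nat.card ↥(Subgroup.centralizer (R : Set G)) = k}.Nonempty :=
    ⟨_, ⊥, rfl⟩
  have hbdd : BddAbove {k : ℕ | ∃ R : Subgroup G, Nat.card ↥R * Nat.card ↥(Subgroup.centralizer (R : Set G)) = k} := by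
    refine (Set.finite_range (fun R : Subgroup G => Nat.card R * Nat.card (centralizer (R : Set G)))).bddAbove.mono ?_
    rintro _ ⟨R, rfl⟩
    exact ⟨R, rfl⟩
  exact Nat.sSup_mem hne hbdd

theorem exists_cl [Finite G] : ∃ R : Subgroup G, Cfsg.IsCentrallyLarge R := by
  have hne : {k : ℕ | ∃ R : Subgroup G, Nat.card ↥R * Nat.card ↥(Subgroup.center ↥R) = k}.Nonempty :=
    ⟨_, ⊥, rfl⟩
  have hbdd : BddAbove {k : ℕ | ∃ R : Subgroup G, Nat.card ↥R * Nat.card ↥(Subgroup.center ↥R) = k} := by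
    refine (Set.finite_range (fun R : Subgroup G => Nat.card R * Nat.card (center ↥R))).bddAbove.mono ?_
    rintro _ ⟨R, rfl⟩
    exact ⟨R, rfl⟩
  exact Nat.sSup_mem hne hbdd

/-- for a measure-largest `R`, the subgroup `R C(R)` is measure-largest and self-centralizing -/
theorem large_sup_centralizer [Finite G] {R : Subgroup G} (hR : Cfsg.IsCentralizerLarge R) :
    Cfsg.IsCentralizerLarge (R ⊔ centralizer (R : Set G)) ∧
      centralizer ((R ⊔ centralizer (R : Set G) : Subgroup G) : Set G) = R ⊓ centralizer (R : Set G) := by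
  obtain ⟨h1, h2⟩ := large_centralizer hR
  refine ⟨(large_sup_inf hR h1).1, ?_⟩
  rw [centralizer_sup, ← h2, inf_comm]

theorem max_eq [Finite G] : Cfsg.maxCentralProduct G = Cfsg.maxCentralizerProduct G := by
  apply le_antisymm
  · obtain ⟨R, hR⟩ := exists_cl (G := G)
    rw [cl_iff'] at hR
    rw [← hR]
    exact (clm_le_cdm R).trans (cdm_le_max R)
  · obtain ⟨R, hR⟩ := exists_large (G := G)
    obtain ⟨h1, h2⟩ := large_sup_centralizer hR
    rw [large_iff] at h1
    rw [← h1]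
    refine le_trans (le_of_eq ?_) (clm_le_max (R ⊔ centralizer (R : Set G)))
    unfold cdm
    congr 2
    have : centralizer ((R ⊔ centralizer (R : Set G) : Subgroup G) : Set G) ≤ R ⊔ centralizer (R : Set G) := by
      rw [h2]; exact inf_le_left.trans le_sup_left
    rw [inf_eq_right.mpr this]

theorem cl_iff [Finite G] (Q : Subgroup G) : Cfsg.IsCentrallyLarge Q ↔
    Cfsg.IsCentralizerLarge Q ∧ centralizer (Q : Set G) ≤ Q := by
  constructor
  · intro h
    rw [cl_iff', max_eq] at h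
    have h1 := clm_le_cdm Q
    have h2 := cdm_le_max Q
    have h3 : cdm Q = Cfsg.maxCentralizerProduct G := le_antisymm h2 (h ▸ h1)
    refine ⟨h3, ?_⟩
    have h4 : Nat.card Q * Nat.card (Q ⊓ centralizer (Q : Set G) : Subgroup G) =
        Nat.card Q * Nat.card (centralizer (Q : Set G)) := by
      rw [h, ← h3]; rfl
    have h5 := Nat.eq_of_mul_eq_mul_left Nat.card_pos h4
    exact inf_eq_right.mp (Subgroup.eq_of_le_of_card_ge inf_le_right h5.ge)
  · rintro ⟨h1, h2⟩
    rw [cl_iff', max_eq, inf_eq_right.mpr h2]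
    exact h1

theorem cl_sup [Finite G] {Q R : Subgroup G} (hQ : Cfsg.IsCentrallyLarge Q) (hR : Cfsg.IsCentrallyLarge R) :
    Cfsg.IsCentrallyLarge (Q ⊔ R) := by
  rw [cl_iff] at *
  refine ⟨(large_sup_inf hQ.1 hR.1).1, ?_⟩
  rw [centralizer_sup]
  exact inf_le_left.trans (hQ.2.trans le_sup_left)

theorem sSup_mem_of_sup_closed [Finite G] {S : Set (Subgroup G)} (hne : S.Nonempty) {P : Subgroup G → Prop}
    (hS : ∀ R ∈ S, P R) (hsup : ∀ Q R, P Q → P R → P (Q ⊔ R)) : P (sSup S) := by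
  obtain ⟨M, ⟨⟨hM1, hM2⟩, hMmax⟩⟩ := (Set.toFinite {R : Subgroup G | P R ∧ R ≤ sSup S}).exists_maximal
    (by obtain ⟨R, hR⟩ := hne; exact ⟨R, hS R hR, le_sSup hR⟩)
  have : sSup S ≤ M := by
    refine sSup_le fun R hR => ?_
    have h1 := hMmax (y := M ⊔ R) ⟨hsup M R hM1 (hS R hR), sup_le hM2 (le_sSup hR)⟩ le_sup_left
    exact le_sup_right.trans h1
  rw [le_antisymm this hM2]
  exact hM1

theorem cl_join [Finite G] : Cfsg.IsCentrallyLarge (Cfsg.centrallyLargeJoin G) :=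
  sSup_mem_of_sup_closed exists_cl (fun _ h => h) (fun _ _ h1 h2 => cl_sup h1 h2)

theorem exists_mcl_le [Finite G] {Q : Subgroup G} (hQ : Cfsg.IsCentrallyLarge Q) :
    ∃ R : Subgroup G, Cfsg.IsMinimalCentrallyLarge R ∧ R ≤ Q := by
  obtain ⟨M, ⟨hM1, hM2⟩, hM⟩ := (Set.toFinite {R : Subgroup G | Cfsg.IsCentrallyLarge R ∧ R ≤ Q}).exists_minimal
    ⟨Q, hQ, le_rfl⟩
  refine ⟨M, ⟨hM1, fun R' h1 h2 => ?_⟩, hM2⟩
  exact le_antisymm h1 (hM ⟨h2, h1.trans hM2⟩ h1)

theorem mcl_join [Finite G] : Cfsg.IsCentrallyLarge (Cfsg.minimalCentrallyLargeJoin G) := by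
  obtain ⟨Q, hQ⟩ := exists_cl (G := G)
  obtain ⟨R, hR, _⟩ := exists_mcl_le hQ
  exact sSup_mem_of_sup_closed ⟨R, hR⟩ (fun _ h => h.1) (fun _ _ h1 h2 => cl_sup h1 h2)

/-! ## Abelian subgroups of largest order -/

theorem maxAb_comm {A : Subgroup G} (hA : A ∈ Cfsg.maxAbelianSubgroups G) : ∀ x ∈ A, ∀ y ∈ A, x * y = y * x := by
  intro x hx y hy
  have := hA.1.is_comm.comm ⟨x, hx⟩ ⟨y, hy⟩
  exact congrArg Subtype.val this

theorem isMulCommutative_of {A : Subgroup G} (h : ∀ x ∈ A, ∀ y ∈ A, x * y = y * x) : IsMulCommutative A :=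
  ⟨⟨fun x y => Subtype.ext (h x x.2 y y.2)⟩⟩

theorem comm_of_isMulCommutative {A : Subgroup G} (hA : IsMulCommutative A) : ∀ x ∈ A, ∀ y ∈ A, x * y = y * x := by
  intro x hx y hy
  have := hA.is_comm.comm ⟨x, hx⟩ ⟨y, hy⟩
  exact congrArg Subtype.val this

/-- the join of two commuting abelian subgroups is abelian -/
theorem comm_sup {A B : Subgroup G} (hA : ∀ x ∈ A, ∀ y ∈ A, x * y = y * x) (hB : ∀ x ∈ B, ∀ y ∈ B, x * y = y * x)
    (hAB : ∀ x ∈ A, ∀ y ∈ B, x * y = y * x) : ∀ x ∈ A ⊔ B, ∀ y ∈ A ⊔ B, x * y = y * x := by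
  have h1 : A ⊔ B ≤ centralizer ((A ⊔ B : Subgroup G) : Set G) := by
    rw [centralizer_sup]
    refine sup_le (le_inf ?_ ?_) (le_inf ?_ ?_)
    · intro x hx; rw [mem_centralizer_iff]; intro y hy; exact hA y hy x hx
    · intro x hx; rw [mem_centralizer_iff]; intro y hy; exact (hAB x hx y hy).symm
    · intro x hx; rw [mem_centralizer_iff]; intro y hy; exact hAB y hy x hx
    · intro x hx; rw [mem_centralizer_iff]; intro y hy; exact hB y hy x hx
  intro x hx y hy
  exact mem_centralizer_iff.mp (h1 hy) x hx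

theorem comm_zpowers (x : G) : ∀ a ∈ zpowers x, ∀ b ∈ zpowers x, a * b = b * a := by
  rintro _ ⟨m, rfl⟩ _ ⟨n, rfl⟩
  exact ((Commute.refl x).zpow_zpow m n).eq

theorem maxAb_centralizer [Finite G] {A : Subgroup G} (hA : A ∈ Cfsg.maxAbelianSubgroups G) :
    centralizer (A : Set G) = A := by
  apply le_antisymm
  · intro x hx
    have h1 := comm_sup (maxAb_comm hA) (comm_zpowers x) (by
      rintro a ha _ ⟨n, rfl⟩
      have h2 : Commute a x := mem_centralizer_iff.mp hx a ha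
      exact (h2.zpow_right n).eq)
    have h2 := hA.2 _ (isMulCommutative_of h1)
    have h3 := Subgroup.eq_of_le_of_card_ge (le_sup_left : A ≤ A ⊔ zpowers x) h2
    rw [h3]
    exact (le_sup_right : zpowers x ≤ A ⊔ zpowers x) (mem_zpowers x)
  · intro x hx
    rw [mem_centralizer_iff]
    intro y hy
    exact maxAb_comm hA y hy x hx

theorem exists_maxAb [Finite G] : ∃ A : Subgroup G, A ∈ Cfsg.maxAbelianSubgroups G := by
  obtain ⟨A, hA1, hA2⟩ := Set.exists_max_image {A : Subgroup G | IsMulCommutative A} (fun A => Nat.card A)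
    (Set.toFinite _) ⟨⊥, isMulCommutative_of (by intro x hx y hy; rw [mem_bot.mp hx, mem_bot.mp hy])⟩
  exact ⟨A, hA1, fun B hB => hA2 B hB⟩

/-- centrally large subgroups and large abelian subgroups -/
theorem cl_sup_maxAb [Finite G] {Q A : Subgroup G} (hQ : Cfsg.IsCentrallyLarge Q)
    (hA : A ∈ Cfsg.maxAbelianSubgroups G) :
    ((Q ⊔ A : Subgroup G) : Set G) = (Q : Set G) * (A : Set G) ∧ Cfsg.IsCentrallyLarge (Q ⊔ A) ∧
    (centralizer (Q : Set G) ⊔ (Q ⊓ A)) ∈ Cfsg.maxAbelianSubgroups G ∧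
    ((centralizer (Q : Set G) ⊔ (Q ⊓ A) : Subgroup G) : Set G) =
      (centralizer (Q : Set G) : Set G) * ((Q ⊓ A : Subgroup G) : Set G) := by
  obtain ⟨hQl, hQc⟩ := (cl_iff Q).mp hQ
  have hAc := maxAb_centralizer hA
  set Z := centralizer (Q : Set G) with hZ
  set B := Q ⊓ A with hB
  have hZB : ∀ x ∈ Z ⊔ B, ∀ y ∈ Z ⊔ B, x * y = y * x := by
    refine comm_sup ?_ ?_ ?_
    · intro x hx y hy
      exact (mem_centralizer_iff.mp hx y (hQc hy)).symm
    · intro x hx y hy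
      exact maxAb_comm hA x hx.2 y hy.2
    · intro x hx y hy
      exact (mem_centralizer_iff.mp hx y hy.1).symm
  have hZB2 : Nat.card (Z ⊔ B : Subgroup G) ≤ Nat.card A := hA.2 _ (isMulCommutative_of hZB)
  have hinf : Z ⊓ B = Z ⊓ A := by
    rw [hB, ← inf_assoc, inf_eq_left.mpr hQc]
  have h1 := card_mul_card_le (U := Z) (W := B) (C := Z ⊔ B) le_sup_left le_sup_right
  rw [hinf] at h1
  have h2 : Nat.card Z * Nat.card B ≤ Nat.card A * Nat.card (Z ⊓ A : Subgroup G) :=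
    h1.trans (by gcongr)
  have h3 := card_mul_card_le (U := Q) (W := A) (C := Q ⊔ A) le_sup_left le_sup_right
  have hcQA : centralizer ((Q ⊔ A : Subgroup G) : Set G) = Z ⊓ A := by
    rw [centralizer_sup, hAc]
  have h4 : cdm (Q ⊔ A) = Nat.card (Q ⊔ A : Subgroup G) * Nat.card (Z ⊓ A : Subgroup G) := by
    unfold cdm; rw [hcQA]
  have hf : Nat.card Q * Nat.card Z = Cfsg.maxCentralizerProduct G := hQl
  have h5 := cdm_le_max (Q ⊔ A)
  rw [h4] at h5
  have hBp : 0 < Nat.card B := Nat.card_pos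
  have hZAp : 0 < Nat.card (Z ⊓ A : Subgroup G) := Nat.card_pos
  have hQp : 0 < Nat.card Q := Nat.card_pos
  -- the chain
  have e1 : Nat.card Q * Nat.card Z * Nat.card B ≤ Nat.card Q * (Nat.card A * Nat.card (Z ⊓ A : Subgroup G)) := by
    rw [mul_assoc]; gcongr
  have e2 : Nat.card Q * (Nat.card A * Nat.card (Z ⊓ A : Subgroup G)) ≤
      (Nat.card (Q ⊔ A : Subgroup G) * Nat.card B) * Nat.card (Z ⊓ A : Subgroup G) := by
    rw [← mul_assoc]; gcongr
  have e3 : (Nat.card (Q ⊔ A : Subgroup G) * Nat.card B) * Nat.card (Z ⊓ A : Subgroup G) ≤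
      Nat.card Q * Nat.card Z * Nat.card B := by
    rw [hf]
    calc _ = (Nat.card (Q ⊔ A : Subgroup G) * Nat.card (Z ⊓ A : Subgroup G)) * Nat.card B := by ring
      _ ≤ _ := by gcongr
  have f1 : Nat.card Q * Nat.card Z * Nat.card B = Nat.card Q * (Nat.card A * Nat.card (Z ⊓ A : Subgroup G)) :=
    le_antisymm e1 (e2.trans e3)
  have f2 : Nat.card Q * (Nat.card A * Nat.card (Z ⊓ A : Subgroup G)) =
      (Nat.card (Q ⊔ A : Subgroup G) * Nat.card B) * Nat.card (Z ⊓ A : Subgroup G) :=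
    le_antisymm e2 (e3.trans e1)
  have g1 : Nat.card Z * Nat.card B = Nat.card A * Nat.card (Z ⊓ A : Subgroup G) := by
    rw [mul_assoc] at f1
    exact Nat.eq_of_mul_eq_mul_left hQp f1
  have g2 : Nat.card Q * Nat.card A = Nat.card (Q ⊔ A : Subgroup G) * Nat.card B := by
    rw [← mul_assoc] at f2
    exact Nat.eq_of_mul_eq_mul_right hZAp f2
  have g3 : cdm (Q ⊔ A) = Cfsg.maxCentralizerProduct G := by
    rw [h4]
    refine Nat.eq_of_mul_eq_mul_right hBp ?_
    rw [← hf, f1, f2]; ring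
  have hZBeq : Nat.card (Z ⊔ B : Subgroup G) = Nat.card A := by
    apply le_antisymm hZB2
    rw [g1] at h1
    exact Nat.le_of_mul_le_mul_right h1 hZAp
  refine ⟨?_, ?_, ⟨isMulCommutative_of hZB, fun C hC => hZBeq ▸ hA.2 C hC⟩, ?_⟩
  · ext y
    constructor
    · intro hy
      obtain ⟨q, hq, r, hr, h⟩ := exists_mul_of_card_le (U := Q) (W := A) (C := Q ⊔ A) le_sup_left le_sup_right
        g2.ge hy
      exact ⟨q, hq, r, hr, h⟩
    · rintro ⟨q, hq, r, hr, rfl⟩
      exact mul_mem ((le_sup_left : Q ≤ Q ⊔ A) hq) ((le_sup_right : A ≤ Q ⊔ A) hr)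
  · rw [cl_iff]
    refine ⟨g3, ?_⟩
    rw [hcQA]
    exact inf_le_right.trans le_sup_right
  · ext y
    constructor
    · intro hy
      obtain ⟨q, hq, r, hr, h⟩ := exists_mul_of_card_le (U := Z) (W := B) (C := Z ⊔ B) le_sup_left le_sup_right
        (by rw [hinf, hZBeq, g1]) hy
      exact ⟨q, hq, r, hr, h⟩
    · rintro ⟨q, hq, r, hr, rfl⟩
      exact mul_mem ((le_sup_left : Z ≤ Z ⊔ B) hq) ((le_sup_right : B ≤ Z ⊔ B) hr)

theorem centralizer_le_of_cl [Finite G] {L : Subgroup G} (hL : Cfsg.IsCentrallyLarge L)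
    (hJ : Cfsg.thompsonSubgroupA G ≤ L) :
    centralizer ((Cfsg.thompsonSubgroupA G ⊓ centralizer (Cfsg.thompsonSubgroupA G : Set G) : Subgroup G) : Set G) ≤ L := by
  obtain ⟨hLl, hLc⟩ := (cl_iff L).mp hL
  have h1 : centralizer (L : Set G) ≤
      Cfsg.thompsonSubgroupA G ⊓ centralizer (Cfsg.thompsonSubgroupA G : Set G) := by
    have h2 : centralizer (L : Set G) ≤ centralizer (Cfsg.thompsonSubgroupA G : Set G) :=
      Subgroup.centralizer_le (SetLike.coe_subset_coe.mpr hJ)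
    refine le_inf ?_ h2
    obtain ⟨A, hA⟩ := exists_maxAb (G := G)
    have h3 : A ≤ Cfsg.thompsonSubgroupA G := le_sSup hA
    calc centralizer (L : Set G) ≤ centralizer (A : Set G) := h2.trans (Subgroup.centralizer_le (SetLike.coe_subset_coe.mpr h3))
      _ = A := maxAb_centralizer hA
      _ ≤ _ := h3
  calc _ ≤ centralizer ((centralizer (L : Set G) : Subgroup G) : Set G) := Subgroup.centralizer_le (SetLike.coe_subset_coe.mpr h1)
    _ = L := (large_centralizer hLl).2.symm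

theorem thompson_le_join [Finite G] : Cfsg.thompsonSubgroupA G ≤ Cfsg.centrallyLargeJoin G := by
  refine sSup_le fun A hA => ?_
  have h1 := (cl_sup_maxAb (cl_join (G := G)) hA).2.1
  exact le_sup_right.trans (le_sSup h1)

/-- `Q ⊔ J(G)` is centrally large -/
theorem cl_sup_thompson [Finite G] {Q : Subgroup G} (hQ : Cfsg.IsCentrallyLarge Q) :
    Cfsg.IsCentrallyLarge (Q ⊔ Cfsg.thompsonSubgroupA G) := by
  obtain ⟨M, ⟨⟨hM1, hM2, hM3⟩, hMmax⟩⟩ := (Set.toFinite {R : Subgroup G | Cfsg.IsCentrallyLarge R ∧ Q ≤ R ∧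
      R ≤ Q ⊔ Cfsg.thompsonSubgroupA G}).exists_maximal ⟨Q, hQ, le_rfl, le_sup_left⟩
  have : Cfsg.thompsonSubgroupA G ≤ M := by
    refine sSup_le fun A hA => ?_
    have h1 := hMmax (y := M ⊔ A) ⟨(cl_sup_maxAb hM1 hA).2.1, hM2.trans le_sup_left,
      sup_le hM3 ((le_sSup hA : A ≤ Cfsg.thompsonSubgroupA G).trans le_sup_right)⟩ le_sup_left
    exact le_sup_right.trans h1
  rw [← le_antisymm hM3 (sup_le hM2 this)]
  exact hM1

/-! ## Minimal centrally large subgroups -/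

theorem mcl_eq_inf_sup [Finite G] {Q R : Subgroup G} (hQ : Cfsg.IsMinimalCentrallyLarge Q)
    (hR : Cfsg.IsCentrallyLarge R) : (Q ⊓ R) ⊔ centralizer (Q : Set G) = Q := by
  obtain ⟨hQl, hQc⟩ := (cl_iff Q).mp hQ.1
  obtain ⟨hRl, hRc⟩ := (cl_iff R).mp hR
  apply hQ.2
  · exact sup_le inf_le_left hQc
  · rw [cl_iff]
    refine ⟨(large_sup_inf (large_sup_inf hQl hRl).2 (large_centralizer hQl).1).1, ?_⟩
    intro x hx
    rw [centralizer_sup, ← (large_centralizer hQl).2] at hx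
    obtain ⟨hx1, hx2⟩ := mem_inf.mp hx
    rw [large_centralizer_inf hQl hRl] at hx1
    have hx3 : x ∈ (centralizer (Q : Set G) : Set G) * (centralizer (R : Set G) : Set G) := by
      rw [← large_sup_coe (large_centralizer hQl).1 (large_centralizer hRl).1]; exact hx1
    obtain ⟨z, hz, w, hw, hzw⟩ := hx3
    have hzw' : z * w = x := hzw
    have hwQ : w ∈ Q := by
      have : w = z⁻¹ * x := by rw [← hzw']; group
      rw [this]
      exact mul_mem (inv_mem (hQc hz)) hx2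
    rw [← hzw']
    exact mul_mem ((le_sup_right : centralizer (Q : Set G) ≤ _) hz)
      ((le_sup_left : Q ⊓ R ≤ _) (mem_inf.mpr ⟨hwQ, hRc hw⟩))

theorem mcl_centralizer_inf [Finite G] {Q R : Subgroup G} (hQ : Cfsg.IsMinimalCentrallyLarge Q)
    (hR : Cfsg.IsCentrallyLarge R) :
    centralizer (Q : Set G) ⊓ R = (Q ⊓ R) ⊓ centralizer ((Q ⊓ R : Subgroup G) : Set G) := by
  obtain ⟨hQl, hQc⟩ := (cl_iff Q).mp hQ.1
  apply le_antisymm
  · rintro x ⟨h1, h2⟩
    exact mem_inf.mpr ⟨mem_inf.mpr ⟨hQc h1, h2⟩, Subgroup.centralizer_le inf_le_left h1⟩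
  · rintro x ⟨⟨h1, h2⟩, h3⟩
    refine mem_inf.mpr ⟨?_, h2⟩
    rw [← mcl_eq_inf_sup hQ hR, centralizer_sup, ← (large_centralizer hQl).2]
    exact mem_inf.mpr ⟨h3, h1⟩

theorem mcl_card_aux [Finite G] {Q R : Subgroup G} (hQ : Cfsg.IsMinimalCentrallyLarge Q)
    (hR : Cfsg.IsCentrallyLarge R) :
    Nat.card Q * Nat.card (centralizer (Q : Set G) ⊓ R : Subgroup G) =
      Nat.card (Q ⊓ R : Subgroup G) * Nat.card (centralizer (Q : Set G)) := by
  obtain ⟨hQl, hQc⟩ := (cl_iff Q).mp hQ.1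
  obtain ⟨hRl, hRc⟩ := (cl_iff R).mp hR
  have h1 := (large_card_eq (large_sup_inf hQl hRl).2 (large_centralizer hQl).1).1
  rw [mcl_eq_inf_sup hQ hR] at h1
  rw [← h1]
  congr 2
  rw [inf_assoc, inf_comm R, ← inf_assoc, inf_eq_right.mpr hQc]

theorem mcl_card [Finite G] {Q R : Subgroup G} (hQ : Cfsg.IsMinimalCentrallyLarge Q)
    (hR : Cfsg.IsMinimalCentrallyLarge R) : Nat.card Q = Nat.card R ∧
    Nat.card (centralizer (Q : Set G)) = Nat.card (centralizer (R : Set G)) := by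
  obtain ⟨hQl, hQc⟩ := (cl_iff Q).mp hQ.1
  obtain ⟨hRl, hRc⟩ := (cl_iff R).mp hR.1
  have h1 := mcl_card_aux hQ hR.1
  have h2 := mcl_card_aux hR hQ.1
  have h3 : centralizer (Q : Set G) ⊓ R = centralizer (R : Set G) ⊓ Q := by
    rw [mcl_centralizer_inf hQ hR.1, mcl_centralizer_inf hR hQ.1, inf_comm Q R]
  rw [← h3, inf_comm R Q] at h2
  have h4 : Nat.card Q * Nat.card (centralizer (Q : Set G)) = Nat.card R * Nat.card (centralizer (R : Set G)) :=
    (hQl : cdm Q = _).trans (hRl : cdm R = _).symm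
  have hm : 0 < Nat.card (centralizer (Q : Set G) ⊓ R : Subgroup G) := Nat.card_pos
  have h5 : Nat.card Q ^ 2 = Nat.card R ^ 2 := by
    refine Nat.eq_of_mul_eq_mul_right hm ?_
    calc Nat.card Q ^ 2 * Nat.card (centralizer (Q : Set G) ⊓ R : Subgroup G)
        = Nat.card Q * (Nat.card Q * Nat.card (centralizer (Q : Set G) ⊓ R : Subgroup G)) := by ring
      _ = Nat.card (Q ⊓ R : Subgroup G) * (Nat.card Q * Nat.card (centralizer (Q : Set G))) := by rw [h1]; ring
      _ = Nat.card (Q ⊓ R : Subgroup G) * (Nat.card R * Nat.card (centralizer (R : Set G))) := by rw [h4]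
      _ = Nat.card R * (Nat.card R * Nat.card (centralizer (Q : Set G) ⊓ R : Subgroup G)) := by rw [h2]; ring
      _ = _ := by ring
  have h6 : Nat.card Q = Nat.card R := Nat.pow_left_injective (n := 2) (by norm_num) h5
  refine ⟨h6, ?_⟩
  rw [h6] at h4
  exact Nat.eq_of_mul_eq_mul_left Nat.card_pos h4

open scoped commutatorElement in
theorem mcl_commutator_le [Finite G] {Q R : Subgroup G} (hQ : Cfsg.IsMinimalCentrallyLarge Q)
    (hR : Cfsg.IsCentrallyLarge R) : ⁅Q, Q⁆ ≤ ⁅R, R⁆ := by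
  obtain ⟨hQl, hQc⟩ := (cl_iff Q).mp hQ.1
  obtain ⟨hRl, hRc⟩ := (cl_iff R).mp hR
  have hset := large_sup_coe (large_sup_inf hQl hRl).2 (large_centralizer hQl).1
  rw [mcl_eq_inf_sup hQ hR] at hset
  rw [Subgroup.commutator_le]
  intro x hx y hy
  have hx1 : x ∈ ((Q ⊓ R : Subgroup G) : Set G) * (centralizer (Q : Set G) : Set G) := by rw [← hset]; exact hx
  have hy1 : y ∈ ((Q ⊓ R : Subgroup G) : Set G) * (centralizer (Q : Set G) : Set G) := by rw [← hset]; exact hy
  obtain ⟨a, ha, b, hb, hab⟩ := hx1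
  obtain ⟨c, hc, d, hd, hcd⟩ := hy1
  have hab' : a * b = x := hab
  have hcd' : c * d = y := hcd
  have e1 : Commute b y := (mem_centralizer_iff.mp hb y hy).symm
  have e2 : Commute d a := (mem_centralizer_iff.mp hd a ha.1).symm
  have h1 : ⁅x, y⁆ = ⁅a, c⁆ := by
    have h2 : ⁅x, y⁆ = ⁅a, y⁆ := by
      rw [← hab', commutatorElement_def, commutatorElement_def]
      calc a * b * y * (a * b)⁻¹ * y⁻¹ = a * (b * y) * b⁻¹ * a⁻¹ * y⁻¹ := by group
        _ = a * (y * b) * b⁻¹ * a⁻¹ * y⁻¹ := by rw [e1.eq]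
        _ = _ := by group
    rw [h2, ← hcd', commutatorElement_def, commutatorElement_def]
    have e3 : d * a⁻¹ = a⁻¹ * d := e2.inv_right.eq
    calc a * (c * d) * a⁻¹ * (c * d)⁻¹ = a * c * (d * a⁻¹) * d⁻¹ * c⁻¹ := by group
      _ = a * c * (a⁻¹ * d) * d⁻¹ * c⁻¹ := by rw [e3]
      _ = _ := by group
  rw [h1]
  exact Subgroup.commutator_mem_commutator ha.2 hc.2

/-- if some minimal centrally large subgroup is abelian, then they are the abelian subgroups of largest order -/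
theorem mcl_iff_maxAb [Finite G] {Q : Subgroup G} (hQ : Cfsg.IsMinimalCentrallyLarge Q)
    (hab : IsMulCommutative Q) (X : Subgroup G) :
    Cfsg.IsMinimalCentrallyLarge X ↔ X ∈ Cfsg.maxAbelianSubgroups G := by
  obtain ⟨hQl, hQc⟩ := (cl_iff Q).mp hQ.1
  have habel : ∀ {A : Subgroup G}, IsMulCommutative A → A ≤ centralizer (A : Set G) := by
    intro A hA x hx
    rw [mem_centralizer_iff]
    intro y hy
    exact comm_of_isMulCommutative hA y hy x hx
  have hQc2 : centralizer (Q : Set G) = Q := le_antisymm hQc (habel hab)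
  have hf : Nat.card Q * Nat.card Q = Cfsg.maxCentralizerProduct G := by
    have : Nat.card Q * Nat.card (centralizer (Q : Set G)) = Cfsg.maxCentralizerProduct G := hQl
    rwa [hQc2] at this
  have hmax : ∀ A ∈ Cfsg.maxAbelianSubgroups G, Nat.card A = Nat.card Q := by
    intro A hA
    have h1 := cdm_le_max A
    unfold cdm at h1
    rw [maxAb_centralizer hA, ← hf] at h1
    exact le_antisymm (Nat.mul_self_le_mul_self_iff.mp h1) (hA.2 Q hab)
  constructor
  · intro hX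
    obtain ⟨h1, h2⟩ := mcl_card hX hQ
    obtain ⟨hXl, hXc⟩ := (cl_iff X).mp hX.1
    rw [hQc2] at h2
    have h3 : centralizer (X : Set G) = X := Subgroup.eq_of_le_of_card_ge hXc (by rw [h2, h1])
    refine ⟨isMulCommutative_of ?_, ?_⟩
    · intro x hx y hy
      rw [← h3] at hy
      exact mem_centralizer_iff.mp hy x hx
    · intro B hB
      obtain ⟨A, hA⟩ := exists_maxAb (G := G)
      rw [h1, ← hmax A hA]
      exact hA.2 B hB
  · intro hX
    have hXc := maxAb_centralizer hX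
    refine ⟨?_, ?_⟩
    · rw [cl_iff, hXc]
      refine ⟨?_, le_rfl⟩
      rw [large_iff]
      unfold cdm
      rw [hXc, hmax X hX, hf]
    · intro R' h1 h2
      apply le_antisymm h1
      calc X = centralizer (X : Set G) := hXc.symm
        _ ≤ centralizer (R' : Set G) := Subgroup.centralizer_le (SetLike.coe_subset_coe.mpr h1)
        _ ≤ R' := ((cl_iff R').mp h2).2

end Cfsg.Agent.H19
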