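import Mathlib
import Cfsg.Agent.H18.E8c
import Cfsg.Agent.H4.TwoRankOne
import Cfsg.Agent.H23.Coprime4

/-!
# Noncyclic abelian `p`-groups acting on 2-groups whose fixed point subgroups have at most one involution
-/

set_option autoImplicit false
set_option linter.unusedSectionVars false
set_option linter.style.haveILetI false
open Subgroup Cfsg.Agent.H23 Cfsg.Agent.H18.E8
open scoped commutatorElement Pointwise

namespace Cfsg.Agent.H19.EQ

variable {G : Type*} [Group G] [Finite G]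

/-- the standing hypotheses -/
structure Hyp (z : G) (W E : Subgroup G) : Prop where
  hW : IsPGroup 2 W
  hE2 : (Nat.card E).Coprime 2
  hEW : E ≤ normalizer (W : Set G)
  hEc : ∀ a ∈ E, ∀ b ∈ E, a * b = b * a
  hnc : ¬ IsCyclic E
  zW : z ∈ W
  z1 : z ≠ 1
  z2 : z * z = 1
  zE : ∀ e ∈ E, e * z = z * e
  fix : ∀ c ∈ W, (∀ e ∈ E, e * c = c * e) → c = 1 ∨ c = z
  loc : ∀ e ∈ E, e ≠ 1 → (∀ c ∈ W, c * e = e * c → c = 1 ∨ c = z) ∨
    ∃ u x, Q8 (W ⊓ centralizer ({e} : Set G)) u x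

theorem mem_F {W : Subgroup G} {e c : G} : c ∈ W ⊓ centralizer ({e} : Set G) ↔ c ∈ W ∧ c * e = e * c := by
  rw [mem_inf, mem_centralizer_singleton_iff]

theorem norm_F {W E : Subgroup G} (hEW : E ≤ normalizer (W : Set G)) (hEc : ∀ a ∈ E, ∀ b ∈ E, a * b = b * a)
    {e : G} (he : e ∈ E) : E ≤ normalizer ((W ⊓ centralizer ({e} : Set G) : Subgroup G) : Set G) := by
  refine le_normalizer_of_conj_mem ?_
  intro a ha c hc
  rw [mem_F] at hc ⊢
  refine ⟨(mem_normalizer_iff.1 (hEW ha) c).1 hc.1, ?_⟩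
  have h1 := hEc a ha e he
  have h2 : a⁻¹ * e = e * a⁻¹ := by
    rw [inv_mul_eq_iff_eq_mul, ← mul_assoc, h1, mul_inv_cancel_right]
  calc a * c * a⁻¹ * e = a * (c * e) * a⁻¹ := by rw [mul_assoc (a * c), h2]; group
    _ = (a * e) * c * a⁻¹ := by rw [hc.2]; group
    _ = e * (a * c * a⁻¹) := by rw [h1]; group

theorem gen {W E : Subgroup G} (hW : IsPGroup 2 W) (hE2 : (Nat.card E).Coprime 2)
    (hEW : E ≤ normalizer (W : Set G)) (hEc : ∀ a ∈ E, ∀ b ∈ E, a * b = b * a) (hnc : ¬ IsCyclic E)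
    {Y : Subgroup G} (hY : ∀ e ∈ E, e ≠ 1 → ∀ c ∈ W, c * e = e * c → c ∈ Y) : W ≤ Y := by
  have hA : IsMulCommutative E := ⟨⟨fun a b => Subtype.ext (hEc a a.2 b b.2)⟩⟩
  have h := iSup_centralizer_of_not_isCyclic hA hnc hEW (coprime_of hE2 hW)
  rw [← h]
  refine iSup_le ?_
  rintro ⟨e, he, he1⟩ c hc
  have := mem_F.1 hc
  exact hY e he he1 c this.1 this.2

variable {z : G} {W E : Subgroup G}

theorem Hyp.gen (h : Hyp z W E) {Y : Subgroup G} (hY : ∀ e ∈ E, e ≠ 1 → ∀ c ∈ W, c * e = e * c → c ∈ Y) :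
    W ≤ Y := EQ.gen h.hW h.hE2 h.hEW h.hEc h.hnc hY

theorem Hyp.u2 (h : Hyp z W E) {e u x : G} (he : e ∈ E)
    (hq : Q8 (W ⊓ centralizer ({e} : Set G)) u x) : u ^ 2 = z := by
  have h1 : z ∈ zpowers (u ^ 2) := hq.invol (mem_F.2 ⟨h.zW, (h.zE e he).symm⟩) h.z2
  rcases hq.mem_z.1 h1 with h2 | h2
  · exact absurd h2 h.z1
  · exact h2.symm

theorem Hyp.not_cent (h : Hyp z W E) {e u x : G} (he : e ∈ E)
    (hq : Q8 (W ⊓ centralizer ({e} : Set G)) u x) :
    ¬ (W ⊓ centralizer ({e} : Set G)) ≤ centralizer (E : Set G) := by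
  intro hc
  have h1 := hq.hu
  have h2 := h.fix u (mem_F.1 h1).1 (fun e he => (mem_centralizer_iff.1 (hc h1) e he))
  rcases h2 with h2 | h2
  · exact hq.u2 (by rw [h2]; simp)
  · exact hq.u2 (by rw [h2, pow_two, h.z2])

/-- an `E`-invariant subgroup of a quaternion `C_W(e)` is in `⟨z⟩` or everything -/
theorem Hyp.inv (h : Hyp z W E) {e u x : G} (he : e ∈ E)
    (hq : Q8 (W ⊓ centralizer ({e} : Set G)) u x) {M : Subgroup G} (hM : M ≤ W ⊓ centralizer ({e} : Set G))
    (hEM : E ≤ normalizer (M : Set G)) : M = W ⊓ centralizer ({e} : Set G) ∨ ∀ c ∈ M, c = 1 ∨ c = z := by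
  by_cases h1 : M = W ⊓ centralizer ({e} : Set G)
  · exact Or.inl h1
  · right
    intro c hc
    have h2 := hq.inv h.hE2 (norm_F h.hEW h.hEc he) (h.not_cent he hq) hM hEM h1 hc
    rw [h.u2 he hq] at h2
    have h3 := (hq.mem_z (y := c)).1 (by rw [h.u2 he hq]; exact h2)
    rwa [h.u2 he hq] at h3

theorem Hyp.zc (h : Hyp z W E) : ∀ w ∈ W, w * z = z * w := by
  have h1 : W ≤ centralizer ({z} : Set G) := by
    refine h.gen ?_
    intro e he he1 c hc hce
    rw [mem_centralizer_singleton_iff]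
    rcases h.loc e he he1 with h2 | ⟨u, x, hq⟩
    · rcases h2 c hc hce with h3 | h3
      · rw [h3, one_mul, mul_one]
      · rw [h3]
    · have hz := h.u2 he hq
      have hcR : c ∈ W ⊓ centralizer ({e} : Set G) := mem_F.2 ⟨hc, hce⟩
      have hxz : x * z = z * x := by
        rw [← hz, ← hq.sq]; group
      have huz : u * z = z * u := by
        rw [← hz]; group
      have h4 := hq.cent_of (g := z) huz.symm hxz.symm
      exact mem_centralizer_iff.1 h4 c hcR
  intro w hw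
  exact mem_centralizer_singleton_iff.1 (h1 hw)

/-- elements which are central modulo `z` -/
def Z2 (z : G) (W : Subgroup G) : Set G := {w | w ∈ W ∧ ∀ y ∈ W, w * y = y * w ∨ w * y = z * (y * w)}

/-- as a subgroup -/
def Z2s (h : Hyp z W E) : Subgroup G where
  carrier := Z2 z W
  one_mem' := ⟨W.one_mem, fun y _ => Or.inl (by rw [one_mul, mul_one])⟩
  mul_mem' := by
    rintro a b ⟨ha, ha'⟩ ⟨hb, hb'⟩
    refine ⟨W.mul_mem ha hb, fun y hy => ?_⟩
    have haz := h.zc a ha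
    rcases ha' y hy with h1 | h1 <;> rcases hb' y hy with h2 | h2
    · left
      rw [mul_assoc, h2, ← mul_assoc, h1, mul_assoc]
    · right
      rw [mul_assoc, h2, ← mul_assoc, haz, mul_assoc, ← mul_assoc a, h1]; group
    · right
      rw [mul_assoc, h2, ← mul_assoc, h1]; group
    · left
      rw [mul_assoc, h2, ← mul_assoc, haz, mul_assoc, ← mul_assoc a, h1]
      calc z * (z * (y * a) * b) = (z * z) * (y * (a * b)) := by group
        _ = _ := by rw [h.z2, one_mul]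
  inv_mem' := by
    rintro a ⟨ha, ha'⟩
    refine ⟨W.inv_mem ha, fun y hy => ?_⟩
    have haz := h.zc a ha
    rcases ha' y hy with h1 | h1
    · left
      rw [inv_mul_eq_iff_eq_mul, ← mul_assoc, h1, mul_inv_cancel_right]
    · right
      have hyz := h.zc y hy
      rw [inv_mul_eq_iff_eq_mul]
      have h3 : a * (z * (y * a⁻¹)) = z * (a * y) * a⁻¹ := by
        rw [← mul_assoc a z, haz]; group
      rw [h3, h1]
      calc y = (z * z) * y := by rw [h.z2, one_mul]
        _ = z * (z * (y * a)) * a⁻¹ := by group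

theorem Hyp.norm_Z2 (h : Hyp z W E) : E ≤ normalizer ((Z2s h : Subgroup G) : Set G) := by
  refine le_normalizer_of_conj_mem ?_
  rintro a ha w ⟨hw, hw'⟩
  have hn := h.hEW ha
  refine ⟨(mem_normalizer_iff.1 hn w).1 hw, fun y hy => ?_⟩
  have hy' : a⁻¹ * y * a ∈ W := by
    have := (mem_normalizer_iff.1 (inv_mem hn) y).1 hy
    simpa using this
  have hza : a * z = z * a := h.zE a ha
  rcases hw' _ hy' with h1 | h1
  · left
    calc a * w * a⁻¹ * y = a * (w * (a⁻¹ * y * a)) * a⁻¹ := by group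
      _ = a * ((a⁻¹ * y * a) * w) * a⁻¹ := by rw [h1]
      _ = _ := by group
  · right
    calc a * w * a⁻¹ * y = a * (w * (a⁻¹ * y * a)) * a⁻¹ := by group
      _ = (a * z) * ((a⁻¹ * y * a) * w) * a⁻¹ := by rw [h1]; group
      _ = (z * a) * ((a⁻¹ * y * a) * w) * a⁻¹ := by rw [hza]
      _ = _ := by group

end Cfsg.Agent.H19.EQ
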