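import Mathlib
import Cfsg.Agent.H19.EQ1
import Cfsg.Agent.H1.Hall

/-!
# Noncyclic abelian `p`-groups acting on 2-groups: the structure of `W`
-/

set_option autoImplicit false
set_option linter.unusedSectionVars false
set_option linter.unusedVariables false
set_option linter.style.haveILetI false
open Subgroup Cfsg.Agent.H23 Cfsg.Agent.H18.E8
open scoped commutatorElement Pointwise

namespace Cfsg.Agent.H19.EQ

variable {G : Type*} [Group G] [Finite G] {z : G} {W E : Subgroup G}

theorem mem_zp (z2 : z * z = 1) {c : G} : c ∈ zpowers z ↔ c = 1 ∨ c = z := by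
  constructor
  · rintro ⟨i, rfl⟩
    have h2 : z ^ (2 : ℤ) = 1 := by rw [zpow_ofNat, pow_two, z2]
    rcases Int.even_or_odd' i with ⟨j, rfl | rfl⟩
    · left
      show z ^ (2 * j) = 1
      rw [zpow_mul, h2, one_zpow]
    · right
      show z ^ (2 * j + 1) = z
      rw [zpow_add, zpow_mul, h2, one_zpow, one_mul, zpow_one]
  · rintro (rfl | rfl)
    · exact one_mem _
    · exact mem_zpowers _

theorem Hyp.exists_Z2 (h : Hyp z W E) (hne : ∃ w ∈ W, w ∉ zpowers z) :
    ∃ w ∈ (Z2s h : Subgroup G), w ∉ zpowers z := by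
  obtain ⟨w, hw, hwz⟩ := hne
  haveI : Fact (Nat.Prime 2) := ⟨Nat.prime_two⟩
  set N : Subgroup W := zpowers (⟨z, h.zW⟩ : W) with hN
  have hmem : ∀ c : W, c ∈ N ↔ (c : G) ∈ zpowers z := by
    intro c
    rw [hN, mem_zp h.z2, mem_zp (Subtype.ext h.z2), Subtype.ext_iff, Subtype.ext_iff]
    rfl
  haveI hNn : N.Normal := by
    refine ⟨fun c hc g => ?_⟩
    rw [hmem, mem_zp h.z2] at hc ⊢
    rcases hc with hc | hc
    · left
      show (g : G) * c * (g : G)⁻¹ = 1
      rw [hc]; group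
    · right
      show (g : G) * c * (g : G)⁻¹ = z
      rw [hc, h.zc g g.2]; group
  have hP : IsPGroup 2 (W ⧸ N) := h.hW.to_quotient N
  haveI : Nontrivial (W ⧸ N) := by
    refine ⟨⟨QuotientGroup.mk ⟨w, hw⟩, 1, ?_⟩⟩
    intro h1
    rw [QuotientGroup.eq_one_iff, hmem] at h1
    exact hwz h1
  haveI := hP.center_nontrivial
  obtain ⟨⟨c, hc⟩, hc1⟩ := exists_ne (1 : center (W ⧸ N))
  obtain ⟨c, rfl⟩ := QuotientGroup.mk_surjective c
  refine ⟨c, ⟨c.2, fun y hy => ?_⟩, ?_⟩
  · have h1 := mem_center_iff.1 hc (QuotientGroup.mk ⟨y, hy⟩)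
    rw [← QuotientGroup.mk_mul, ← QuotientGroup.mk_mul, QuotientGroup.eq, hmem, mem_zp h.z2] at h1
    have e : (((⟨y, hy⟩ * c)⁻¹ * (c * ⟨y, hy⟩) : W) : G) = (y * c)⁻¹ * (c * y) := rfl
    rw [e] at h1
    rcases h1 with h1 | h1
    · left
      exact (inv_mul_eq_one.1 h1).symm
    · right
      rw [inv_mul_eq_iff_eq_mul] at h1
      rw [h1, h.zc _ (W.mul_mem hy c.2)]
  · intro hcz
    apply hc1
    apply Subtype.ext
    show (QuotientGroup.mk c : W ⧸ N) = 1
    rw [QuotientGroup.eq_one_iff, hmem]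
    exact hcz

theorem Hyp.exists_R (h : Hyp z W E) (hne : ∃ w ∈ W, w ∉ zpowers z) :
    ∃ e ∈ E, e ≠ 1 ∧ ∃ u x, Q8 (W ⊓ centralizer ({e} : Set G)) u x ∧
      (W ⊓ centralizer ({e} : Set G)) ≤ Z2s h := by
  obtain ⟨w, hw, hwz⟩ := h.exists_Z2 hne
  have hZW : (Z2s h : Subgroup G) ≤ W := fun a ha => ha.1
  obtain ⟨e, he, he1, c, hc, hce, hcz⟩ : ∃ e ∈ E, e ≠ 1 ∧ ∃ c ∈ (Z2s h : Subgroup G), c * e = e * c ∧ c ∉ zpowers z := by
    by_contra hcon
    push Not at hcon
    exact hwz (EQ.gen (h.hW.to_le hZW) h.hE2 h.norm_Z2 h.hEc h.hnc (Y := zpowers z) hcon hw)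
  refine ⟨e, he, he1, ?_⟩
  rcases h.loc e he he1 with h2 | ⟨u, x, hq⟩
  · exact absurd ((mem_zp h.z2).2 (h2 c hc.1 hce)) hcz
  · refine ⟨u, x, hq, ?_⟩
    have hM : (Z2s h : Subgroup G) ⊓ (W ⊓ centralizer ({e} : Set G)) ≤ W ⊓ centralizer ({e} : Set G) := inf_le_right
    have hEM : E ≤ normalizer (((Z2s h : Subgroup G) ⊓ (W ⊓ centralizer ({e} : Set G)) : Subgroup G) : Set G) := by
      refine le_normalizer_of_conj_mem ?_
      intro a ha c hc
      exact ⟨(mem_normalizer_iff.1 (h.norm_Z2 ha) c).1 hc.1,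
        (mem_normalizer_iff.1 (norm_F h.hEW h.hEc he ha) c).1 hc.2⟩
    rcases h.inv he hq hM hEM with h3 | h3
    · rw [← h3]; exact inf_le_left
    · exact absurd ((mem_zp h.z2).2 (h3 c ⟨hc, mem_F.2 ⟨hc.1, hce⟩⟩)) hcz

/-- the elements of `E` with large fixed point subgroup -/
def T (z : G) (W E : Subgroup G) : Set G := {e | e ∈ E ∧ e ≠ 1 ∧ ∃ c ∈ W, c ∉ zpowers z ∧ c * e = e * c}

theorem Hyp.ne_inv (h : Hyp z W E) {e : G} (he : e ∈ E) (he1 : e ≠ 1) : e ≠ e⁻¹ := by
  intro h1
  apply he1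
  have h2 : e ^ 2 = 1 := by
    rw [pow_two]
    nth_rewrite 2 [h1]
    exact mul_inv_cancel e
  have h3 : orderOf e ∣ 2 := orderOf_dvd_of_pow_eq_one h2
  have h4 : orderOf e ∣ Nat.card E := by
    have := orderOf_dvd_natCard (⟨e, he⟩ : E)
    rwa [orderOf_mk] at this
  have h5 := Nat.eq_one_of_dvd_coprimes h.hE2 h4 h3
  exact orderOf_eq_one_iff.1 h5

section step
variable (h : Hyp z W E) {e u x : G} (he : e ∈ E) (he1 : e ≠ 1)
  (hq : Q8 (W ⊓ centralizer ({e} : Set G)) u x) (hR : (W ⊓ centralizer ({e} : Set G)) ≤ Z2s h)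
include h he he1 hq hR

theorem step_decomp {w : G} (hw : w ∈ W) :
    ∃ r ∈ W ⊓ centralizer ({e} : Set G),
      ∃ w1 ∈ W ⊓ centralizer ((W ⊓ centralizer ({e} : Set G) : Subgroup G) : Set G), w = r * w1 := by
  have hz := h.u2 he hq
  have key : ∀ v ∈ W ⊓ centralizer ({e} : Set G), w * v * w⁻¹ * v⁻¹ ∈ zpowers (u ^ 2) := by
    intro v hv
    rw [hz, mem_zp h.z2]
    have hvz := h.zc v (mem_F.1 hv).1
    have hwz := h.zc w hw
    rcases (hR hv).2 w hw with h1 | h1
    · left
      rw [← h1]; group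
    · right
      have h2 : w * v = z * (v * w) := by
        rw [h1, ← mul_assoc, h.z2, one_mul]
      rw [h2]; group
  obtain ⟨r, hr, hrc⟩ := hq.inner (key u hq.hu) (key x hq.hx)
  refine ⟨r, hr, r⁻¹ * w, ⟨W.mul_mem (W.inv_mem (mem_F.1 hr).1) hw, hrc⟩, by group⟩

theorem step_inf {c : G} (hc : c ∈ W ⊓ centralizer ({e} : Set G))
    (hc' : c ∈ centralizer ((W ⊓ centralizer ({e} : Set G) : Subgroup G) : Set G)) : c = 1 ∨ c = z := by
  have hEM : E ≤ normalizer (((W ⊓ centralizer ({e} : Set G)) ⊓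
      centralizer ((W ⊓ centralizer ({e} : Set G) : Subgroup G) : Set G) : Subgroup G) : Set G) := by
    have hN := norm_F h.hEW h.hEc he
    refine le_normalizer_of_conj_mem ?_
    intro a ha d hd
    refine ⟨(mem_normalizer_iff.1 (hN ha) d).1 hd.1, ?_⟩
    refine mem_centralizer_iff.2 fun y hy => ?_
    have hy' : a⁻¹ * y * a ∈ W ⊓ centralizer ({e} : Set G) := by
      have := (mem_normalizer_iff.1 (inv_mem (hN ha)) y).1 hy
      simpa using this
    have h1 := mem_centralizer_iff.1 hd.2 _ hy'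
    calc y * (a * d * a⁻¹) = a * ((a⁻¹ * y * a) * d) * a⁻¹ := by group
      _ = a * (d * (a⁻¹ * y * a)) * a⁻¹ := by rw [h1]
      _ = _ := by group
  rcases h.inv he hq inf_le_left hEM with h1 | h1
  · exfalso
    have h2 : u ∈ (W ⊓ centralizer ({e} : Set G)) ⊓
      centralizer ((W ⊓ centralizer ({e} : Set G) : Subgroup G) : Set G) := by rw [h1]; exact hq.hu
    exact hq.not_comm (mem_centralizer_iff.1 h2.2 x hq.hx)
  · exact h1 c ⟨hc, hc'⟩

theorem step_hyp : Hyp z (W ⊓ centralizer ((W ⊓ centralizer ({e} : Set G) : Subgroup G) : Set G)) E := by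
  have hN := norm_F h.hEW h.hEc he
  have hEW1 : E ≤ normalizer ((W ⊓ centralizer ((W ⊓ centralizer ({e} : Set G) : Subgroup G) : Set G) : Subgroup G) : Set G) := by
    refine le_normalizer_of_conj_mem ?_
    intro a ha d hd
    refine ⟨(mem_normalizer_iff.1 (h.hEW ha) d).1 hd.1, ?_⟩
    refine mem_centralizer_iff.2 fun y hy => ?_
    have hy' : a⁻¹ * y * a ∈ W ⊓ centralizer ({e} : Set G) := by
      have := (mem_normalizer_iff.1 (inv_mem (hN ha)) y).1 hy
      simpa using this
    have h1 := mem_centralizer_iff.1 hd.2 _ hy'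
    calc y * (a * d * a⁻¹) = a * ((a⁻¹ * y * a) * d) * a⁻¹ := by group
      _ = a * (d * (a⁻¹ * y * a)) * a⁻¹ := by rw [h1]
      _ = _ := by group
  refine ⟨h.hW.to_le inf_le_left, h.hE2, hEW1, h.hEc, h.hnc, ⟨h.zW, ?_⟩, h.z1, h.z2, h.zE,
    fun c hc => h.fix c hc.1, ?_⟩
  · refine mem_centralizer_iff.2 fun y hy => ?_
    exact h.zc y (mem_F.1 hy).1
  · intro f hf hf1
    rcases h.loc f hf hf1 with h1 | ⟨v, y, hq'⟩
    · exact Or.inl fun c hc => h1 c hc.1
    · set W1 := W ⊓ centralizer ((W ⊓ centralizer ({e} : Set G) : Subgroup G) : Set G) with hW1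
      have hM : W1 ⊓ centralizer ({f} : Set G) ≤ W ⊓ centralizer ({f} : Set G) :=
        inf_le_inf inf_le_left le_rfl
      rcases h.inv hf hq' hM (norm_F hEW1 h.hEc hf) with h2 | h2
      · right
        rw [h2]; exact ⟨v, y, hq'⟩
      · left
        intro c hc hcf
        exact h2 c (mem_F.2 ⟨hc, hcf⟩)

theorem step_T : (T z (W ⊓ centralizer ((W ⊓ centralizer ({e} : Set G) : Subgroup G) : Set G)) E).ncard + 2 ≤
    (T z W E).ncard := by
  classical
  set W1 := W ⊓ centralizer ((W ⊓ centralizer ({e} : Set G) : Subgroup G) : Set G) with hW1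
  have hfin : (T z W E).Finite := Set.toFinite _
  have hn : ∀ f, (∀ c, c * f = f * c → c * e = e * c) → f ∉ T z W1 E := by
    rintro f hf ⟨-, -, c, hc, hcz, hcf⟩
    have h1 := hf c hcf
    exact hcz ((mem_zp h.z2).2 (step_inf h he he1 hq hR (mem_F.2 ⟨hc.1, h1⟩) hc.2))
  have hi : ∀ c : G, c * e = e * c → c * e⁻¹ = e⁻¹ * c := by
    intro c hc
    rw [eq_inv_mul_iff_mul_eq, ← mul_assoc, ← hc, mul_inv_cancel_right]
  have hi' : ∀ c : G, c * e⁻¹ = e⁻¹ * c → c * e = e * c := by
    intro c hc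
    have : e * (c * e⁻¹) * e = e * (e⁻¹ * c) * e := by rw [hc]
    have e1 : e * (c * e⁻¹) * e = e * c := by group
    have e2 : e * (e⁻¹ * c) * e = c * e := by group
    rw [e1, e2] at this
    exact this.symm
  have huz : u ∉ zpowers z := by
    intro h1
    rcases (mem_zp h.z2).1 h1 with h2 | h2
    · exact hq.u2 (by rw [h2]; simp)
    · exact hq.u2 (by rw [h2, pow_two, h.z2])
  have hue := mem_F.1 hq.hu
  have hsub : T z W1 E ∪ {e, e⁻¹} ⊆ T z W E := by
    rintro f (⟨hf, hf1, c, hc, hcz, hcf⟩ | rfl | rfl)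
    · exact ⟨hf, hf1, c, hc.1, hcz, hcf⟩
    · exact ⟨he, he1, u, hue.1, huz, hue.2⟩
    · exact ⟨inv_mem he, inv_ne_one.2 he1, u, hue.1, huz, hi u hue.2⟩
  have hdis : Disjoint (T z W1 E) {e, e⁻¹} := by
    rw [Set.disjoint_left]
    rintro f hf (rfl | rfl)
    · exact hn f (fun c hc => hc) hf
    · exact hn _ hi' hf
  have h1 := Set.ncard_le_ncard hsub hfin
  rw [Set.ncard_union_eq hdis (Set.toFinite _) (Set.toFinite _), Set.ncard_pair (h.ne_inv he he1)] at h1
  exact h1

theorem step_card : Nat.card W = 4 * Nat.card ↥(W ⊓ centralizer ((W ⊓ centralizer ({e} : Set G) : Subgroup G) : Set G)) := by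
  set R := W ⊓ centralizer ({e} : Set G) with hRdef
  set W1 := W ⊓ centralizer (R : Set G) with hW1
  have hn : W1 ≤ normalizer (R : Set G) := inf_le_right.trans (Subgroup.centralizer_le_normalizer _)
  have h1 := H1.card_sup_mul_card_inf_of_le_normalizer hn
  have h2 : R ⊔ W1 = W := by
    apply le_antisymm (sup_le inf_le_left inf_le_left)
    intro w hw
    obtain ⟨r, hr, w1, hw1, rfl⟩ := step_decomp h he he1 hq hR hw
    exact mul_mem (mem_sup_left hr) (mem_sup_right hw1)
  have h3 : R ⊓ W1 = zpowers z := by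
    ext c
    rw [mem_zp h.z2]
    constructor
    · rintro ⟨hc, hc'⟩
      exact step_inf h he he1 hq hR hc hc'.2
    · have hzR : z ∈ R := mem_F.2 ⟨h.zW, (h.zE e he).symm⟩
      have hz1 : z ∈ W1 := (step_hyp h he he1 hq hR).zW
      rintro (rfl | rfl)
      · exact one_mem _
      · exact ⟨hzR, hz1⟩
  have h4 : Nat.card (zpowers z) = 2 := by
    rw [Nat.card_zpowers]
    exact orderOf_eq_prime (by rw [pow_two, h.z2]) h.z1
  have h5 := hq.card
  rw [h2, h3, h4, h5] at h1
  omega

end step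

theorem main (n : ℕ) : ∀ W : Subgroup G, Nat.card W = n → Hyp z W E →
    (∀ x ∈ W, ∀ y ∈ W, x * y = y * x ∨ x * y = z * (y * x)) ∧ (∀ x ∈ W, x * x = 1 ∨ x * x = z) ∧
    (∀ x ∈ W, (∀ y ∈ W, x * y = y * x) → x = 1 ∨ x = z) ∧
    ∃ k, Nat.card W = 2 * 4 ^ k ∧ 2 * k ≤ (T z W E).ncard := by
  induction n using Nat.strong_induction_on with
  | _ n ih =>
  intro W hn h
  by_cases hne : ∃ w ∈ W, w ∉ zpowers z
  · obtain ⟨e, he, he1, u, x, hq, hR⟩ := h.exists_R hne
    have hcard := step_card h he he1 hq hR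
    have hH := step_hyp h he he1 hq hR
    have hT := step_T h he he1 hq hR
    have hdec := fun {w : G} (hw : w ∈ W) => step_decomp h he he1 hq hR hw
    have hinf := fun {c : G} => step_inf h he he1 hq hR (c := c)
    set R := W ⊓ centralizer ({e} : Set G) with hRdef
    set W1 := W ⊓ centralizer (R : Set G) with hW1
    have hpos : 0 < Nat.card W1 := Nat.card_pos
    obtain ⟨i1, i2, i3, k, i4, i5⟩ := ih (Nat.card W1) (by omega) W1 rfl hH
    have hz := h.u2 he hq
    have hcom : ∀ r ∈ R, ∀ w ∈ W1, r * w = w * r := fun r hr w hw => mem_centralizer_iff.1 hw.2 r hr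
    have hRsq : ∀ r ∈ R, r * r = 1 ∨ r * r = z := by
      intro r hr
      rcases hq.mem hr with h1 | ⟨w, hw, rfl⟩
      · obtain ⟨i, rfl⟩ := h1
        have h2 : u ^ i * u ^ i ∈ zpowers (u ^ 2) := by
          refine ⟨i, ?_⟩
          show (u ^ 2) ^ i = u ^ i * u ^ i
          rw [← zpow_natCast, ← zpow_mul, ← zpow_add]; congr 1; push_cast; ring
        rw [hq.mem_z, hz] at h2
        exact h2
      · right
        rw [hq.sq_out hw, hz]
    refine ⟨?_, ?_, ?_, k + 1, ?_, ?_⟩
    · intro a ha b hb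
      obtain ⟨r, hr, v, hv, rfl⟩ := hdec ha
      obtain ⟨s, hs, w, hw, rfl⟩ := hdec hb
      have e1 : r * v * (s * w) = (r * s) * (v * w) := by
        have := hcom s hs v hv
        calc r * v * (s * w) = r * (v * s) * w := by group
          _ = r * (s * v) * w := by rw [this]
          _ = _ := by group
      have e2 : s * w * (r * v) = (s * r) * (w * v) := by
        have := hcom r hr w hw
        calc s * w * (r * v) = s * (w * r) * v := by group
          _ = s * (r * w) * v := by rw [this]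
          _ = _ := by group
      rw [e1, e2]
      have hsrW : s * r ∈ W := W.mul_mem hs.1 hr.1
      have hzsr := h.zc _ hsrW
      rcases (hR hr).2 s hs.1 with h1 | h1 <;> rcases i1 v hv w hw with h2 | h2
      · left; rw [h1, h2]
      · right
        rw [h1, h2]
        calc s * r * (z * (w * v)) = (s * r * z) * (w * v) := by group
          _ = _ := by rw [hzsr]; group
      · right; rw [h1, h2]; group
      · left
        rw [h1, h2]
        calc z * (s * r) * (z * (w * v)) = z * (s * r * z) * (w * v) := by group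
          _ = (z * z) * (s * r) * (w * v) := by rw [hzsr]; group
          _ = _ := by rw [h.z2, one_mul]
    · intro a ha
      obtain ⟨r, hr, v, hv, rfl⟩ := hdec ha
      have e1 : r * v * (r * v) = (r * r) * (v * v) := by
        have := hcom r hr v hv
        calc r * v * (r * v) = r * (v * r) * v := by group
          _ = r * (r * v) * v := by rw [this]
          _ = _ := by group
      rw [e1]
      rcases hRsq r hr with h1 | h1 <;> rcases i2 v hv with h2 | h2 <;> rw [h1, h2]
      · left; rw [one_mul]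
      · right; rw [one_mul]
      · right; rw [mul_one]
      · left; exact h.z2
    · intro a ha hcen
      obtain ⟨r, hr, v, hv, rfl⟩ := hdec ha
      have hrc : r ∈ centralizer (R : Set G) := by
        rw [mem_centralizer_iff]
        intro s hs
        have h1 := hcen s hs.1
        have h2 := hcom s hs v hv
        have h3 : (r * s) * v = (s * r) * v := by
          calc (r * s) * v = r * (s * v) := by group
            _ = r * v * s := by rw [h2]; group
            _ = s * (r * v) := h1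
            _ = _ := by group
        exact (mul_right_cancel h3).symm
      have hr1 : r = 1 ∨ r = z := hinf hr hrc
      have hrW1 : r ∈ W1 := ⟨hr.1, hrc⟩
      exact i3 (r * v) (mul_mem hrW1 hv) (fun y hy => hcen y hy.1)
    · rw [hcard, i4, pow_succ]; ring
    · omega
  · push Not at hne
    have hW : W = zpowers z := by
      apply le_antisymm hne
      rw [zpowers_le]; exact h.zW
    have h4 : Nat.card (zpowers z) = 2 := by
      rw [Nat.card_zpowers]
      exact orderOf_eq_prime (by rw [pow_two, h.z2]) h.z1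
    refine ⟨?_, ?_, ?_, 0, ?_, ?_⟩
    · intro a ha b hb
      left
      rw [hW] at ha hb
      rcases (mem_zp h.z2).1 ha with rfl | rfl <;> rcases (mem_zp h.z2).1 hb with h1 | h1 <;> rw [h1] <;> simp
    · intro a ha
      rw [hW] at ha
      rcases (mem_zp h.z2).1 ha with h1 | h1
      · left; rw [h1, one_mul]
      · left; rw [h1, h.z2]
    · intro a ha _
      rw [hW] at ha
      exact (mem_zp h.z2).1 ha
    · rw [hW, h4]; norm_num
    · omega

end Cfsg.Agent.H19.EQ
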