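import Mathlib
import Cfsg.Agent.H19.EQ2

/-!
# Noncyclic abelian `p`-groups acting on 2-groups: the order of `E` and of `W`
-/

set_option autoImplicit false
set_option linter.unusedSectionVars false
set_option linter.unusedVariables false
set_option linter.style.haveILetI false
open Subgroup Cfsg.Agent.H23 Cfsg.Agent.H18.E8
open scoped commutatorElement Pointwise

namespace Cfsg.Agent.H19.EQ

variable {G : Type*} [Group G] [Finite G] {z : G} {W E : Subgroup G}

theorem mem_of_sq {E H : Subgroup G} (hE2 : (Nat.card E).Coprime 2) {k : G} (hk : k ∈ E) (h2 : k * k ∈ H) : k ∈ H := by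
  have h4 : orderOf k ∣ Nat.card E := by
    have := orderOf_dvd_natCard (⟨k, hk⟩ : E)
    rwa [orderOf_mk] at this
  have h5 : (orderOf k).Coprime 2 := Nat.Coprime.coprime_dvd_left h4 hE2
  have h6 : Odd (orderOf k) := Nat.coprime_two_right.1 h5
  obtain ⟨m, hm⟩ := h6
  have h7 : (k * k) ^ (m + 1) = k := by
    rw [← pow_two, ← pow_mul]
    have : 2 * (m + 1) = orderOf k + 1 := by omega
    rw [this, pow_succ, pow_orderOf_eq_one, one_mul]
  rw [← h7]
  exact pow_mem h2 _

section
variable (h : Hyp z W E) {e u x : G} (he : e ∈ E) (he1 : e ≠ 1)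
  (hq : Q8 (W ⊓ centralizer ({e} : Set G)) u x)
include h he he1 hq

theorem mem_H {f : G} (hf : f ∈ E) (hfu : f * u = u * f) :
    f ∈ centralizer ((W ⊓ centralizer ({e} : Set G) : Subgroup G) : Set G) := by
  have hN := norm_F h.hEW h.hEc he
  have hEM : E ≤ normalizer (((W ⊓ centralizer ({e} : Set G)) ⊓ centralizer ({f} : Set G) : Subgroup G) : Set G) :=
    norm_F hN h.hEc hf
  have hu : u ∈ (W ⊓ centralizer ({e} : Set G)) ⊓ centralizer ({f} : Set G) :=
    mem_F.2 ⟨hq.hu, hfu.symm⟩
  rcases h.inv he hq inf_le_left hEM with h1 | h1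
  · refine mem_centralizer_iff.2 fun y hy => ?_
    have hy' : y ∈ (W ⊓ centralizer ({e} : Set G)) ⊓ centralizer ({f} : Set G) := by rw [h1]; exact hy
    exact (mem_F.1 hy').2
  · exfalso
    rcases h1 u hu with h2 | h2
    · exact hq.u2 (by rw [h2]; simp)
    · exact hq.u2 (by rw [h2, pow_two, h.z2])

theorem index_three :
    (E ⊓ centralizer ((W ⊓ centralizer ({e} : Set G) : Subgroup G) : Set G)).relIndex E = 3 := by
  classical
  set R := W ⊓ centralizer ({e} : Set G) with hR
  have hN : E ≤ normalizer (R : Set G) := norm_F h.hEW h.hEc he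
  set H := E ⊓ centralizer (R : Set G) with hH
  have hz := h.u2 he hq
  have hdvd : H.relIndex E ∣ Nat.card E := Subgroup.relIndex_dvd_card H E
  have hcop : (H.relIndex E).Coprime 2 := Nat.Coprime.coprime_dvd_left hdvd h.hE2
  have hne1 : H.relIndex E ≠ 1 := by
    intro h1
    rw [Subgroup.relIndex_eq_one] at h1
    apply h.not_cent he hq
    intro c hc
    refine mem_centralizer_iff.2 fun f hf => ?_
    exact (mem_centralizer_iff.1 (h1 hf).2 c hc).symm
  have hle : H.relIndex E ≤ 4 := by
    set Z : Subgroup R := (zpowers z).subgroupOf R with hZ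
    have hzR : zpowers z ≤ R := by
      rw [zpowers_le]; exact mem_F.2 ⟨h.zW, (h.zE e he).symm⟩
    have hcZ : Nat.card (↥R ⧸ Z) = 4 := by
      have h1 := Subgroup.card_eq_card_quotient_mul_card_subgroup Z
      have h2 : Nat.card Z = 2 := by
        rw [hZ, Nat.card_congr (Subgroup.subgroupOfEquivOfLe hzR).toEquiv, Nat.card_zpowers]
        exact orderOf_eq_prime (by rw [pow_two, h.z2]) h.z1
      rw [h2, hq.card] at h1
      omega
    have hmem : ∀ a : E, (a : G) * u * (a : G)⁻¹ ∈ R := fun a => (mem_normalizer_iff.1 (hN a.2) u).1 hq.hu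
    let ψ : (↥E ⧸ H.subgroupOf E) → (↥R ⧸ Z) := fun q => QuotientGroup.mk ⟨_, hmem q.out⟩
    have hψ : Function.Injective ψ := by
      intro q q' hqq
      have h1 : (⟨_, hmem q.out⟩ : R)⁻¹ * ⟨_, hmem q'.out⟩ ∈ Z := QuotientGroup.eq.1 hqq
      rw [hZ, mem_subgroupOf, mem_zp h.z2] at h1
      set a : G := (q.out : G) with ha
      set b : G := (q'.out : G) with hb
      have haE : a ∈ E := q.out.2
      have hbE : b ∈ E := q'.out.2
      have h1' : (a * u * a⁻¹)⁻¹ * (b * u * b⁻¹) = 1 ∨ (a * u * a⁻¹)⁻¹ * (b * u * b⁻¹) = z := h1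
      have hab : a⁻¹ * b ∈ E := mul_mem (inv_mem haE) hbE
      have haz : a⁻¹ * z * a = z := by
        have := h.zE a haE
        rw [mul_assoc, ← this, inv_mul_cancel_left]
      have huz : u * z = z * u := h.zc u (mem_F.1 hq.hu).1
      have key : a⁻¹ * b ∈ H := by
        rcases h1' with h2 | h2
        · rw [inv_mul_eq_one] at h2
          refine ⟨hab, mem_H h he he1 hq hab ?_⟩
          calc a⁻¹ * b * u = a⁻¹ * (b * u * b⁻¹) * b := by group
            _ = a⁻¹ * (a * u * a⁻¹) * b := by rw [h2]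
            _ = _ := by group
        · rw [inv_mul_eq_iff_eq_mul] at h2
          have h3 : (a⁻¹ * b) * u * (a⁻¹ * b)⁻¹ = u * z := by
            calc (a⁻¹ * b) * u * (a⁻¹ * b)⁻¹ = a⁻¹ * (b * u * b⁻¹) * a := by group
              _ = a⁻¹ * (a * u * a⁻¹ * z) * a := by rw [h2]
              _ = u * (a⁻¹ * z * a) := by group
              _ = _ := by rw [haz]
          have hkz : (a⁻¹ * b) * z = z * (a⁻¹ * b) := h.zE _ hab
          apply mem_of_sq h.hE2 hab
          refine ⟨mul_mem hab hab, mem_H h he he1 hq (mul_mem hab hab) ?_⟩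
          set k := a⁻¹ * b with hk
          have h4 : k * u = u * z * k := by rw [← h3]; group
          calc k * k * u = k * (k * u) := by group
            _ = k * (u * z * k) := by rw [h4]
            _ = (k * u) * z * k := by group
            _ = (u * z * k) * z * k := by rw [h4]
            _ = u * z * (k * z) * k := by group
            _ = u * (z * z) * (k * k) := by rw [hkz]; group
            _ = _ := by rw [h.z2, mul_one]
      have h5 : (QuotientGroup.mk q.out : ↥E ⧸ H.subgroupOf E) = QuotientGroup.mk q'.out := by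
        rw [QuotientGroup.eq, mem_subgroupOf]
        exact key
      rw [QuotientGroup.out_eq', QuotientGroup.out_eq'] at h5
      exact h5
    have h6 := Nat.card_le_card_of_injective ψ hψ
    rw [hcZ] at h6
    exact h6
  have hpos : H.relIndex E ≠ 0 := by
    intro h0
    rw [h0] at hdvd
    have := Nat.card_pos (α := E)
    have := Nat.eq_zero_of_zero_dvd hdvd
    omega
  have h2 : H.relIndex E ≠ 2 := by
    intro h1; rw [h1] at hcop; revert hcop; decide
  have h4 : H.relIndex E ≠ 4 := by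
    intro h1; rw [h1] at hcop; revert hcop; decide
  omega

end

theorem card_nine (h : Hyp z W E) {p : ℕ} [hp : Fact p.Prime] (hE : IsPGroup p E)
    (hf : ∀ e ∈ E, (∀ w ∈ W, w * e = e * w) → e = 1)
    {e u x : G} (he : e ∈ E) (he1 : e ≠ 1) (hq : Q8 (W ⊓ centralizer ({e} : Set G)) u x) :
    Nat.card E = 9 := by
  have h3 := index_three h he he1 hq
  obtain ⟨n, hn⟩ := IsPGroup.iff_card.1 hE
  have hp3 : p = 3 := by
    have h1 : 3 ∣ p ^ n := by
      rw [← hn, ← h3]; exact Subgroup.relIndex_dvd_card _ E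
    exact ((Nat.prime_dvd_prime_iff_eq Nat.prime_three hp.out).1 (Nat.prime_three.dvd_of_dvd_pow h1)).symm
  subst hp3
  have hn2 : 2 ≤ n := by
    by_contra hlt
    apply h.hnc
    have h4 : n = 0 ∨ n = 1 := by omega
    rcases h4 with rfl | rfl
    · have h5 : Nat.card E = 1 := by rw [hn, pow_zero]
      haveI := (Nat.card_eq_one_iff_unique.1 h5).1
      exact isCyclic_of_subsingleton
    · exact isCyclic_of_prime_card (p := 3) (by rw [hn, pow_one])
  by_contra h9
  have hn3 : 3 ≤ n := by
    rcases Nat.lt_or_ge n 3 with h4 | h4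
    · exfalso
      have : n = 2 := by omega
      rw [this] at hn
      exact h9 (by rw [hn]; norm_num)
    · exact h4
  have h27 : 27 ≤ Nat.card E := by
    rw [hn]
    calc 27 = 3 ^ 3 := by norm_num
      _ ≤ 3 ^ n := Nat.pow_le_pow_right (by norm_num) hn3
  have hunz : ∀ {e' u' x' : G}, e' ∈ E → Q8 (W ⊓ centralizer ({e'} : Set G)) u' x' → ¬ (u' = 1 ∨ u' = z) := by
    intro e' u' x' he' hq' h2
    rcases h2 with h2 | h2
    · exact hq'.u2 (by rw [h2]; simp)
    · exact hq'.u2 (by rw [h2, pow_two, h.z2])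
  -- `C_W(k) = R` for `k ≠ 1` in `E ∩ C(R)`
  have heq : ∀ {e' u' x' : G}, e' ∈ E → e' ≠ 1 → Q8 (W ⊓ centralizer ({e'} : Set G)) u' x' →
      ∀ k ∈ E ⊓ centralizer ((W ⊓ centralizer ({e'} : Set G) : Subgroup G) : Set G), k ≠ 1 →
      W ⊓ centralizer ({e'} : Set G) = W ⊓ centralizer ({k} : Set G) := by
    intro e' u' x' he' he1' hq' k hk hk1
    have hle : W ⊓ centralizer ({e'} : Set G) ≤ W ⊓ centralizer ({k} : Set G) := by
      intro c hc
      exact mem_F.2 ⟨hc.1, mem_centralizer_iff.1 hk.2 c hc⟩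
    rcases h.loc k hk.1 hk1 with h2 | ⟨v, y, hq2⟩
    · have h3 := mem_F.1 (hle hq'.hu)
      exact absurd (h2 u' h3.1 h3.2) (hunz he' hq')
    · exact Subgroup.eq_of_le_of_card_ge hle (by rw [hq'.card, hq2.card])
  apply he1
  apply hf e he
  have hWR : W ≤ W ⊓ centralizer ({e} : Set G) := by
    refine h.gen ?_
    intro e' he' he1' c hc hce
    rcases h.loc e' he' he1' with h2 | ⟨u', x', hq'⟩
    · rcases h2 c hc hce with h3 | h3
      · rw [h3]; exact one_mem _
      · rw [h3]; exact mem_F.2 ⟨h.zW, (h.zE e he).symm⟩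
    · have h3' := index_three h he' he1' hq'
      set H := E ⊓ centralizer ((W ⊓ centralizer ({e} : Set G) : Subgroup G) : Set G) with hH
      set H' := E ⊓ centralizer ((W ⊓ centralizer ({e'} : Set G) : Subgroup G) : Set G) with hH'
      have h5 : (H ⊓ H').relIndex E ≤ 9 := by
        have := Subgroup.relIndex_inf_le (H := H) (K := H') (L := E)
        rw [h3, h3'] at this
        exact this
      have h6 : (H ⊓ H').relIndex E * Nat.card ↥(H ⊓ H') = Nat.card E := by
        have h7 : H ⊓ H' ≤ E := inf_le_left.trans inf_le_left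
        have h8 := Subgroup.index_mul_card ((H ⊓ H').subgroupOf E)
        rw [Nat.card_congr (Subgroup.subgroupOfEquivOfLe h7).toEquiv] at h8
        exact h8
      have h7 : H ⊓ H' ≠ ⊥ := by
        intro h8
        rw [h8, Subgroup.card_bot, mul_one, ← h8] at h6
        omega
      obtain ⟨⟨k, hk⟩, hk1⟩ := (Subgroup.ne_bot_iff_exists_ne_one).1 h7
      have hk1' : k ≠ 1 := fun h8 => hk1 (Subtype.ext h8)
      have h8 := heq he he1 hq k hk.1 hk1'
      have h9 := heq he' he1' hq' k hk.2 hk1'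
      rw [h8, ← h9]
      exact mem_F.2 ⟨hc, hce⟩
  intro w hw
  exact (mem_F.1 (hWR hw)).2

theorem card_W (h : Hyp z W E) (h9 : Nat.card E = 9)
    (hf : ∀ e ∈ E, (∀ w ∈ W, w * e = e * w) → e = 1)
    {e u x : G} (he : e ∈ E) (he1 : e ≠ 1) (hq : Q8 (W ⊓ centralizer ({e} : Set G)) u x) :
    Nat.card W = 2 ^ 5 ∨ Nat.card W = 2 ^ 7 ∨ Nat.card W = 2 ^ 9 := by
  obtain ⟨-, -, -, k, hk, hT⟩ := main (Nat.card W) W rfl h
  have hT8 : (T z W E).ncard ≤ 8 := by
    have h1 : T z W E ⊆ (E : Set G) \ {1} := by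
      rintro f ⟨hf, hf1, -⟩
      exact ⟨hf, hf1⟩
    have h2 := Set.ncard_le_ncard h1 (Set.toFinite _)
    rw [Set.ncard_diff_singleton_of_mem (one_mem E)] at h2
    have h3 : (E : Set G).ncard = 9 := by
      rw [← h9]; exact (Nat.card_coe_set_eq (E : Set G)).symm
    omega
  have hk4 : k ≤ 4 := by omega
  have hR : W ⊓ centralizer ({e} : Set G) ≤ W := inf_le_left
  have hRc := hq.card
  have hk0 : k ≠ 0 := by
    rintro rfl
    have := Subgroup.card_le_card_group (W ⊓ centralizer ({e} : Set G))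
    have h2 := Subgroup.card_le_of_le hR
    rw [hRc, hk] at h2
    norm_num at h2
  have hk1 : k ≠ 1 := by
    rintro rfl
    have h2 : W ⊓ centralizer ({e} : Set G) = W :=
      Subgroup.eq_of_le_of_card_ge hR (by rw [hRc, hk]; norm_num)
    apply he1
    apply hf e he
    intro w hw
    rw [← h2] at hw
    exact (mem_F.1 hw).2
  have h5 : k = 2 ∨ k = 3 ∨ k = 4 := by omega
  rcases h5 with rfl | rfl | rfl
  · left; rw [hk]; norm_num
  · right; left; rw [hk]; norm_num
  · right; right; rw [hk]; norm_num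

end Cfsg.Agent.H19.EQ
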