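import Mathlib
import Cfsg.Agent.H19.EQ3
import Cfsg.Agent.H29.XS4
import Cfsg.Agent.H2.Semi

/-!
# Noncyclic abelian `p`-groups acting on 2-groups: from the raw hypotheses
-/

set_option autoImplicit false
set_option linter.unusedSectionVars false
set_option linter.unusedVariables false
set_option linter.style.haveILetI false
open Subgroup Cfsg.Agent.H23 Cfsg.Agent.H18.E8
open scoped commutatorElement Pointwise

namespace Cfsg.Agent.H19.EQ

theorem isExtraspecial_of_equiv {A B : Type*} [Group A] [Group B] {p : ℕ} (e : A ≃* B)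
    (h : Cfsg.IsExtraspecial p A) : Cfsg.IsExtraspecial p B := by
  obtain ⟨⟨hp, hf, hc⟩, hz⟩ := h
  have hF : frattini B = (frattini A).comap e.symm.toMonoidHom := by
    apply le_antisymm
    · exact frattini_le_comap_frattini_of_surjective e.symm.surjective
    · intro x hx
      have := frattini_le_comap_frattini_of_surjective (φ := e.toMonoidHom) e.surjective hx
      simpa using this
  have hZ : center B = (center A).comap e.symm.toMonoidHom := by
    ext x
    rw [mem_comap, mem_center_iff, mem_center_iff]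
    constructor
    · intro h1 g
      apply e.injective
      have := h1 (e g)
      simpa using this
    · intro h1 g
      have := congrArg e (h1 (e.symm g))
      simpa using this
  have hC : _root_.commutator B = (_root_.commutator A).comap e.symm.toMonoidHom := by
    have h1 : (_root_.commutator A).map e.toMonoidHom = _root_.commutator B := by
      rw [_root_.commutator_def, Subgroup.map_commutator, Subgroup.map_top_of_surjective _ e.surjective]; rfl
    rw [← h1]
    ext x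
    rw [mem_comap]
    constructor
    · rintro ⟨y, hy, rfl⟩
      simpa using hy
    · intro hx
      exact ⟨_, hx, by simp⟩
  refine ⟨⟨hp.of_equiv e, ?_, ?_⟩, ?_⟩
  · rw [hF, hZ, hf]
  · rw [hC, hZ, hc]
  · rw [← hz]
    exact Nat.card_congr (Subgroup.centerCongr e).symm.toEquiv

variable {G : Type*} [Group G] [Finite G] {W E : Subgroup G}

/-- the raw hypotheses -/
structure Raw (W E : Subgroup G) : Prop where
  hW : IsPGroup 2 W
  hE2 : (Nat.card E).Coprime 2
  hEW : E ≤ normalizer (W : Set G)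
  hEc : ∀ a ∈ E, ∀ b ∈ E, a * b = b * a
  hnc : ¬ IsCyclic E
  hf : ∀ e ∈ E, (∀ w ∈ W, w * e = e * w) → e = 1
  hfix : ∀ e ∈ E, e ≠ 1 → ∀ x ∈ W, ∀ y ∈ W, orderOf x = 2 → orderOf y = 2 → x * e = e * x → y * e = e * y → x = y

theorem Raw.noE (h : Raw W E) {e : G} (he : e ∈ E) (he1 : e ≠ 1) : NoE (W ⊓ centralizer ({e} : Set G)) := by
  rintro ⟨A, hA, hc, hnc, -⟩
  apply hnc
  letI : CommGroup A := { (inferInstance : Group A) with mul_comm := hc.is_comm.comm }
  refine H4.cyclic_of_comm_unique (h.hW.to_le (hA.trans inf_le_left)) ?_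
  intro x y hx hy
  have h1 := mem_F.1 (hA x.2)
  have h2 := mem_F.1 (hA y.2)
  exact Subtype.ext (h.hfix e he he1 x h1.1 y h2.1 (by rw [Subgroup.orderOf_coe]; exact hx)
    (by rw [Subgroup.orderOf_coe]; exact hy) h1.2 h2.2)

theorem Raw.quat (h : Raw W E) {e : G} (he : e ∈ E) (he1 : e ≠ 1)
    (hn : ¬ (W ⊓ centralizer ({e} : Set G)) ≤ centralizer (E : Set G)) :
    ∃ u x, Q8 (W ⊓ centralizer ({e} : Set G)) u x := by
  rcases lemmaQ (h.noE he he1) (h.hW.to_le inf_le_left) h.hE2 (norm_F h.hEW h.hEc he) hn with ⟨h4, h2⟩ | h1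
  · exfalso
    set R := W ⊓ centralizer ({e} : Set G) with hR
    have key : ∀ a ∈ R, ∀ b ∈ R, a ≠ 1 → b ≠ 1 → a = b := by
      intro a ha b hb ha1 hb1
      have ha' := mem_F.1 ha
      have hb' := mem_F.1 hb
      exact h.hfix e he he1 a ha'.1 b hb'.1 (orderOf_eq_prime (h2 a ha) ha1)
        (orderOf_eq_prime (h2 b hb) hb1) ha'.2 hb'.2
    -- at most two elements
    have h5 : ∃ a ∈ R, a ≠ 1 := by
      by_contra hcon
      push Not at hcon
      have : R = ⊥ := (eq_bot_iff_forall _).2 hcon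
      rw [this, Subgroup.card_bot] at h4
      omega
    obtain ⟨a, ha, ha1⟩ := h5
    have h6 : R ≤ zpowers a := by
      intro b hb
      by_cases hb1 : b = 1
      · rw [hb1]; exact one_mem _
      · rw [key b hb a ha hb1 ha1]; exact mem_zpowers a
    have h7 := Subgroup.card_le_of_le h6
    rw [h4, Nat.card_zpowers, orderOf_eq_prime (h2 a ha) ha1] at h7
    omega
  · exact h1

theorem Raw.exists_hyp (h : Raw W E) : ∃ z, Hyp z W E ∧ ∃ e ∈ E, e ≠ 1 ∧
    ∃ u x, Q8 (W ⊓ centralizer ({e} : Set G)) u x := by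
  obtain ⟨e, he, he1, hn⟩ : ∃ e ∈ E, e ≠ 1 ∧ ¬ (W ⊓ centralizer ({e} : Set G)) ≤ centralizer (E : Set G) := by
    by_contra hcon
    push Not at hcon
    have h1 : W ≤ centralizer (E : Set G) := gen h.hW h.hE2 h.hEW h.hEc h.hnc
      (fun e he he1 c hc hce => hcon e he he1 (mem_F.2 ⟨hc, hce⟩))
    have h2 : E = ⊥ := by
      rw [eq_bot_iff]
      intro f hf
      rw [mem_bot]
      exact h.hf f hf (fun w hw => (mem_centralizer_iff.1 (h1 hw) f hf).symm)
    apply h.hnc
    rw [h2]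
    infer_instance
  obtain ⟨u, x, hq⟩ := h.quat he he1 hn
  have hN := norm_F h.hEW h.hEc he
  have hu := mem_F.1 hq.hu
  have hz2 : (u ^ 2) * (u ^ 2) = 1 := by rw [← pow_add]; exact hq.u4
  have hzR : u ^ 2 ∈ W ⊓ centralizer ({e} : Set G) := pow_mem hq.hu 2
  have hzF := mem_F.1 hzR
  have hord : orderOf (u ^ 2) = 2 := orderOf_eq_prime (by rw [pow_two (u ^ 2)]; exact hz2) hq.u2
  have hzE : ∀ f ∈ E, f * u ^ 2 = u ^ 2 * f := by
    intro f hf
    have h1 : f * u ^ 2 * f⁻¹ ∈ W ⊓ centralizer ({e} : Set G) := (mem_normalizer_iff.1 (hN hf) _).1 hzR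
    have h1' := mem_F.1 h1
    have h2 : orderOf (f * u ^ 2 * f⁻¹) = 2 :=
      (orderOf_injective (MulAut.conj f).toMonoidHom (MulAut.conj f).injective (u ^ 2)).trans hord
    have h3 := h.hfix e he he1 _ h1'.1 _ hzF.1 h2 hord h1'.2 hzF.2
    rw [mul_inv_eq_iff_eq_mul] at h3
    exact h3
  have hfix : ∀ c ∈ W, (∀ f ∈ E, f * c = c * f) → c = 1 ∨ c = u ^ 2 := by
    intro c hc hcE
    have hcR : c ∈ (W ⊓ centralizer ({e} : Set G)) ⊓ centralizer (E : Set G) :=
      ⟨mem_F.2 ⟨hc, (hcE e he).symm⟩, mem_centralizer_iff.2 hcE⟩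
    have hEM : E ≤ normalizer (((W ⊓ centralizer ({e} : Set G)) ⊓ centralizer (E : Set G) : Subgroup G) : Set G) := by
      refine le_normalizer_of_conj_mem ?_
      intro a ha d hd
      have h1 := mem_centralizer_iff.1 hd.2 a ha
      have h2 : a * d * a⁻¹ = d := by rw [h1]; group
      rw [h2]; exact hd
    have hne : (W ⊓ centralizer ({e} : Set G)) ⊓ centralizer (E : Set G) ≠ W ⊓ centralizer ({e} : Set G) := by
      intro h1
      exact hn (h1 ▸ inf_le_right)
    have h2 := hq.inv h.hE2 hN hn inf_le_left hEM hne hcR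
    exact hq.mem_z.1 h2
  refine ⟨u ^ 2, ⟨h.hW, h.hE2, h.hEW, h.hEc, h.hnc, hzF.1, hq.u2, hz2, hzE, hfix, ?_⟩, e, he, he1, u, x, hq⟩
  intro f hf hf1
  by_cases h1 : (W ⊓ centralizer ({f} : Set G)) ≤ centralizer (E : Set G)
  · left
    intro c hc hcf
    exact hfix c hc (fun g hg => mem_centralizer_iff.1 (h1 (mem_F.2 ⟨hc, hcf⟩)) g hg)
  · right
    exact h.quat hf hf1 h1

theorem Raw.final (h : Raw W E) {p : ℕ} [Fact p.Prime] (hE : IsPGroup p E) :
    Nat.card E = 9 ∧ Cfsg.IsExtraspecial 2 W ∧ (Nat.card W = 2 ^ 5 ∨ Nat.card W = 2 ^ 7 ∨ Nat.card W = 2 ^ 9) ∧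
    ∀ c ∈ W, (∀ f ∈ E, f * c = c * f) ↔ ∀ w ∈ W, w * c = c * w := by
  obtain ⟨z, H, e, he, he1, u, x, hq⟩ := h.exists_hyp
  have h9 := card_nine H hE h.hf he he1 hq
  obtain ⟨m1, m2, m3, -⟩ := main (Nat.card W) W rfl H
  have hxs : H29.XS W z := by
    refine H29.XS.mk' h.hW H.z1 H.z2 H.zW H.zc m3 m1 m2 ?_
    exact ⟨x, (mem_F.1 hq.hx).1, u, (mem_F.1 hq.hu).1, hq.not_comm⟩
  refine ⟨h9, hxs.isExtraspecial, card_W H h9 h.hf he he1 hq, ?_⟩
  intro c hc
  constructor
  · intro h1 w hw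
    rcases H.fix c hc h1 with rfl | rfl
    · rw [mul_one, one_mul]
    · exact H.zc w hw
  · intro h1 f hf
    rcases m3 c hc (fun y hy => (h1 y hy).symm) with rfl | rfl
    · rw [mul_one, one_mul]
    · exact H.zE f hf

theorem final {W : Type*} [Group W] [Finite W] (hW : IsPGroup 2 W) {p : ℕ} [Fact p.Prime] (hp : p ≠ 2)
    (E : Subgroup (MulAut W)) (hE : IsPGroup p ↥E) (hab : IsMulCommutative ↥E) (hnc : ¬ IsCyclic ↥E)
    (hfix : ∀ e ∈ E, e ≠ 1 → ∀ x y : W, orderOf x = 2 → orderOf y = 2 → e x = x → e y = y → x = y) :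
    Nat.card ↥E = 9 ∧ Cfsg.IsExtraspecial 2 W ∧
      (Nat.card W = 2 ^ 5 ∨ Nat.card W = 2 ^ 7 ∨ Nat.card W = 2 ^ 9) ∧
      {x : W | ∀ e ∈ E, e x = x} = (Subgroup.center W : Set W) := by
  have iso : E ≃* H2.ar E := MonoidHom.ofInjective (H2.ir_injective E)
  have isoW : W ≃* H2.gr E := MonoidHom.ofInjective (H2.il_injective E)
  have hcom : ∀ (e : E) (w : W), H2.il E w * H2.ir E e = H2.ir E e * H2.il E w ↔ (e : MulAut W) w = w := by
    intro e w
    have h1 := H2.ir_conj_il E e w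
    constructor
    · intro h2
      rw [← h2, mul_inv_cancel_right] at h1
      exact (H2.il_injective E h1).symm
    · intro h2
      rw [h2, mul_inv_eq_iff_eq_mul] at h1
      exact h1.symm
  have hodd : (Nat.card (H2.ar E)).Coprime 2 := by
    obtain ⟨n, hn⟩ := IsPGroup.iff_card.1 hE
    rw [H2.card_ar, hn]
    exact Nat.Coprime.pow_left n ((Nat.coprime_primes Fact.out Nat.prime_two).2 hp)
  have hraw : Raw (H2.gr E) (H2.ar E) := by
    refine ⟨H2.isPGroup_gr E hW, hodd, H2.ar_le_normalizer E, ?_, ?_, ?_, ?_⟩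
    · rintro _ ⟨a, rfl⟩ _ ⟨b, rfl⟩
      have h1 : a * b = b * a := hab.is_comm.comm a b
      rw [← map_mul, h1, map_mul]
    · intro h1
      exact hnc (isCyclic_of_surjective iso.symm iso.symm.surjective)
    · rintro _ ⟨e, rfl⟩ h1
      have h2 : e = 1 := by
        apply Subtype.ext
        ext w
        exact (hcom e w).1 (h1 _ ⟨w, rfl⟩)
      rw [h2, map_one]
    · rintro _ ⟨e, rfl⟩ he1 _ ⟨x, rfl⟩ _ ⟨y, rfl⟩ hx hy hxe hye
      have he1' : (e : MulAut W) ≠ 1 := by
        intro h1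
        apply he1
        have : e = 1 := Subtype.ext h1
        rw [this, map_one]
      have hx' : orderOf x = 2 := by rw [← hx]; exact (orderOf_injective (H2.il E) (H2.il_injective E) x).symm
      have hy' : orderOf y = 2 := by rw [← hy]; exact (orderOf_injective (H2.il E) (H2.il_injective E) y).symm
      exact congrArg _ (hfix e e.2 he1' x y hx' hy' ((hcom e x).1 hxe) ((hcom e y).1 hye))
  have hEp : IsPGroup p (H2.ar E) := hE.of_equiv iso
  obtain ⟨f1, f2, f3, f4⟩ := hraw.final hEp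
  rw [H2.card_ar] at f1
  rw [H2.card_gr] at f3
  refine ⟨f1, isExtraspecial_of_equiv isoW.symm f2, f3, ?_⟩
  ext c
  rw [Set.mem_setOf_eq, SetLike.mem_coe, mem_center_iff]
  have h1 := f4 (H2.il E c) ⟨c, rfl⟩
  constructor
  · intro h2 g
    have h3 := h1.1 (by
      rintro _ ⟨e, rfl⟩
      exact ((hcom e c).2 (h2 e e.2)).symm) (H2.il E g) ⟨g, rfl⟩
    rw [← map_mul, ← map_mul] at h3
    exact H2.il_injective E h3
  · intro h2 e he
    have h3 := h1.2 (by
      rintro _ ⟨g, rfl⟩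
      rw [← map_mul, ← map_mul, h2 g]) (H2.ir E ⟨e, he⟩) ⟨_, rfl⟩
    exact (hcom ⟨e, he⟩ c).1 h3.symm

end Cfsg.Agent.H19.EQ
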