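import Mathlib
import Cfsg.Agent.H1.Basic
import Cfsg.Agent.H2.Frat
import Cfsg.Agent.H2.TateCor
import Cfsg.Agent.H2.Frobenius
import Cfsg.Agent.H18.PCore
import Cfsg.Agent.H23.Coprime3
import Cfsg.Agent.L.Alperin
import Cfsg.Agent.H19.CharP

/-!
# `ℋ`-subgroups: `E` with `gEg⁻¹ ∩ N_G(E) ≤ E`
-/

set_option autoImplicit false
set_option linter.style.haveILetI false

namespace Cfsg.Agent.H19

open Subgroup
open scoped commutatorElement

variable {G : Type*} [Group G] {p : ℕ}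

/-- an element of order prime to `p - 1` normalizing a subgroup of order `p` centralizes it -/
theorem conj_eq_of_card_prime [Finite G] [hp : Fact p.Prime] {T : Subgroup G} (hT : Nat.card T = p) {x : G}
    (hx : (orderOf x).Coprime (p - 1)) (hxT : x ∈ normalizer (T : Set G)) : ∀ t ∈ T, x * t * x⁻¹ = t := by
  haveI : IsCyclic T := isCyclic_of_prime_card hT
  set φ := T.normalizerMonoidHom ⟨x, hxT⟩ with hφ
  have h1 : orderOf φ ∣ p - 1 := by
    have h2 := orderOf_dvd_natCard φ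
    rwa [IsCyclic.card_mulAut, hT, Nat.totient_prime hp.out] at h2
  have h2 : orderOf φ ∣ orderOf x := by
    have h3 : orderOf φ ∣ orderOf (⟨x, hxT⟩ : normalizer (T : Set G)) := orderOf_map_dvd _ _
    rwa [Subgroup.orderOf_mk] at h3
  have h3 : φ = 1 := orderOf_eq_one_iff.mp (Nat.eq_one_of_dvd_coprimes hx h2 h1)
  intro t ht
  have h4 : ((φ ⟨t, ht⟩ : T) : G) = t := by rw [h3]; rfl
  exact h4

/-- an element of order prime to `p - 1` acts trivially on an invariant section of order `p` -/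
theorem conj_mem_of_relIndex_prime [Finite G] [hp : Fact p.Prime] {T N : Subgroup G} (hNT : N ≤ T)
    (hidx : N.relIndex T = p) (hTN : T ≤ normalizer (N : Set G)) {x : G} (hx : (orderOf x).Coprime (p - 1))
    (hxT : x ∈ normalizer (T : Set G)) (hxN : x ∈ normalizer (N : Set G)) :
    ∀ t ∈ T, t⁻¹ * (x * t * x⁻¹) ∈ N := by
  set 𝒩 := normalizer (N : Set G) with h𝒩
  haveI hNn : (N.subgroupOf 𝒩).Normal := (H18.normal_subgroupOf_iff (hNT.trans hTN)).mpr le_rfl
  set π := QuotientGroup.mk' (N.subgroupOf 𝒩) with hπ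
  set T' := T.subgroupOf 𝒩 with hT'
  have hcard : Nat.card (T'.map π) = p := by
    have h1 := Subgroup.relIndex_ker (f := π) (K := T')
    rw [hπ, QuotientGroup.ker_mk'] at h1
    rw [← h1, hT', Subgroup.relIndex_subgroupOf hTN]
    exact hidx
  have hxo : (orderOf (π ⟨x, hxN⟩)).Coprime (p - 1) := by
    refine hx.coprime_dvd_left ?_
    have h3 : orderOf (π ⟨x, hxN⟩) ∣ orderOf (⟨x, hxN⟩ : 𝒩) := orderOf_map_dvd _ _
    rwa [Subgroup.orderOf_mk] at h3
  have hxn : π ⟨x, hxN⟩ ∈ normalizer ((T'.map π : Subgroup _) : Set _) := by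
    rw [H18.mem_normalizer_iff_map]
    have h1 : T'.map (MulAut.conj (⟨x, hxN⟩ : 𝒩)).toMonoidHom = T' := by
      rw [← H18.mem_normalizer_iff_map, H18.mem_normalizer_iff_conj]
      intro y
      exact H18.mem_normalizer_iff_conj.mp hxT y
    conv_rhs => rw [← h1]
    rw [Subgroup.map_map, Subgroup.map_map]
    rfl
  intro t ht
  have h1 := conj_eq_of_card_prime hcard hxo hxn (π ⟨t, hTN ht⟩) ⟨⟨t, hTN ht⟩, ht, rfl⟩
  have h2 : π ((⟨t, hTN ht⟩ : 𝒩)⁻¹ * (⟨x, hxN⟩ * ⟨t, hTN ht⟩ * (⟨x, hxN⟩ : 𝒩)⁻¹)) = 1 := by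
    rw [map_mul, map_inv, map_mul, map_mul, map_inv, h1, inv_mul_cancel]
  have h3 := (QuotientGroup.eq_one_iff (N := N.subgroupOf 𝒩) _).mp h2
  exact h3

theorem mem_normalizer_zpowers_le {H : Subgroup G} {x y : G} (hx : x ∈ normalizer (H : Set G))
    (hy : y ∈ zpowers x) : y ∈ normalizer (H : Set G) :=
  (zpowers_le.mpr hx) hy

/-- a `p'`-element of order prime to `p - 1` normalizing a `p`-group and all its maximal subgroups
centralizes it -/
theorem conj_eq_of_maximal_invariant [Finite G] [hp : Fact p.Prime] {S : Subgroup G} (hS : IsPGroup p S) {x : G}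
    (hx : (orderOf x).Coprime p) (hx' : (orderOf x).Coprime (p - 1)) (hxS : x ∈ normalizer (S : Set G))
    (hM : ∀ M : Subgroup G, M ≤ S → M.relIndex S = p → x ∈ normalizer (M : Set G)) :
    S ≤ centralizer (zpowers x : Set G) := by
  have hn : zpowers x ≤ normalizer (S : Set G) := zpowers_le.mpr hxS
  obtain ⟨n, hn'⟩ := H18.card_isPGroup_iff.mp hS
  have hcop : (Nat.card (zpowers x)).Coprime (Nat.card S) := by
    rw [Nat.card_zpowers, hn']; exact hx.pow_right n
  refine H23.le_centralizer_of_commutator_le_frattini hn hcop (Or.inr (H23.isSolvable_of_isPGroup hS)) ?_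
  rw [commutator_le]
  intro s hs a ha
  have haS : a ∈ normalizer (S : Set G) := hn ha
  have hcS : ⁅s, a⁆ ∈ S := by
    rw [commutatorElement_def]
    have h1 : a * s⁻¹ * a⁻¹ ∈ S := H18.conj_mem_of_mem_normalizer haS (S.inv_mem hs)
    have h2 : s * a * s⁻¹ * a⁻¹ = s * (a * s⁻¹ * a⁻¹) := by group
    rw [h2]; exact S.mul_mem hs h1
  refine ⟨⟨⁅s, a⁆, hcS⟩, ?_, rfl⟩
  have key : ∀ M : Subgroup S, IsCoatom M → (⟨⁅s, a⁆, hcS⟩ : S) ∈ M := by
    intro M hMc
    obtain ⟨hMi, hMn⟩ := H2.index_eq_of_isCoatom hS hMc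
    set M' := M.map S.subtype with hM'
    have hM'S : M' ≤ S := Subgroup.map_subtype_le _
    have hsub : M'.subgroupOf S = M := by
      rw [hM', subgroupOf, comap_map_eq_self_of_injective S.subtype_injective]
    have hM'i : M'.relIndex S = p := by
      rw [relIndex, hsub]; exact hMi
    have hSM' : S ≤ normalizer (M' : Set G) := (H18.normal_subgroupOf_iff hM'S).mp (by rw [hsub]; exact hMn)
    have hxM := hM M' hM'S hM'i
    have haM : a ∈ normalizer (M' : Set G) := (zpowers_le.mpr hxM) ha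
    have hao : (orderOf a).Coprime (p - 1) := hx'.coprime_dvd_left (orderOf_dvd_of_mem_zpowers ha)
    have h3 := conj_mem_of_relIndex_prime hM'S hM'i hSM' hao haS haM s⁻¹ (S.inv_mem hs)
    have h4 : ⁅s, a⁆ ∈ M' := by
      rw [commutatorElement_def]
      have h2 : s * a * s⁻¹ * a⁻¹ = (s⁻¹)⁻¹ * (a * s⁻¹ * a⁻¹) := by group
      rw [h2]; exact h3
    rw [← hsub]; exact h4
  have hfr : frattini S = ⨅ M ∈ {M : Subgroup S | IsCoatom M}, M := rfl
  show (⟨⁅s, a⁆, hcS⟩ : S) ∈ frattini S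
  rw [hfr, mem_iInf]
  intro M
  rw [mem_iInf]
  intro hM'
  exact key M hM'

/-- between `T ≤ P` there are subgroups of all orders -/
theorem exists_between_card [Finite G] [hp : Fact p.Prime] {T P : Subgroup G} (hTP : T ≤ P) (hP : IsPGroup p P)
    {m : ℕ} (h1 : Nat.card T ≤ p ^ m) (h2 : p ^ m ≤ Nat.card P) :
    ∃ S : Subgroup G, T ≤ S ∧ S ≤ P ∧ Nat.card S = p ^ m := by
  obtain ⟨n, hn⟩ := H18.card_isPGroup_iff.mp (H18.isPGroup_mono hP hTP)
  obtain ⟨k, hk⟩ := H18.card_isPGroup_iff.mp hP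
  rw [hn] at h1
  rw [hk] at h2
  have hnm : n ≤ m := (Nat.pow_le_pow_iff_right hp.out.one_lt).mp h1
  have hmk : m ≤ k := (Nat.pow_le_pow_iff_right hp.out.one_lt).mp h2
  obtain ⟨S, hS1, hS2⟩ := Sylow.exists_subgroup_card_pow_prime_le p (G := P) (n := n) (m := m)
    (by rw [hk]; exact pow_dvd_pow p hmk) (T.subgroupOf P) (by
      rw [← hn]; exact Nat.card_congr (subgroupOfEquivOfLe hTP).toEquiv) hnm
  refine ⟨S.map P.subtype, ?_, map_subtype_le _, ?_⟩
  · intro t ht
    exact ⟨⟨t, hTP ht⟩, hS2 ht, rfl⟩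
  · rw [card_map_of_injective P.subtype_injective, hS1]

/-- subgroups of cyclic groups are invariant -/
theorem mem_normalizer_of_isCyclic [Finite G] {E K : Subgroup G} (hE : IsCyclic E) (hKE : K ≤ E) {x : G}
    (hx : x ∈ normalizer (E : Set G)) : x ∈ normalizer (K : Set G) := by
  obtain ⟨e, he⟩ := hE.exists_generator
  have h1 : ∀ y ∈ normalizer (E : Set G), ∀ k ∈ K, y * k * y⁻¹ ∈ K := by
    intro y hy k hk
    obtain ⟨j, hj⟩ := he ⟨k, hKE hk⟩
    obtain ⟨m, hm⟩ := he ⟨y * e * y⁻¹, H18.conj_mem_of_mem_normalizer hy e.2⟩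
    have hj' : (e : G) ^ j = k := congrArg Subtype.val hj
    have hm' : (e : G) ^ m = y * e * y⁻¹ := congrArg Subtype.val hm
    have h2 : y * k * y⁻¹ = k ^ m := by
      rw [← hj', ← conj_zpow, ← hm', ← zpow_mul, ← zpow_mul, mul_comm]
    rw [h2]; exact K.zpow_mem hk m
  rw [H18.mem_normalizer_iff_conj]
  intro k
  refine ⟨h1 x hx k, fun h => ?_⟩
  have h2 := h1 x⁻¹ (inv_mem hx) _ h
  have h3 : x⁻¹ * (x * k * x⁻¹) * x⁻¹⁻¹ = k := by group
  rwa [h3] at h2

/-- an `ℋ`-subgroup of a `p`-group is normal in it -/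
theorem le_normalizer_of_hsub [Finite G] [hp : Fact p.Prime] {E P : Subgroup G} (hEP : E ≤ P) (hP : IsPGroup p P)
    (hE : ∀ g : G, E.map (MulAut.conj g).toMonoidHom ⊓ normalizer (E : Set G) ≤ E) :
    P ≤ normalizer (E : Set G) := by
  by_contra hcon
  set K := P ⊓ normalizer (E : Set G) with hK
  have hKP : K < P := lt_of_le_of_ne inf_le_left (fun h => hcon (by rw [← h]; exact inf_le_right))
  have hlt := lt_inf_normalizer_of_lt hP hKP
  obtain ⟨n, hn, hnK⟩ := SetLike.exists_of_lt hlt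
  apply hnK
  have hEK : E ≤ K := le_inf hEP le_normalizer
  refine mem_inf.mpr ⟨hn.1, ?_⟩
  have hmap : E.map (MulAut.conj n).toMonoidHom ≤ E := by
    refine le_trans (le_inf le_rfl ?_) (hE n)
    have h1 : K.map (MulAut.conj n).toMonoidHom = K := H18.mem_normalizer_iff_map.mp hn.2
    calc E.map (MulAut.conj n).toMonoidHom ≤ K.map (MulAut.conj n).toMonoidHom := Subgroup.map_mono hEK
      _ = K := h1
      _ ≤ _ := inf_le_right
  rw [H18.mem_normalizer_iff_map]
  exact Subgroup.eq_of_le_of_card_ge hmap (by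
    rw [card_map_of_injective (MulAut.conj n).injective])

theorem strongly_of_hsub [Finite G] [hp : Fact p.Prime] {E P : Subgroup G} (hEP : E ≤ P) (hP : IsPGroup p P)
    (hE : ∀ g : G, E.map (MulAut.conj g).toMonoidHom ⊓ normalizer (E : Set G) ≤ E) {y g : G} (hy : y ∈ E)
    (hg : g * y * g⁻¹ ∈ P) : g * y * g⁻¹ ∈ E :=
  hE g (mem_inf.mpr ⟨⟨y, hy, rfl⟩, le_normalizer_of_hsub hEP hP hE hg⟩)

end Cfsg.Agent.H19
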