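import Mathlib
import Cfsg.Agent.H18.PMin2
import Cfsg.Agent.H18.McBride
import Cfsg.Agent.H1.Cores
import Cfsg.Agent.H1.Coprime
import Cfsg.Agent.H10.Comp

/-!
# Isolated `p`-minimal subgroups
-/

set_option autoImplicit false
set_option linter.style.haveILetI false
open Cfsg
open scoped commutatorElement

namespace Cfsg.Agent.H19

variable {G : Type*} [Group G] [Finite G] {p : ℕ} [hp : Fact p.Prime]

/-- `P` is an isolated `p`-minimal subgroup over the Sylow subgroup `S`. -/
structure IsoMin {S : Sylow p G} {P L Y : Subgroup G} : Prop where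
  SP : (S : Subgroup G) ≤ P
  min : IsPMinimal p ↥P
  NL : Subgroup.normalizer ((S : Subgroup G) : Set G) ≤ L
  PL : ∀ P' : Subgroup G, (S : Subgroup G) ≤ P' → IsPMinimal p ↥P' → P' ≠ P → P' ≤ L
  iso : ¬ pCoreOf p L ≤ pCoreOf p P
  Yeq : Y = Subgroup.normalClosure (((pResidual p ↥P).map P.subtype : Subgroup G) : Set G)

namespace IsoMin

variable {S : Sylow p G} {P L Y : Subgroup G} (h : IsoMin (S := S) (P := P) (L := L) (Y := Y))
include h

theorem SL : (S : Subgroup G) ≤ L := Subgroup.le_normalizer.trans h.NL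

theorem le_sup_aux : ∀ (n : ℕ) (X : Subgroup G), Nat.card X ≤ n →
    (S : Subgroup G) ≤ X → (P ≤ X → X ≤ P ⊔ (L ⊓ X)) ∧ (¬ P ≤ X → X ≤ L) := by
  intro n
  induction n with
  | zero =>
    intro X hX
    exact absurd hX (by have : 0 < Nat.card X := Nat.card_pos; omega)
  | succ n ih =>
    intro X hX hSX
    by_cases hn : X ≤ Subgroup.normalizer ((S : Subgroup G) : Set G)
    · exact ⟨fun _ => (le_inf (hn.trans h.NL) le_rfl).trans le_sup_right, fun _ => hn.trans h.NL⟩
    obtain ⟨T₀, hT₀⟩ : ∃ T₀ : Sylow p X, (T₀ : Subgroup X) = (S : Subgroup G).subgroupOf X :=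
      ⟨S.subtype hSX, rfl⟩
    by_cases hmin : IsPMinimal p X
    · by_cases hXP : X = P
      · exact ⟨fun _ => hXP.le.trans le_sup_left, fun hc => absurd hXP.ge hc⟩
      · have h1 := h.PL X hSX hmin hXP
        exact ⟨fun _ => (le_inf h1 le_rfl).trans le_sup_right, fun _ => h1⟩
    · have h1 : ¬ (T₀ : Subgroup X).Normal := by
        rw [hT₀, H18.normal_subgroupOf_iff hSX]
        exact hn
      have h2 : ∃ Y₁ Y₂ : Subgroup X, (T₀ : Subgroup X) ≤ Y₁ ∧ (T₀ : Subgroup X) ≤ Y₂ ∧ Y₁ ≠ ⊤ ∧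
          Y₂ ≠ ⊤ ∧ Y₁ ⊔ Y₂ = ⊤ := by
        by_contra hcon
        push Not at hcon
        exact hmin (H18.isPMinimal_of T₀ h1 hcon)
      obtain ⟨Y₁, Y₂, hY₁, hY₂, h3, h4, h5⟩ := h2
      have key : ∀ Z : Subgroup X, (T₀ : Subgroup X) ≤ Z → Z ≠ ⊤ →
          (P ≤ X → Z.map X.subtype ≤ P ⊔ (L ⊓ X)) ∧ (¬ P ≤ X → Z.map X.subtype ≤ L) := by
        intro Z hZ hZt
        have hc : Nat.card (Z.map X.subtype) ≤ n := by
          rw [Subgroup.card_map_of_injective X.subtype_injective]
          have : Nat.card Z < Nat.card X := by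
            refine lt_of_le_of_ne (Subgroup.card_le_card_group Z) ?_
            exact fun h => hZt (Subgroup.eq_top_of_card_eq Z h)
          omega
        have hSZ : (S : Subgroup G) ≤ Z.map X.subtype := by
          intro x hx
          refine ⟨⟨x, hSX hx⟩, hZ ?_, rfl⟩
          rw [hT₀]; exact hx
        have hZX : Z.map X.subtype ≤ X := Subgroup.map_subtype_le _
        obtain ⟨i1, i2⟩ := ih _ hc hSZ
        refine ⟨fun hPX => ?_, fun hPX => i2 fun hc => hPX (hc.trans hZX)⟩
        by_cases hPZ : P ≤ Z.map X.subtype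
        · exact (i1 hPZ).trans (sup_le_sup_left (inf_le_inf_left _ hZX) _)
        · exact (le_inf (i2 hPZ) hZX).trans le_sup_right
      have h6 := congrArg (Subgroup.map X.subtype) h5
      rw [Subgroup.map_sup, ← MonoidHom.range_eq_map, Subgroup.range_subtype] at h6
      constructor
      · intro hPX
        conv_lhs => rw [← h6]
        exact sup_le ((key Y₁ hY₁ h3).1 hPX) ((key Y₂ hY₂ h4).1 hPX)
      · intro hPX
        conv_lhs => rw [← h6]
        exact sup_le ((key Y₁ hY₁ h3).2 hPX) ((key Y₂ hY₂ h4).2 hPX)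

theorem le_sup {X : Subgroup G} (hSX : (S : Subgroup G) ≤ X) (hPX : P ≤ X) : X ≤ P ⊔ (L ⊓ X) :=
  (h.le_sup_aux _ X le_rfl hSX).1 hPX

theorem le_L {X : Subgroup G} (hSX : (S : Subgroup G) ≤ X) (hPX : ¬ P ≤ X) : X ≤ L :=
  (h.le_sup_aux _ X le_rfl hSX).2 hPX

theorem QS : pCoreOf p L ≤ (S : Subgroup G) := by
  have h1 : pCore p L ≤ (S.subtype h.SL : Subgroup L) := H18.pCore_le_sylow _
  have h2 := Subgroup.map_mono (f := L.subtype) h1
  rwa [Sylow.coe_subtype, Subgroup.map_subgroupOf_eq_of_le h.SL] at h2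

theorem QP : pCoreOf p L ≤ P := h.QS.trans h.SP

theorem LQ : L ≤ Subgroup.normalizer ((pCoreOf p L : Subgroup G) : Set G) := H18.le_normalizer_pCoreOf L

theorem DS : pCore p G ≤ (S : Subgroup G) := H18.pCore_le_sylow S

theorem DL : pCore p G ≤ L := h.DS.trans h.SL

theorem DQ : pCore p G ≤ pCoreOf p L :=
  H18.le_pCoreOf h.DL H18.le_normalizer_of_normal (H18.isPGroup_pCore p G)

theorem not_normalizes : ¬ P ≤ Subgroup.normalizer ((pCoreOf p L : Subgroup G) : Set G) := fun hc =>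
  h.iso (H18.le_pCoreOf h.QP hc (H18.isPGroup_pCoreOf L))

theorem sup_pRes : (S : Subgroup G) ⊔ (pResidual p ↥P).map P.subtype = P := H18.sylow_sup_pRes S h.SP

/-- a normal subgroup of `G` containing `O_p(L)` contains `O^p(P)` -/
theorem pRes_le_of_Q {N : Subgroup G} (hN : N.Normal) (hQN : pCoreOf p L ≤ N) :
    (pResidual p ↥P).map P.subtype ≤ N := by
  have hN' : (N.subgroupOf P).Normal := hN.subgroupOf P
  obtain ⟨-, M, ⟨hM, hSM⟩, -⟩ := h.min (S.subtype h.SP)
  rcases H18.pmin_normal h.min (S.subtype h.SP) hM hSM hN' with h1 | h1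
  · have h2 := Subgroup.map_mono (f := P.subtype) h1
    refine h2.trans ?_
    rw [Subgroup.subgroupOf_map_subtype]
    exact inf_le_left
  · exfalso
    apply h.iso
    have h2 := H18.pmin_core_inf h.min (S.subtype h.SP) hM hSM
    have h3 : (pCoreOf p L).subgroupOf P ≤ pCore p P := by
      refine le_trans (le_inf ?_ ?_) h2
      · rw [Sylow.coe_subtype]
        exact Subgroup.comap_mono h.QS
      · exact (Subgroup.comap_mono hQN).trans h1
    have h4 := Subgroup.map_mono (f := P.subtype) h3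
    rwa [Subgroup.map_subgroupOf_eq_of_le h.QP] at h4

theorem Yn : Y.Normal := by
  rw [h.Yeq]; exact Subgroup.normalClosure_normal

theorem OY : (pResidual p ↥P).map P.subtype ≤ Y := by
  rw [h.Yeq]; exact Subgroup.le_normalClosure

theorem Y_le {N : Subgroup G} (hN : N.Normal) (hO : (pResidual p ↥P).map P.subtype ≤ N) : Y ≤ N := by
  rw [h.Yeq]; exact Subgroup.normalClosure_le_normal hO

/-- if `P ≤ N S` with `S` normalizing `N`, then `O^p(P) ≤ N` -/
theorem O_le {N : Subgroup G} (hN : (S : Subgroup G) ≤ Subgroup.normalizer (N : Set G))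
    (hP : P ≤ N ⊔ (S : Subgroup G)) : (pResidual p ↥P).map P.subtype ≤ N := by
  refine (H18.pRes_mono hP).trans ?_
  rw [H18.pRes_sup_eq S.isPGroup' hN]
  exact H18.pRes_le N

/-- a subgroup of `L` which is normalized by `O_p(L)` and contained in a normal subgroup... -/
theorem comm_le {H : Subgroup G} (hH : H ≤ L) (hQH : pCoreOf p L ≤ Subgroup.normalizer (H : Set G)) :
    ⁅H, pCoreOf p L⁆ ≤ pCoreOf p H := by
  have h1 : ⁅H, pCoreOf p L⁆ ≤ H ⊓ pCoreOf p L := by
    refine le_inf ?_ ?_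
    · exact H1.commutator_le_left_of_le_normalizer hQH
    · rw [Subgroup.commutator_comm]
      exact H1.commutator_le_left_of_le_normalizer (hH.trans h.LQ)
  refine h1.trans ?_
  refine H18.le_pCoreOf inf_le_left ?_ ((H18.isPGroup_pCoreOf L).to_le inf_le_right)
  exact H18.le_normalizer_inf Subgroup.le_normalizer (hH.trans h.LQ)

end IsoMin

end Cfsg.Agent.H19
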