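import Cfsg.Agent.H19.IsoMin1
import Cfsg.Agent.H1.Coprime

/-!
# Isolated `p`-minimal subgroups: the quotient by `O_p(G)`
-/

set_option autoImplicit false
set_option linter.style.haveILetI false
set_option linter.unusedSectionVars false
open Cfsg
open scoped commutatorElement

namespace Cfsg.Agent.H19

variable {G : Type*} [Group G] [Finite G] {p : ℕ} [hp : Fact p.Prime]

namespace IsoMin

variable {S : Sylow p G} {P L Y : Subgroup G} (h : IsoMin (S := S) (P := P) (L := L) (Y := Y))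
include h

local notation "π" => QuotientGroup.mk' (pCore p G)

theorem π_surj : Function.Surjective (QuotientGroup.mk' (pCore p G)) := QuotientGroup.mk'_surjective _

/-- invariant subgroup of the quotient -/
theorem bar_le {H : Subgroup (G ⧸ pCore p G)}
    (hS : (S : Subgroup G).map π ≤ Subgroup.normalizer (H : Set (G ⧸ pCore p G)))
    (hO : ¬ ((pResidual p ↥P).map P.subtype).map π ≤ H) : H.comap π ≤ L := by
  have hn : (S : Subgroup G) ≤ Subgroup.normalizer ((H.comap π : Subgroup G) : Set G) := by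
    have h1 := Subgroup.map_le_iff_le_comap.1 hS
    exact h1.trans (Subgroup.le_normalizer_comap _)
  have h1 : ¬ P ≤ H.comap π ⊔ (S : Subgroup G) := by
    intro hP
    apply hO
    rw [Subgroup.map_le_iff_le_comap]
    exact h.O_le hn hP
  exact le_sup_left.trans (h.le_L le_sup_right h1)

theorem bar_comm {H : Subgroup (G ⧸ pCore p G)}
    (hS : (S : Subgroup G).map π ≤ Subgroup.normalizer (H : Set (G ⧸ pCore p G)))
    (hO : ¬ ((pResidual p ↥P).map P.subtype).map π ≤ H) (hH : pCoreOf p H = ⊥) :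
    ⁅H, (pCoreOf p L).map π⁆ = ⊥ := by
  have h1 := h.bar_le hS hO
  have h2 : H ≤ L.map π := by
    have := Subgroup.map_mono (f := π) h1
    rwa [Subgroup.map_comap_eq_self_of_surjective h.π_surj] at this
  have h3 : H ≤ Subgroup.normalizer (((pCoreOf p L).map π : Subgroup (G ⧸ pCore p G)) : Set (G ⧸ pCore p G)) :=
    h2.trans ((Subgroup.map_mono h.LQ).trans (Subgroup.le_normalizer_map _))
  have h4 : (pCoreOf p L).map π ≤ Subgroup.normalizer (H : Set (G ⧸ pCore p G)) :=
    (Subgroup.map_mono h.QS).trans hS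
  rw [eq_bot_iff, ← hH]
  have h5 : ⁅H, (pCoreOf p L).map π⁆ ≤ H ⊓ (pCoreOf p L).map π := by
    refine le_inf ?_ ?_
    · exact H1.commutator_le_left_of_le_normalizer h4
    · rw [Subgroup.commutator_comm]
      exact H1.commutator_le_left_of_le_normalizer h3
  refine h5.trans ?_
  refine H18.le_pCoreOf inf_le_left ?_ (((H18.isPGroup_pCoreOf L).map _).to_le inf_le_right)
  exact H18.le_normalizer_inf Subgroup.le_normalizer h3

theorem Ybn : (Y.map π).Normal := h.Yn.map _ h.π_surj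

theorem Ob_Yb : ((pResidual p ↥P).map P.subtype).map π ≤ Y.map π := Subgroup.map_mono h.OY

theorem Yb_le {N : Subgroup (G ⧸ pCore p G)} (hN : N.Normal)
    (hO : ((pResidual p ↥P).map P.subtype).map π ≤ N) : Y.map π ≤ N := by
  rw [Subgroup.map_le_iff_le_comap] at hO ⊢
  exact h.Y_le (hN.comap _) hO

theorem pCoreOf_bot {N : Subgroup (G ⧸ pCore p G)} (hN : N.IsSubnormal) : pCoreOf p N = ⊥ := by
  rw [eq_bot_iff]
  refine (H18.pCoreOf_le_pCore_of_isSubnormal hN).trans ?_
  rw [H18.pCore_quotient_pCore]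

/-- a normal subgroup centralizing `Q̄` centralizes `Ȳ` -/
theorem comm_Yb {N : Subgroup (G ⧸ pCore p G)} (hN : N.Normal) (hc : ⁅N, (pCoreOf p L).map π⁆ = ⊥) :
    ⁅Y.map π, N⁆ = ⊥ := by
  rw [Subgroup.commutator_comm, Subgroup.commutator_eq_bot_iff_le_centralizer] at hc
  rw [Subgroup.commutator_eq_bot_iff_le_centralizer]
  have hn : (Subgroup.centralizer (N : Set (G ⧸ pCore p G))).Normal := inferInstance
  apply h.Yb_le hn
  rw [Subgroup.map_le_iff_le_comap] at hc ⊢
  exact h.pRes_le_of_Q (hn.comap _) hc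

/-- the dichotomy -/
theorem dich {N : Subgroup (G ⧸ pCore p G)} (hN : N.Normal) :
    Y.map π ≤ N ∨ (N.comap π ≤ L ∧ ⁅N, (pCoreOf p L).map π⁆ = ⊥ ∧ ⁅Y.map π, N⁆ = ⊥) := by
  by_cases hO : ((pResidual p ↥P).map P.subtype).map π ≤ N
  · exact Or.inl (h.Yb_le hN hO)
  · right
    have hS : (S : Subgroup G).map π ≤ Subgroup.normalizer (N : Set (G ⧸ pCore p G)) :=
      H18.le_normalizer_of_normal
    have h1 := h.bar_comm hS hO (h.pCoreOf_bot hN.isSubnormal)
    exact ⟨h.bar_le hS hO, h1, h.comm_Yb hN h1⟩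

theorem P_le_of_Ob {H : Subgroup G} (hD : pCore p G ≤ H) (hS : (S : Subgroup G) ≤ H)
    (hO : ((pResidual p ↥P).map P.subtype).map π ≤ H.map π) : P ≤ H := by
  rw [← h.sup_pRes]
  refine sup_le hS ?_
  rw [Subgroup.map_le_iff_le_comap, Subgroup.comap_map_eq, QuotientGroup.ker_mk'] at hO
  exact hO.trans (sup_le le_rfl hD)

/-- `Q̄` does not centralize `Ō` -/
theorem not_comm_Ob : ⁅((pResidual p ↥P).map P.subtype).map π, (pCoreOf p L).map π⁆ ≠ ⊥ := by
  intro hc
  apply h.not_normalizes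
  refine h.P_le_of_Ob (h.DQ.trans Subgroup.le_normalizer) (h.SL.trans h.LQ) ?_
  rw [Subgroup.commutator_eq_bot_iff_le_centralizer, Subgroup.map_le_iff_le_comap] at hc
  refine Subgroup.map_mono (hc.trans ?_)
  intro g hg
  rw [H18.mem_normalizer_iff_conj]
  intro x
  have key : ∀ g : G, g ∈ (Subgroup.centralizer (((pCoreOf p L).map π : Subgroup (G ⧸ pCore p G)) :
      Set (G ⧸ pCore p G))).comap π → ∀ x ∈ pCoreOf p L, g * x * g⁻¹ ∈ pCoreOf p L := by
    intro g hg x hx
    have h1 := Subgroup.mem_centralizer_iff.1 hg (π x) ⟨x, hx, rfl⟩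
    have h2 : π (g * x * g⁻¹) = π x := by
      rw [map_mul, map_mul, map_inv, ← h1, mul_inv_cancel_right]
    have h3 : x⁻¹ * (g * x * g⁻¹) ∈ pCore p G := by
      rw [← QuotientGroup.eq]
      exact h2.symm
    have h4 := (pCoreOf p L).mul_mem hx (h.DQ h3)
    rwa [mul_inv_cancel_left] at h4
  constructor
  · exact key g hg x
  · intro hx
    have := key g⁻¹ (inv_mem hg) _ hx
    simpa [mul_assoc] using this

theorem not_comm : ⁅Y.map π, (pCoreOf p L).map π⁆ ≠ ⊥ := by
  intro hc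
  apply h.not_comm_Ob
  rw [eq_bot_iff, ← hc]
  exact Subgroup.commutator_mono h.Ob_Yb le_rfl

theorem Ob_ne : ((pResidual p ↥P).map P.subtype).map π ≠ ⊥ := by
  intro hc
  apply h.not_comm_Ob
  rw [hc, Subgroup.commutator_bot_left]

theorem Yb_ne : Y.map π ≠ ⊥ := by
  intro hc
  have := h.Ob_Yb
  rw [hc, le_bot_iff] at this
  exact h.Ob_ne this

theorem PYL : Y ⊔ L = ⊤ := by
  have hYn := h.Yn
  have h1 : P ≤ Y ⊔ L := by
    rw [← h.sup_pRes]
    exact sup_le (h.SL.trans le_sup_right) (h.OY.trans le_sup_left)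
  by_contra hc
  rw [← top_le_iff] at hc
  apply hc
  have h2 := h.le_sup (X := ⊤) le_top le_top
  rw [inf_top_eq] at h2
  exact h2.trans (sup_le h1 le_sup_right)

theorem YbLb : Y.map π ⊔ L.map π = ⊤ := by
  rw [← Subgroup.map_sup, h.PYL, Subgroup.map_top_of_surjective _ h.π_surj]

/-- `Ȳ'` central, or `Ȳ` perfect -/
theorem perfect_or : ⁅Y.map π, Y.map π⁆ = Y.map π ∨ ⁅Y.map π, ⁅Y.map π, Y.map π⁆⁆ = ⊥ := by
  have hn := h.Ybn
  rcases h.dich (N := ⁅Y.map π, Y.map π⁆) inferInstance with h1 | h1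
  · exact Or.inl (le_antisymm (Subgroup.commutator_le_self _) h1)
  · exact Or.inr h1.2.2

end IsoMin

end Cfsg.Agent.H19
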