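import Cfsg.Agent.H19.IsoMin2
import Cfsg.Agent.H1.Coprime
import Cfsg.Agent.H1.Cores

/-!
# Isolated `p`-minimal subgroups: the solvable case
-/

set_option autoImplicit false
set_option linter.style.haveILetI false
set_option linter.unusedSectionVars false
open Cfsg
open scoped commutatorElement

namespace Cfsg.Agent.H19

variable {G : Type*} [Group G] [Finite G] {p : ℕ} [hp : Fact p.Prime]

namespace IsoMin

variable {S : Sylow p G} {P L Y : Subgroup G} (h : IsoMin (S := S) (P := P) (L := L) (Y := Y))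
include h

local notation "π" => QuotientGroup.mk' (pCore p G)

theorem class_two (hs : Group.IsSolvable Y) : ⁅Y.map π, ⁅Y.map π, Y.map π⁆⁆ = ⊥ ∧
    ⁅⁅Y.map π, Y.map π⁆, (pCoreOf p L).map π⁆ = ⊥ := by
  have hn := h.Ybn
  rcases h.dich (N := ⁅Y.map π, Y.map π⁆) inferInstance with h1 | h1
  · exfalso
    have h2 : ⁅Y.map π, Y.map π⁆ = Y.map π := le_antisymm (Subgroup.commutator_le_self _) h1
    have h3 : Group.IsSolvable (Y.map π) :=
      Group.isSolvable_of_surjective (f := (QuotientGroup.mk' (pCore p G)).subgroupMap Y)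
        ((QuotientGroup.mk' (pCore p G)).subgroupMap_surjective Y)
    have h4 : Group.IsPerfect (Y.map π) := Subgroup.isPerfect_iff.2 h2
    have h5 : Nontrivial (Y.map π) := (Subgroup.nontrivial_iff_ne_bot _).2 h.Yb_ne
    exact Group.IsPerfect.not_isSolvable _ h3
  · exact ⟨h1.2.2, h1.2.1⟩

theorem nilp (hc : ⁅Y.map π, ⁅Y.map π, Y.map π⁆⁆ = ⊥) : Group.IsNilpotent (Y.map π) ∧
    (Y.map π).lowerCentralSeries 2 = ⊥ := by
  have h1 : (Y.map π).lowerCentralSeries 2 = ⊥ := by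
    rw [Subgroup.lowerCentralSeries_succ, Subgroup.lowerCentralSeries_succ, Subgroup.lowerCentralSeries_zero,
      Subgroup.commutator_comm]
    exact hc
  exact ⟨(Subgroup.isNilpotent_iff_lowerCentralSeries _).2 ⟨2, h1⟩, h1⟩

theorem exists_prime (hN : Group.IsNilpotent (Y.map π)) : ∃ t : ℕ, t.Prime ∧ t ≠ p ∧ IsPGroup t (Y.map π) := by
  by_contra hcon
  push Not at hcon
  have hYn := h.Ybn
  have key : ∀ r : Nat.Primes, ⁅pCoreOf (r : ℕ) (Y.map π), (pCoreOf p L).map π⁆ = ⊥ := by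
    intro r
    have : Fact (r : ℕ).Prime := ⟨r.2⟩
    have hn : (pCoreOf (r : ℕ) (Y.map π)).Normal := by
      rw [← Subgroup.normalizer_eq_top_iff, eq_top_iff]
      have := H18.normalizer_le_normalizer_pCoreOf (p := (r : ℕ)) (Y.map π)
      rwa [Subgroup.normalizer_eq_top] at this
    rcases h.dich hn with h1 | h1
    · exfalso
      have h2 : IsPGroup (r : ℕ) (Y.map π) := (H18.isPGroup_pCoreOf (Y.map π)).to_le h1
      by_cases hrp : (r : ℕ) = p
      · apply h.Yb_ne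
        rw [eq_bot_iff, ← h.pCoreOf_bot hYn.isSubnormal]
        refine H18.le_pCoreOf le_rfl Subgroup.le_normalizer ?_
        rwa [hrp] at h2
      · exact hcon r r.2 hrp h2
    · exact h1.2.1
  apply h.not_comm
  have h1 : Y.map π ≤ ⨆ r : Nat.Primes, pCoreOf (r : ℕ) (Y.map π) := by
    have h2 : (⊤ : Subgroup (Y.map π)) ≤ ⨆ r : Nat.Primes, pCore (r : ℕ) (Y.map π) :=
      H1.le_iSup_pCore_of_nilpotent inferInstance (Group.nilpotent_of_mulEquiv Subgroup.topEquiv.symm)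
    have h3 := Subgroup.map_mono (f := (Y.map π).subtype) h2
    rw [← MonoidHom.range_eq_map, Subgroup.range_subtype, Subgroup.map_iSup] at h3
    exact h3
  rw [eq_bot_iff]
  refine (Subgroup.commutator_mono h1 le_rfl).trans ?_
  rw [← eq_bot_iff, Subgroup.commutator_eq_bot_iff_le_centralizer]
  refine iSup_le fun r => ?_
  rw [← Subgroup.commutator_eq_bot_iff_le_centralizer]
  exact key r

theorem YS_le : Y ⊔ (S : Subgroup G) ≤
    ((pResidual p ↥P).map P.subtype ⊔ (L ⊓ Y)) ⊔ (S : Subgroup G) := by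
  have hYn := h.Yn
  have hPX : P ≤ Y ⊔ (S : Subgroup G) := by
    rw [← h.sup_pRes]
    exact sup_le le_sup_right (h.OY.trans le_sup_left)
  refine (h.le_sup le_sup_right hPX).trans ?_
  refine sup_le ?_ ?_
  · conv_lhs => rw [← h.sup_pRes]
    exact sup_le le_sup_right (le_sup_left.trans le_sup_left)
  · intro x hx
    obtain ⟨hx1, hx2⟩ := Subgroup.mem_inf.1 hx
    have hn : (S : Subgroup G) ≤ Subgroup.normalizer (Y : Set G) := H18.le_normalizer_of_normal
    rw [sup_comm, H18.mem_sup_iff_of_le_normalizer' hn] at hx2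
    obtain ⟨y, hy, s, hs, hys⟩ := hx2
    have h2 : y ∈ L := by
      have := L.mul_mem hx1 (L.inv_mem (h.SL hs))
      rwa [← hys, mul_inv_cancel_right] at this
    rw [← hys]
    exact mul_mem (Subgroup.mem_sup_left (Subgroup.mem_sup_right (Subgroup.mem_inf.2 ⟨h2, hy⟩)))
      (Subgroup.mem_sup_right hs)

set_option maxHeartbeats 1000000 in
theorem Yb_le_V (hs : Group.IsSolvable Y) {t : ℕ} (ht : t.Prime) (htp : t ≠ p)
    (hY : IsPGroup t (Y.map π)) : Y.map π ≤ ((pResidual p ↥P).map P.subtype).map π := by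
  have htf : Fact t.Prime := ⟨ht⟩
  obtain ⟨c1, c2⟩ := h.class_two hs
  have hYn := h.Ybn
  have hYn0 := h.Yn
  set Yb := Y.map π with hYb
  set Ob := ((pResidual p ↥P).map P.subtype).map π with hOb
  set Qb := (pCoreOf p L).map π with hQb
  have hQbp : IsPGroup p Qb := (H18.isPGroup_pCoreOf L).map _
  have hcop : (Nat.card Qb).Coprime (Nat.card Yb) := by
    obtain ⟨a, ha⟩ := hQbp.exists_card_eq
    obtain ⟨b, hb⟩ := hY.exists_card_eq
    rw [ha, hb]
    exact Nat.Coprime.pow _ _ ((Nat.coprime_primes hp.out ht).2 (Ne.symm htp))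
  have hSYb : ∀ x ∈ (S : Subgroup G).map π, x ∈ Yb → x = 1 := by
    intro x hx hx2
    have h1 : IsPGroup p ((S : Subgroup G).map π) := S.isPGroup'.map _
    have h2 := IsPGroup.disjoint_of_ne t p htp _ _ hY h1
    exact Subgroup.disjoint_def.1 h2 hx2 hx
  have hOYb : Ob ≤ Yb := h.Ob_Yb
  have hQSb : Qb ≤ (S : Subgroup G).map π := Subgroup.map_mono h.QS
  have hD : (⁅Yb, Yb⁆ : Subgroup _) ≤ Yb := Subgroup.commutator_le_self _
  -- step 1: Yb = [Yb,Qb] Yb'
  have s1 : Yb ≤ ⁅Yb, Qb⁆ ⊔ ⁅Yb, Yb⁆ := by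
    have hn : (⁅Yb, Qb⁆ ⊔ ⁅Yb, Yb⁆ : Subgroup _).Normal := by
      rw [← Subgroup.normalizer_eq_top_iff, ← top_le_iff, ← h.YbLb]
      refine sup_le ?_ ?_
      · intro y hy
        have hle : (⁅Yb, Qb⁆ ⊔ ⁅Yb, Yb⁆ : Subgroup _) ≤ Yb :=
          sup_le (H1.commutator_le_left_of_le_normalizer H18.le_normalizer_of_normal) hD
        have key : ∀ y ∈ Yb, ∀ x ∈ (⁅Yb, Qb⁆ ⊔ ⁅Yb, Yb⁆ : Subgroup _),
            y * x * y⁻¹ ∈ (⁅Yb, Qb⁆ ⊔ ⁅Yb, Yb⁆ : Subgroup _) := by
          intro y hy x hx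
          have e : y * x * y⁻¹ = ⁅y, x⁆ * x := by rw [commutatorElement_def]; group
          rw [e]
          exact mul_mem (Subgroup.mem_sup_right (Subgroup.commutator_mem_commutator hy (hle hx))) hx
        exact H18.le_normalizer_of_conj_mem key hy
      · have hLQ : L.map π ≤ Subgroup.normalizer (Qb : Set (G ⧸ pCore p G)) :=
          (Subgroup.map_mono h.LQ).trans (Subgroup.le_normalizer_map _)
        exact H18.le_normalizer_sup (H18.le_normalizer_commutator H18.le_normalizer_of_normal hLQ)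
          (H18.le_normalizer_commutator H18.le_normalizer_of_normal H18.le_normalizer_of_normal)
    rcases h.dich hn with h1 | h1
    · exact h1
    · exfalso
      apply h.not_comm
      have h2 : ⁅⁅Yb, Qb⁆, Qb⁆ = ⊥ := by
        rw [eq_bot_iff, ← h1.2.1]
        exact Subgroup.commutator_mono le_sup_left le_rfl
      have h3 := H1.commutator_commutator_eq Qb Yb H18.le_normalizer_of_normal hcop
        (Or.inl (H23.isSolvable_of_isPGroup hQbp))
      rw [← h3, h2]
  -- step 2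
  have hSO : (S : Subgroup G).map π ≤ Subgroup.normalizer (Ob : Set (G ⧸ pCore p G)) :=
    (Subgroup.map_mono (h.SP.trans (H18.le_normalizer_pRes P))).trans (Subgroup.le_normalizer_map _)
  have hSV : (S : Subgroup G).map π ≤
      Subgroup.normalizer ((Ob ⊔ ⁅Yb, Yb⁆ : Subgroup (G ⧸ pCore p G)) : Set (G ⧸ pCore p G)) :=
    H18.le_normalizer_sup hSO
      (H18.le_normalizer_commutator H18.le_normalizer_of_normal H18.le_normalizer_of_normal)
  have hSC : (S : Subgroup G).map π ≤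
      Subgroup.normalizer (((L ⊓ Y).map π : Subgroup (G ⧸ pCore p G)) : Set (G ⧸ pCore p G)) :=
    (Subgroup.map_mono (H18.le_normalizer_inf (h.SL.trans Subgroup.le_normalizer)
      H18.le_normalizer_of_normal)).trans (Subgroup.le_normalizer_map _)
  have hVY : (Ob ⊔ ⁅Yb, Yb⁆ : Subgroup (G ⧸ pCore p G)) ≤ Yb := sup_le hOYb hD
  have hCY : (L ⊓ Y).map π ≤ Yb := Subgroup.map_mono inf_le_right
  have hYV : Yb ≤ Subgroup.normalizer ((Ob ⊔ ⁅Yb, Yb⁆ : Subgroup (G ⧸ pCore p G)) : Set (G ⧸ pCore p G)) := by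
    refine H18.le_normalizer_of_conj_mem fun y hy x hx => ?_
    have e : y * x * y⁻¹ = ⁅y, x⁆ * x := by rw [commutatorElement_def]; group
    rw [e]
    exact mul_mem (Subgroup.mem_sup_right (Subgroup.commutator_mem_commutator hy (hVY hx))) hx
  have s2 : Yb ≤ (Ob ⊔ ⁅Yb, Yb⁆) ⊔ (L ⊓ Y).map π := by
    have h1 := h.YS_le
    have h2 := Subgroup.map_mono (f := π) h1
    rw [Subgroup.map_sup, Subgroup.map_sup, Subgroup.map_sup] at h2
    have h3 : Yb ≤ ((Ob ⊔ ⁅Yb, Yb⁆) ⊔ (L ⊓ Y).map π) ⊔ (S : Subgroup G).map π :=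
      le_sup_left.trans (h2.trans (sup_le_sup_right (sup_le_sup_right le_sup_left _) _))
    intro y hy
    have h4 := h3 hy
    rw [sup_comm, H18.mem_sup_iff_of_le_normalizer' (H18.le_normalizer_sup hSV hSC)] at h4
    obtain ⟨w, hw, s, hs, rfl⟩ := h4
    have hwY : w ∈ Yb := (sup_le hVY hCY) hw
    have hsY : s ∈ Yb := by
      have := Yb.mul_mem (Yb.inv_mem hwY) hy
      rwa [inv_mul_cancel_left] at this
    rw [hSYb s hs hsY, mul_one]
    exact hw
  -- step 3
  have hCQ : ∀ c ∈ (L ⊓ Y).map π, ∀ q ∈ Qb, c * q = q * c := by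
    intro c hc q hq
    have h1 : ⁅c, q⁆ ∈ Yb := by
      have h0 := Yb.mul_mem (hCY hc) (hYn.conj_mem _ (Yb.inv_mem (hCY hc)) q)
      rw [commutatorElement_def]
      simpa [mul_assoc] using h0
    have h2 : ⁅c, q⁆ ∈ Qb := by
      have hcn : c ∈ Subgroup.normalizer (Qb : Set (G ⧸ pCore p G)) :=
        ((Subgroup.map_mono (inf_le_left.trans h.LQ)).trans (Subgroup.le_normalizer_map _)) hc
      have h0 := Qb.mul_mem (H18.conj_mem_of_mem_normalizer hcn hq) (Qb.inv_mem hq)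
      rwa [commutatorElement_def]
    have h3 := hSYb _ (hQSb h2) h1
    rwa [commutatorElement_eq_one_iff_mul_comm] at h3
  have s3 : ⁅Yb, Qb⁆ ≤ Ob ⊔ ⁅Yb, Yb⁆ := by
    rw [Subgroup.commutator_le]
    intro y hy q hq
    have h4 := s2 hy
    rw [sup_comm, H18.mem_sup_iff_of_le_normalizer' (hCY.trans hYV)] at h4
    obtain ⟨v, hv, c, hc, rfl⟩ := h4
    have e : ⁅v * c, q⁆ = v * (q * v⁻¹ * q⁻¹) := by
      rw [commutatorElement_def]
      have := hCQ c hc q hq
      calc v * c * q * (v * c)⁻¹ * q⁻¹ = v * (c * q) * c⁻¹ * v⁻¹ * q⁻¹ := by group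
        _ = v * (q * c) * c⁻¹ * v⁻¹ * q⁻¹ := by rw [this]
        _ = _ := by group
    rw [e]
    exact mul_mem hv (H18.conj_mem_of_mem_normalizer (hSV (hQSb hq)) (inv_mem hv))
  have s4 : Yb ≤ Ob ⊔ ⁅Yb, Yb⁆ := s1.trans (sup_le s3 le_sup_right)
  have hcen : ∀ d ∈ (⁅Yb, Yb⁆ : Subgroup (G ⧸ pCore p G)), ∀ y ∈ Yb, Commute d y := by
    intro d hd y hy
    have h1 : ⁅y, d⁆ ∈ (⁅Yb, ⁅Yb, Yb⁆⁆ : Subgroup (G ⧸ pCore p G)) :=
      Subgroup.commutator_mem_commutator hy hd
    rw [c1, Subgroup.mem_bot, commutatorElement_eq_one_iff_mul_comm] at h1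
    exact h1.symm
  have s5 : (⁅Yb, Yb⁆ : Subgroup (G ⧸ pCore p G)) ≤ Ob := by
    rw [Subgroup.commutator_le]
    intro y hy y' hy'
    have hDO : Ob ≤ Subgroup.normalizer ((⁅Yb, Yb⁆ : Subgroup (G ⧸ pCore p G)) : Set (G ⧸ pCore p G)) :=
      H18.le_normalizer_of_normal
    obtain ⟨d, hd, o, ho, rfl⟩ := (H18.mem_sup_iff_of_le_normalizer' hDO).1 (s4 hy)
    obtain ⟨d', hd', o', ho', rfl⟩ := (H18.mem_sup_iff_of_le_normalizer' hDO).1 (s4 hy')
    rw [H18.comm_central_mul (hcen d hd o (hOYb ho)) (hcen d' hd' o (hOYb ho)) (hcen d hd o' (hOYb ho'))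
      (hcen d' hd' o' (hOYb ho')) (hcen d hd d' (hD hd'))]
    rw [commutatorElement_def]
    exact mul_mem (mul_mem (mul_mem ho ho') (inv_mem ho)) (inv_mem ho')
  exact s4.trans (sup_le le_rfl s5)

theorem O_eq_Y (hO : Y.map π ≤ ((pResidual p ↥P).map P.subtype).map π) :
    (pResidual p ↥P).map P.subtype = Y := by
  have hYn := h.Yn
  apply le_antisymm h.OY
  have h1 : Y ≤ P := by
    rw [Subgroup.map_le_iff_le_comap, Subgroup.comap_map_eq, QuotientGroup.ker_mk'] at hO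
    exact hO.trans (sup_le (H18.pRes_le P) (h.DS.trans h.SP))
  have h2 : P = Y ⊔ (S : Subgroup G) := by
    apply le_antisymm
    · rw [← h.sup_pRes]
      exact sup_le le_sup_right (h.OY.trans le_sup_left)
    · exact sup_le h1 h.SP
  have h3 : (pResidual p ↥P).map P.subtype = (pResidual p ↥Y).map Y.subtype := by
    have := H18.pRes_sup_eq (p := p) (H := Y) S.isPGroup' H18.le_normalizer_of_normal
    rw [← this]
    conv_lhs => rw [h2]
  have h4 : ((pResidual p ↥P).map P.subtype).Normal := by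
    rw [h3]
    exact H18.pRes_normal Y
  exact h.Y_le h4 le_rfl

end IsoMin

end Cfsg.Agent.H19
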