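import Cfsg.Agent.H19.IsoMin3

/-!
# `Y / O_p(Y)` and its image in `G / O_p(G)`
-/

set_option autoImplicit false
set_option linter.style.haveILetI false
set_option linter.unusedSectionVars false
open Cfsg
open scoped commutatorElement

namespace Cfsg.Agent.H19

variable {G : Type*} [Group G] [Finite G] {p : ℕ} [hp : Fact p.Prime]

theorem ker_subgroupMap_pCore (Y : Subgroup G) [hY : Y.Normal] :
    ((QuotientGroup.mk' (pCore p G)).subgroupMap Y).ker = pCore p ↥Y := by
  have h1 : pCoreOf p Y = Y ⊓ pCore p G := H18.pCoreOf_eq_inf_of_isSubnormal hY.isSubnormal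
  rw [← H18.pCoreOf_subgroupOf, h1]
  ext y
  rw [MonoidHom.mem_ker, Subgroup.mem_subgroupOf, Subgroup.mem_inf]
  constructor
  · intro h
    refine ⟨y.2, ?_⟩
    have := congrArg Subtype.val h
    exact (QuotientGroup.eq_one_iff (y : G)).1 this
  · rintro ⟨-, h⟩
    exact Subtype.ext ((QuotientGroup.eq_one_iff (y : G)).2 h)

/-- `Y/O_p(Y) ≅ Y O_p(G)/O_p(G)` -/
noncomputable def quotMapEquiv (Y : Subgroup G) [hY : Y.Normal] :
    (↥Y ⧸ pCore p ↥Y) ≃* ↥(Y.map (QuotientGroup.mk' (pCore p G))) :=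
  (QuotientGroup.quotientMulEquivOfEq (ker_subgroupMap_pCore (p := p) Y).symm).trans
    (QuotientGroup.quotientKerEquivOfSurjective ((QuotientGroup.mk' (pCore p G)).subgroupMap Y)
      ((QuotientGroup.mk' (pCore p G)).subgroupMap_surjective Y))

theorem quotMapEquiv_mk (Y : Subgroup G) [hY : Y.Normal] (y : Y) :
    ((quotMapEquiv (p := p) Y (QuotientGroup.mk' (pCore p ↥Y) y) : Y.map (QuotientGroup.mk' (pCore p G))) :
      G ⧸ pCore p G) = QuotientGroup.mk' (pCore p G) (y : G) := rfl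

end Cfsg.Agent.H19
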