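import Cfsg.Agent.H19.IsoMin4
import Cfsg.Agent.H10.Comp
import Cfsg.Agent.H1.Sylow
import Cfsg.Agent.H23.Coprime4

/-!
# Isolated `p`-minimal subgroups: the nonsolvable case
-/

set_option autoImplicit false
set_option linter.style.haveILetI false
set_option linter.unusedSectionVars false
open Cfsg
open scoped commutatorElement

namespace Cfsg.Agent.H19

variable {G : Type*} [Group G] [Finite G] {p : ℕ} [hp : Fact p.Prime]

/-- the components inside a normal subgroup -/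
def compsIn {X : Type*} [Group X] (N : Subgroup X) : Set (Subgroup X) := {K | IsComponent K ∧ K ≤ N}

theorem le_normalizer_sSup {X : Type*} [Group X] {A : Subgroup X} {C : Set (Subgroup X)}
    (hC : ∀ a ∈ A, ∀ K ∈ C, K.map (MulAut.conj a).toMonoidHom ≤ sSup C) :
    A ≤ Subgroup.normalizer ((sSup C : Subgroup X) : Set X) := by
  refine H18.le_normalizer_of_conj_mem fun a ha x hx => ?_
  have h1 : sSup C ≤ (sSup C).comap (MulAut.conj a).toMonoidHom := by
    refine sSup_le fun K hK => ?_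
    rw [← Subgroup.map_le_iff_le_comap]
    exact hC a ha K hK
  exact h1 hx

theorem comp_conj {X : Type*} [Group X] {K : Subgroup X} (hK : IsComponent K) (g : X) :
    IsComponent (K.map (MulAut.conj g).toMonoidHom) := H10.component_map_equiv (MulAut.conj g) hK

theorem conj_le_normal {X : Type*} [Group X] {K N : Subgroup X} (hN : N.Normal) (hK : K ≤ N) (g : X) :
    K.map (MulAut.conj g).toMonoidHom ≤ N := by
  rintro _ ⟨x, hx, rfl⟩
  exact hN.conj_mem x (hK hx) g

theorem comm_map_conj {X : Type*} [Group X] {K Q : Subgroup X} (g : X) (hK : ⁅K, Q⁆ = ⊥)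
    (hQ : Q.map (MulAut.conj g).toMonoidHom = Q) : ⁅K.map (MulAut.conj g).toMonoidHom, Q⁆ = ⊥ := by
  conv_lhs => rw [← hQ]
  rw [← Subgroup.map_commutator, hK, Subgroup.map_bot]

namespace IsoMin

variable {S : Sylow p G} {P L Y : Subgroup G} (h : IsoMin (S := S) (P := P) (L := L) (Y := Y))
include h

local notation "π" => QuotientGroup.mk' (pCore p G)

theorem compsIn_normal : (sSup (compsIn (Y.map π))).Normal := by
  rw [← Subgroup.normalizer_eq_top_iff, ← top_le_iff]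
  refine le_normalizer_sSup fun a _ K hK => ?_
  exact le_sSup ⟨comp_conj hK.1 a, conj_le_normal h.Ybn hK.2 a⟩

theorem Yb_le_genFitting : Y.map π ≤ generalizedFittingSubgroup (G ⧸ pCore p G) := by
  rcases h.dich (H10.genFitting_normal (G ⧸ pCore p G)) with h1 | h1
  · exact h1
  · have h2 := h1.2.2
    rw [Subgroup.commutator_eq_bot_iff_le_centralizer] at h2
    exact h2.trans H10.centralizer_genFitting_le

theorem Yb_le_layer (hP : Y.map π ≤ ⁅Y.map π, Y.map π⁆) : Y.map π ≤ layer (G ⧸ pCore p G) := by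
  have hln := H10.layer_normal (G ⧸ pCore p G)
  set ψ := QuotientGroup.mk' (layer (G ⧸ pCore p G)) with hψ
  have h1 : (Y.map π).map ψ ≤ (fittingSubgroup (G ⧸ pCore p G)).map ψ := by
    have h2 := Subgroup.map_mono (f := ψ) h.Yb_le_genFitting
    rw [generalizedFittingSubgroup, Subgroup.map_sup] at h2
    have h3 : (layer (G ⧸ pCore p G)).map ψ = ⊥ := by
      rw [Subgroup.map_eq_bot_iff, hψ, QuotientGroup.ker_mk']
    rwa [h3, bot_sup_eq] at h2
  have h2 : Group.IsSolvable ((fittingSubgroup (G ⧸ pCore p G)).map ψ) := by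
    have h3 : Group.IsNilpotent (fittingSubgroup (G ⧸ pCore p G)) := by
      rw [H1.fitting_eq_iSup_pCore]; exact H1.iSup_pCore_isNilpotent
    exact Group.isSolvable_of_surjective (f := ψ.subgroupMap (fittingSubgroup (G ⧸ pCore p G)))
        (ψ.subgroupMap_surjective _)
  have h3 : Group.IsSolvable ((Y.map π).map ψ) := H10.isSolvable_of_le h1 h2
  have h4 : ⁅(Y.map π).map ψ, (Y.map π).map ψ⁆ = (Y.map π).map ψ := by
    rw [← Subgroup.map_commutator, le_antisymm (Subgroup.commutator_le_self _) hP]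
  have h5 : (Y.map π).map ψ = ⊥ := by
    by_contra hne
    have h6 : Group.IsPerfect ((Y.map π).map ψ) := Subgroup.isPerfect_iff.2 h4
    have h7 : Nontrivial ((Y.map π).map ψ) := (Subgroup.nontrivial_iff_ne_bot _).2 hne
    exact Group.IsPerfect.not_isSolvable _ h3
  rwa [Subgroup.map_eq_bot_iff, hψ, QuotientGroup.ker_mk'] at h5

theorem Yb_le_comps (hP : Y.map π ≤ ⁅Y.map π, Y.map π⁆) : Y.map π ≤ sSup (compsIn (Y.map π)) := by
  rcases h.dich h.compsIn_normal with h1 | h1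
  · exact h1
  · exfalso
    apply h.Yb_ne
    have hYn := h.Ybn
    have key : ∀ K : Subgroup (G ⧸ pCore p G), IsComponent K → ⁅Y.map π, K⁆ = ⊥ := by
      intro K hK
      rcases H10.comp_le_or_commutes_normal hK hYn with h2 | h2
      · exfalso
        have h3 : ⁅K, K⁆ ≤ ⁅Y.map π, sSup (compsIn (Y.map π))⁆ :=
          Subgroup.commutator_mono h2 (le_sSup ⟨hK, h2⟩)
        rw [h1.2.2, H10.comp_commutator_self hK, le_bot_iff] at h3
        exact H10.comp_ne_bot hK h3
      · exact h2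
    have h4 : ⁅Y.map π, layer (G ⧸ pCore p G)⁆ = ⊥ := H10.commutator_sSup_eq_bot fun K hK => key K hK
    rw [eq_bot_iff, ← h4]
    exact hP.trans (Subgroup.commutator_mono le_rfl (h.Yb_le_layer hP))

theorem Yb_le_normalizer (hP : Y.map π ≤ ⁅Y.map π, Y.map π⁆) {K : Subgroup (G ⧸ pCore p G)}
    (hK : IsComponent K) : Y.map π ≤ Subgroup.normalizer (K : Set (G ⧸ pCore p G)) :=
  (h.Yb_le_layer hP).trans (H10.layer_le_normalizer_comp hK)

theorem comp_not_comm (hP : Y.map π ≤ ⁅Y.map π, Y.map π⁆) {K : Subgroup (G ⧸ pCore p G)}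
    (hK : K ∈ compsIn (Y.map π)) : ⁅K, (pCoreOf p L).map π⁆ ≠ ⊥ := by
  intro hc
  have hYn := h.Ybn
  set C : Set (Subgroup (G ⧸ pCore p G)) := {K | K ∈ compsIn (Y.map π) ∧ ⁅K, (pCoreOf p L).map π⁆ = ⊥} with hC
  have hCn : (sSup C).Normal := by
    rw [← Subgroup.normalizer_eq_top_iff, ← top_le_iff, ← h.YbLb]
    refine sup_le ?_ ?_
    · refine le_normalizer_sSup fun a ha K hK => ?_
      have h1 := h.Yb_le_normalizer hP hK.1.1 ha
      rw [Subgroup.mem_normalizer_iff_map_conj_eq] at h1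
      exact le_of_eq_of_le h1 (le_sSup hK)
    · refine le_normalizer_sSup fun a ha K hK => ?_
      refine le_sSup ⟨⟨comp_conj hK.1.1 a, conj_le_normal hYn hK.1.2 a⟩, ?_⟩
      refine comm_map_conj a hK.2 ?_
      have hLQ : L.map π ≤ Subgroup.normalizer (((pCoreOf p L).map π : Subgroup (G ⧸ pCore p G)) : Set (G ⧸ pCore p G)) :=
        (Subgroup.map_mono h.LQ).trans (Subgroup.le_normalizer_map _)
      exact Subgroup.mem_normalizer_iff_map_conj_eq.1 (hLQ ha)
  rcases h.dich hCn with h1 | h1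
  · apply h.not_comm
    rw [Subgroup.commutator_eq_bot_iff_le_centralizer]
    refine h1.trans (sSup_le fun K hK => ?_)
    rw [← Subgroup.commutator_eq_bot_iff_le_centralizer]
    exact hK.2
  · have h3 : ⁅K, K⁆ ≤ ⁅Y.map π, sSup C⁆ := Subgroup.commutator_mono hK.2 (le_sSup ⟨hK, hc⟩)
    rw [h1.2.2, H10.comp_commutator_self hK.1, le_bot_iff] at h3
    exact H10.comp_ne_bot hK.1 h3

theorem Ob_le_orbit (hP : Y.map π ≤ ⁅Y.map π, Y.map π⁆) {K : Subgroup (G ⧸ pCore p G)}
    (hK : K ∈ compsIn (Y.map π)) : ((pResidual p ↥P).map P.subtype).map π ≤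
      sSup {K' | ∃ s ∈ (S : Subgroup G), K' = K.map (MulAut.conj (π s)).toMonoidHom} := by
  by_contra hO
  have hYn := h.Ybn
  set N := sSup {K' | ∃ s ∈ (S : Subgroup G), K' = K.map (MulAut.conj (π s)).toMonoidHom} with hN
  have hKN : K ≤ N := by
    refine le_sSup ⟨1, one_mem _, ?_⟩
    rw [map_one, map_one]
    exact (Subgroup.map_id K).symm
  have hS : (S : Subgroup G).map π ≤ Subgroup.normalizer (N : Set (G ⧸ pCore p G)) := by
    refine le_normalizer_sSup ?_
    rintro _ ⟨s, hs, rfl⟩ _ ⟨s', hs', rfl⟩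
    refine le_sSup ⟨s * s', mul_mem hs hs', ?_⟩
    rw [Subgroup.map_map, map_mul, map_mul]
    rfl
  have hNY : N ≤ Y.map π := by
    refine sSup_le ?_
    rintro _ ⟨s, hs, rfl⟩
    exact conj_le_normal hYn hK.2 _
  have hYN : Y.map π ≤ Subgroup.normalizer (N : Set (G ⧸ pCore p G)) := by
    refine le_normalizer_sSup ?_
    rintro a ha _ ⟨s, hs, rfl⟩
    have h1 := h.Yb_le_normalizer hP (comp_conj hK.1 (π s)) ha
    rw [Subgroup.mem_normalizer_iff_map_conj_eq] at h1
    exact le_of_eq_of_le h1 (le_sSup ⟨s, hs, rfl⟩)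
  have hsub : N.IsSubnormal :=
    Subgroup.IsSubnormal.step N (Y.map π) hNY hYn.isSubnormal ((H18.normal_subgroupOf_iff hNY).2 hYN)
  have h1 := h.bar_comm hS hO (h.pCoreOf_bot hsub)
  apply h.comp_not_comm hP hK
  rw [eq_bot_iff, ← h1]
  exact Subgroup.commutator_mono hKN le_rfl

theorem trans (hP : Y.map π ≤ ⁅Y.map π, Y.map π⁆) {K₁ K₂ : Subgroup (G ⧸ pCore p G)}
    (hK₁ : K₁ ∈ compsIn (Y.map π)) (hK₂ : K₂ ∈ compsIn (Y.map π)) :
    ∃ s ∈ (S : Subgroup G), K₂ = K₁.map (MulAut.conj (π s)).toMonoidHom := by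
  by_contra hcon
  push Not at hcon
  have hYn := h.Ybn
  have key : ∀ K K' : Subgroup (G ⧸ pCore p G), K ∈ compsIn (Y.map π) → K' ∈ compsIn (Y.map π) →
      (∀ s ∈ (S : Subgroup G), K ≠ K'.map (MulAut.conj (π s)).toMonoidHom) →
      ⁅K, ((pResidual p ↥P).map P.subtype).map π⁆ = ⊥ := by
    intro K K' hK hK' hne
    have h1 := h.Ob_le_orbit hP hK'
    rw [eq_bot_iff]
    refine (Subgroup.commutator_mono le_rfl h1).trans ?_
    rw [← eq_bot_iff]
    refine H10.commutator_sSup_eq_bot ?_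
    rintro _ ⟨s, hs, rfl⟩
    exact H10.comp_commutes hK.1 (comp_conj hK'.1 _) (hne s hs)
  have hall : ∀ K ∈ compsIn (Y.map π), ⁅K, ((pResidual p ↥P).map P.subtype).map π⁆ = ⊥ := by
    intro K hK
    by_cases hex : ∃ s ∈ (S : Subgroup G), K = K₁.map (MulAut.conj (π s)).toMonoidHom
    · refine key K K₂ hK hK₂ ?_
      intro s' hs' he
      obtain ⟨s, hs, he2⟩ := hex
      apply hcon (s'⁻¹ * s) (mul_mem (inv_mem hs') hs)
      have e1 : K₂ = (K.map (MulAut.conj (π s'⁻¹)).toMonoidHom) := by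
        rw [he, Subgroup.map_map]
        have : (MulAut.conj (π s'⁻¹)).toMonoidHom.comp (MulAut.conj (π s')).toMonoidHom =
            MonoidHom.id _ := by
          ext x
          simp
        rw [this, Subgroup.map_id]
      rw [e1, he2, Subgroup.map_map, map_mul, map_mul]
      rfl
    · push Not at hex
      exact key K K₁ hK hK₁ hex
  have h1 : Y.map π ≤ Subgroup.centralizer ((((pResidual p ↥P).map P.subtype).map π : Subgroup (G ⧸ pCore p G)) :
      Set (G ⧸ pCore p G)) := by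
    refine (h.Yb_le_comps hP).trans (sSup_le fun K hK => ?_)
    rw [← Subgroup.commutator_eq_bot_iff_le_centralizer]
    exact hall K hK
  rw [← Subgroup.commutator_eq_bot_iff_le_centralizer, Subgroup.commutator_comm,
    Subgroup.commutator_eq_bot_iff_le_centralizer] at h1
  have h2 := h.Yb_le (N := Subgroup.centralizer ((Y.map π : Subgroup (G ⧸ pCore p G)) : Set (G ⧸ pCore p G)))
    inferInstance h1
  rw [← Subgroup.commutator_eq_bot_iff_le_centralizer] at h2
  rw [h2, le_bot_iff] at hP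
  exact h.Yb_ne hP

set_option maxHeartbeats 1000000 in
theorem p_dvd (hP : Y.map π ≤ ⁅Y.map π, Y.map π⁆) : p ∣ Nat.card (Y.map π) := by
  classical
  by_contra hnd
  have hYn := h.Ybn
  set Yb := Y.map π with hYb
  set A := (S : Subgroup G).map π with hA
  set Qb := (pCoreOf p L).map π with hQb
  set Ob := ((pResidual p ↥P).map P.subtype).map π with hOb
  have hQA : Qb ≤ A := Subgroup.map_mono h.QS
  have hAp : IsPGroup p A := S.isPGroup'.map _
  have hcop : (Nat.card A).Coprime (Nat.card Yb) := by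
    obtain ⟨k, hk⟩ := hAp.exists_card_eq
    rw [hk]
    exact Nat.Coprime.pow_left _ ((Nat.Prime.coprime_iff_not_dvd hp.out).2 hnd)
  have hAY : A ≤ Subgroup.normalizer (Yb : Set (G ⧸ pCore p G)) := H18.le_normalizer_of_normal
  have hAs : Group.IsSolvable A := H23.isSolvable_of_isPGroup hAp
  have hbot : ∀ Q : Subgroup (G ⧸ pCore p G), Q ≤ Yb → pCoreOf p Q = ⊥ := by
    intro Q hQ
    have h1 : IsPGroup p (pCoreOf p Q) := H18.isPGroup_pCoreOf Q
    obtain ⟨k, hk⟩ := h1.exists_card_eq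
    have h2 : Nat.card (pCoreOf p Q) ∣ Nat.card Yb := Subgroup.card_dvd_of_le ((H18.pCoreOf_le Q).trans hQ)
    rcases Nat.eq_zero_or_pos k with rfl | hk0
    · rw [pow_zero] at hk
      exact Subgroup.card_eq_one.1 hk
    · exfalso
      apply hnd
      rw [hk] at h2
      exact (dvd_pow_self p hk0.ne').trans h2
  have hinv : ∀ (r : ℕ) [Fact r.Prime], ∃ Q, H23.IsSylowOf r Q Yb ∧
      A ≤ Subgroup.normalizer (Q : Set (G ⧸ pCore p G)) := fun r _ =>
    H23.exists_invariant_sylow hAY hcop (Or.inl hAs) r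
  obtain ⟨r₀, hr₀, hr⟩ : ∃ r₀ : ℕ, r₀.Prime ∧ ∀ (r : ℕ) [Fact r.Prime], r ≠ r₀ → ∀ Q, H23.IsSylowOf r Q Yb →
      A ≤ Subgroup.normalizer (Q : Set (G ⧸ pCore p G)) → ⁅Q, Qb⁆ = ⊥ := by
    by_cases hex : ∃ (r₀ : ℕ), r₀.Prime ∧ ∃ Q₀, H23.IsSylowOf r₀ Q₀ Yb ∧ Ob ≤ Q₀
    · obtain ⟨r₀, hr₀, Q₀, hQ₀, hO⟩ := hex
      refine ⟨r₀, hr₀, fun r hrf hne Q hQ hAQ => ?_⟩
      have : Fact r₀.Prime := ⟨hr₀⟩
      refine h.bar_comm hAQ ?_ (hbot Q hQ.le)
      intro hc
      apply h.Ob_ne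
      have h1 := IsPGroup.disjoint_of_ne r₀ r (Ne.symm hne) Q₀ Q hQ₀.isPGroup hQ.isPGroup
      exact le_bot_iff.1 (h1 hO hc)
    · push Not at hex
      refine ⟨2, Nat.prime_two, fun r hrf hne Q hQ hAQ => ?_⟩
      exact h.bar_comm hAQ (hex r hrf.out Q hQ) (hbot Q hQ.le)
  have hr₀f : Fact r₀.Prime := ⟨hr₀⟩
  obtain ⟨R₀, hR₀, hAR₀⟩ := hinv r₀
  set C : Subgroup (G ⧸ pCore p G) := Yb ⊓ Subgroup.centralizer (Qb : Set (G ⧸ pCore p G)) with hC
  have hind : (R₀.subgroupOf Yb).index.Coprime (C.subgroupOf Yb).index := by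
    rw [Nat.coprime_iff_gcd_eq_one]
    by_contra hne
    obtain ⟨q, hq, hdvd⟩ := Nat.exists_prime_and_dvd hne
    have hqf : Fact q.Prime := ⟨hq⟩
    have h1 := hdvd.trans (Nat.gcd_dvd_left _ _)
    have h2 := hdvd.trans (Nat.gcd_dvd_right _ _)
    by_cases hqr : q = r₀
    · subst hqr
      obtain ⟨Sy, hSy⟩ := hR₀
      rw [← hSy, Subgroup.subgroupOf, Subgroup.comap_map_eq_self_of_injective (Subgroup.subtype_injective _)] at h1
      exact Sy.not_dvd_index h1
    · obtain ⟨Q, hQ, hAQ⟩ := hinv q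
      have h3 := hr q hqr Q hQ hAQ
      rw [Subgroup.commutator_eq_bot_iff_le_centralizer] at h3
      have h4 : Q ≤ C := le_inf hQ.le h3
      obtain ⟨Sy, hSy⟩ := hQ
      have h5 : (Sy : Subgroup Yb) ≤ C.subgroupOf Yb := by
        rw [← Subgroup.comap_map_eq_self_of_injective (Subgroup.subtype_injective Yb) (Sy : Subgroup Yb), hSy]
        exact Subgroup.comap_mono h4
      exact Sy.not_dvd_index (h2.trans (Subgroup.index_dvd_of_le h5))
  have hfac := H1.factor_of_coprime_index hind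
  have hT : ⁅Yb, Qb⁆ ≤ R₀ := by
    rw [Subgroup.commutator_le]
    intro y hy q hq
    obtain ⟨x, hx, c, hc, hyx⟩ := hfac ⟨y, hy⟩
    have hy2 : y = (x : G ⧸ pCore p G) * (c : G ⧸ pCore p G) := congrArg Subtype.val hyx
    have hcq : (c : G ⧸ pCore p G) * q = q * c :=
      (Subgroup.mem_centralizer_iff.1 (Subgroup.mem_inf.1 hc).2 q hq).symm
    have hx' : (x : G ⧸ pCore p G) ∈ R₀ := hx
    have e : ⁅y, q⁆ = (x : G ⧸ pCore p G) * (q * (x : G ⧸ pCore p G)⁻¹ * q⁻¹) := by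
      rw [commutatorElement_def, hy2]
      calc (x : G ⧸ pCore p G) * c * q * ((x : G ⧸ pCore p G) * c)⁻¹ * q⁻¹
          = x * (c * q) * (c : G ⧸ pCore p G)⁻¹ * (x : G ⧸ pCore p G)⁻¹ * q⁻¹ := by group
        _ = x * (q * c) * (c : G ⧸ pCore p G)⁻¹ * (x : G ⧸ pCore p G)⁻¹ * q⁻¹ := by rw [hcq]
        _ = _ := by group
    rw [e]
    exact mul_mem hx' (H18.conj_mem_of_mem_normalizer (hAR₀ (hQA hq)) (inv_mem hx'))
  have hTs : Group.IsSolvable (⁅Yb, Qb⁆ : Subgroup (G ⧸ pCore p G)) :=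
    H23.isSolvable_of_isPGroup (hR₀.isPGroup.to_le hT)
  have hYT : Yb ≤ Subgroup.normalizer ((⁅Yb, Qb⁆ : Subgroup (G ⧸ pCore p G)) : Set (G ⧸ pCore p G)) := by
    have := H1.left_le_normalizer_commutator Yb Qb
    exact this
  have h1 : ⁅(⁅Yb, Qb⁆ : Subgroup (G ⧸ pCore p G)), Yb⁆ = ⊥ := by
    rw [eq_bot_iff]
    refine (Subgroup.commutator_mono le_rfl (h.Yb_le_comps hP)).trans ?_
    rw [← eq_bot_iff]
    refine H10.commutator_sSup_eq_bot fun K hK => ?_
    exact H10.comp_commutes_solvable hK.1 hTs (hK.2.trans hYT)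
  rw [Subgroup.commutator_comm Yb Qb] at h1
  apply h.not_comm
  rw [Subgroup.commutator_comm]
  exact H10.commutator_eq_bot_of_perfect (le_antisymm (Subgroup.commutator_le_self _) hP) h1

end IsoMin

end Cfsg.Agent.H19
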