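import Cfsg.Agent.H2.NPCFun2
import Cfsg.Agent.H2.StabOdd
import Cfsg.Agent.H2.StabSec
import Cfsg.Agent.H2.StabNormal
import Cfsg.Agent.H2.Residual
import Cfsg.Agent.L.KCtl2
import Cfsg.Agent.L.KChar
import Cfsg.Agent.L.Reduce

/-!
# `K`-infinity subgroups and normal `p`-complements
-/

set_option autoImplicit false
set_option linter.all false

universe u

namespace Cfsg.Agent.H19

open Cfsg L Subgroup
open scoped commutatorElement

variable {p : ℕ} [hp : Fact p.Prime]

/-- a group with a normal subgroup `K` such that `p'`-elements centralize `K` and `C_P(K) ≤ K` is `p`-nilpotent -/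
theorem npc_of_cent {G : Type u} [Group G] [Finite G] (P : Sylow p G) (K : Subgroup G)
    (hPK : (P : Subgroup G) ⊓ centralizer (K : Set G) ≤ K)
    (h : ∀ g : G, (orderOf g).Coprime p → g ∈ centralizer (K : Set G)) : HasNormalPComplement p G := by
  rw [H2.hasNormalPComplement_iff_pResidual]
  obtain ⟨M, hM⟩ : ∃ M, M = pResidual p G := ⟨_, rfl⟩
  have hMn : M.Normal := hM ▸ H2.pResidual_normal
  have hMC : M ≤ centralizer (K : Set G) := by
    rw [hM]
    unfold pResidual
    rw [closure_le]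
    exact fun x hx => h x hx
  rw [← hM]
  have hT : SylIn p ((P : Subgroup G) ⊓ M) M := (sylIn_top P).inf_normal hMn le_top
  have hc : ∀ t ∈ (P : Subgroup G) ⊓ M, ∀ m ∈ M, t * m = m * t := by
    intro t ht m hm
    have h1 : t ∈ K := hPK ⟨ht.1, hMC ht.2⟩
    exact mem_centralizer_iff.1 (hMC hm) t h1
  have hnpc : HasNormalPComplement p M := by
    have hle : normalizer ((hT.toSylow : Subgroup M) : Set M) ≤ centralizer ((hT.toSylow : Subgroup M) : Set M) := by
      intro x _
      rw [mem_centralizer_iff]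
      intro y hy
      apply Subtype.ext
      exact hc y hy x x.2
    exact ⟨hT.toSylow, (MonoidHom.transferSylow hT.toSylow hle).ker, inferInstance,
      MonoidHom.ker_transferSylow_isComplement' hT.toSylow hle⟩
  rw [H2.hasNormalPComplement_iff_pResidual] at hnpc
  subst hM
  rwa [H2.pResidual_pResidual, Subgroup.card_top] at hnpc

theorem nps_of_sylow_two_comm {G : Type u} [Group G] [Finite G] (hp2 : p ≠ 2)
    (hT : ∀ T : Sylow 2 G, IsMulCommutative T) : IsNormalizerPStable p G := by
  intro P hP g hg h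
  have h1 := H2.mk_mem_pCore_normalizer hp2 (P := P)
    (H2.not_SLConcl_of_ab (H2.sylow_two_comm_subgroup hT _)) hP (A := zpowers g)
    (by rwa [zpowers_le]) h
  apply h1
  exact ⟨⟨g, hg⟩, mem_zpowers g, rfl⟩

theorem kInfLower_npc (hp2 : p ≠ 2) : H2.NPCFun.{u} p kInfLower := by
  refine ⟨fun e => iso_kInfLower e, kInfLower_isCharP.1, ?_⟩
  intro G _ _ _ hT hc S
  refine (kInf_normal_of_stable hc ?_ (sylIn_top S)).1
  intro N _
  apply nps_of_sylow_two_comm hp2
  haveI : Fact (Nat.Prime 2) := ⟨Nat.prime_two⟩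
  obtain ⟨T⟩ : Nonempty (Sylow 2 G) := inferInstance
  obtain ⟨T', hT'⟩ := H2.sylow_comm_of_surjective (QuotientGroup.mk'_surjective N) (hT T)
  intro T''
  obtain ⟨g, hg⟩ := MulAction.exists_smul_eq (G ⧸ N) T' T''
  rw [H20.isMulCommutative_iff] at hT' ⊢
  intro x hx y hy
  rw [← hg] at hx hy
  rw [Sylow.smul_def, Sylow.pointwise_smul_def] at hx hy
  obtain ⟨a, ha, rfl⟩ := hx
  obtain ⟨b, hb, rfl⟩ := hy
  change MulAut.conj g a * MulAut.conj g b = MulAut.conj g b * MulAut.conj g a
  rw [← map_mul, ← map_mul, hT' a ha b hb]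

/-- the normal `p`-complement criterion -/
theorem kInf_npc_iff (hp2 : p ≠ 2) {G : Type u} [Group G] [Finite G] (P : Sylow p G) :
    HasNormalPComplement p G ↔
      ∀ g ∈ nz (inducedFunctor kInfLower (P : Subgroup G)), (orderOf g).Coprime p →
        g ∈ centralizer (inducedFunctor kInfLower (P : Subgroup G) : Set G) := by
  obtain ⟨K, hK⟩ : ∃ K, K = inducedFunctor kInfLower (P : Subgroup G) := ⟨_, rfl⟩
  rw [← hK]
  have hKP : K ≤ P := by rw [hK]; exact map_subtype_le _
  constructor
  · intro h g hg hgo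
    obtain ⟨N, hNn, hNc, k, hk⟩ := H2.hasNormalPComplement_iff.1 h
    have hgN : g ∈ N := H2.mem_of_coprime_of_isPGroup_quotient (H2.isPGroup_quotient_iff_index.2 ⟨k, hk⟩) hgo
    rw [mem_centralizer_iff]
    intro x hx
    have h1 : ⁅x, g⁆ ∈ N := by
      rw [commutatorElement_def]
      exact N.mul_mem (hNn.conj_mem g hgN x) (N.inv_mem hgN)
    have h2 : ⁅x, g⁆ ∈ K := by
      rw [commutatorElement_def, mul_assoc, mul_assoc, ← mul_assoc g]
      exact K.mul_mem hx ((mem_normalizer_iff.1 hg _).1 (K.inv_mem hx))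
    have h3 : N ⊓ (P : Subgroup G) = ⊥ := by
      apply Subgroup.inf_eq_bot_of_coprime
      obtain ⟨n, hn⟩ := IsPGroup.iff_card.1 P.2
      rw [hn]
      exact ((Nat.Prime.coprime_iff_not_dvd hp.out).2 hNc).symm.pow_right n
    have h4 : ⁅x, g⁆ ∈ N ⊓ (P : Subgroup G) := ⟨h1, hKP h2⟩
    rw [h3, mem_bot, commutatorElement_eq_one_iff_mul_comm] at h4
    exact h4
  · intro h
    refine H2.npc_functor hp2 (kInfLower_npc hp2) G P ?_
    change HasNormalPComplement p ↥(nz (inducedFunctor kInfLower (P : Subgroup G)))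
    rw [← hK]
    have hPn : (P : Subgroup G) ≤ nz K := by
      rw [hK]
      exact le_normalizer.trans ((kInfLower_npc hp2).normalizer_le (P : Subgroup G))
    obtain ⟨R, hR⟩ : ∃ R : Sylow p (nz K), (R : Subgroup (nz K)) = (P : Subgroup G).subgroupOf (nz K) :=
      ⟨P.subtype hPn, P.coe_subtype hPn⟩
    refine npc_of_cent R (K.subgroupOf (nz K)) ?_ ?_
    · rintro ⟨x, hxn⟩ hx12
      obtain ⟨hx1, hx2⟩ := Subgroup.mem_inf.1 hx12
      rw [hR, mem_subgroupOf] at hx1
      have hx1' : x ∈ (P : Subgroup G) := hx1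
      have h1 : ∀ y ∈ K, y * x = x * y := by
        intro y hy
        have := mem_centralizer_iff.1 hx2 ⟨y, le_normalizer hy⟩ hy
        exact congrArg Subtype.val this
      have h2 : (⟨x, hx1'⟩ : (P : Subgroup G)) ∈ centralizer (kInfLower (P : Subgroup G) : Set (P : Subgroup G)) := by
        rw [mem_centralizer_iff]
        intro y hy
        apply Subtype.ext
        apply h1
        rw [hK]
        exact ⟨y, hy, rfl⟩
      have h3 := (cent_kInf P.2).1 h2
      rw [mem_subgroupOf]
      exact hK.ge ⟨_, h3, rfl⟩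
    · rintro ⟨g, hg⟩ hgo
      have h1 : (orderOf g).Coprime p := by
        rwa [Subgroup.orderOf_mk] at hgo
      have h2 := h g hg h1
      rw [mem_centralizer_iff]
      rintro ⟨y, hy⟩ hyK
      apply Subtype.ext
      exact mem_centralizer_iff.1 h2 y hyK

end Cfsg.Agent.H19
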