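import Mathlib

set_option autoImplicit false
set_option linter.style.haveILetI false

/-! P(G,V)-theorem, part 1: coprime action and p-group action basics for a group acting on an
abelian group of exponent `p`. -/

namespace Cfsg.Agent.H19.PGV

variable {H W : Type*} [Group H] [AddCommGroup W] [DistribMulAction H W]

/-- fixed points of an element -/
def fixE (W : Type*) [AddCommGroup W] [DistribMulAction H W] (g : H) : AddSubgroup W where
  carrier := {w | g • w = w}
  add_mem' := by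
    intro a b ha hb
    simp only [Set.mem_ofPred_eq] at *
    rw [smul_add, ha, hb]
  zero_mem' := smul_zero g
  neg_mem' := by
    intro a ha
    simp only [Set.mem_ofPred_eq] at *
    rw [smul_neg, ha]

theorem mem_fixE {g : H} {w : W} : w ∈ fixE W g ↔ g • w = w := Iff.rfl

/-- fixed points of a subgroup -/
def fixS (W : Type*) [AddCommGroup W] [DistribMulAction H W] (B : Subgroup H) : AddSubgroup W where
  carrier := {w | ∀ b ∈ B, b • w = w}
  add_mem' := by
    intro a b ha hb g hg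
    rw [smul_add, ha g hg, hb g hg]
  zero_mem' := fun g _ => smul_zero g
  neg_mem' := by
    intro a ha g hg
    rw [smul_neg, ha g hg]

theorem mem_fixS {B : Subgroup H} {w : W} : w ∈ fixS W B ↔ ∀ b ∈ B, b • w = w := Iff.rfl

/-- the operator `g - 1` -/
def dl (W : Type*) [AddCommGroup W] [DistribMulAction H W] (g : H) : W →+ W where
  toFun w := g • w - w
  map_zero' := by rw [smul_zero, sub_zero]
  map_add' a b := by rw [smul_add]; abel

@[simp] theorem dl_apply (g : H) (w : W) : dl W g w = g • w - w := rfl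

theorem smul_inv_of_fix {g : H} {w : W} (h : g • w = w) : g⁻¹ • w = w := by
  rw [inv_smul_eq_iff, h]

theorem cop_zero {A : Type*} [AddCommGroup A] {p m : ℕ} (h : m.Coprime p) {w : A} (hp : p • w = 0) (hm : m • w = 0) : w = 0 := by
  have h1 := addOrderOf_dvd_of_nsmul_eq_zero hp
  have h2 := addOrderOf_dvd_of_nsmul_eq_zero hm
  have h3 : addOrderOf w ∣ 1 := by
    rw [← h]
    exact Nat.dvd_gcd h2 h1
  have h4 : addOrderOf w = 1 := Nat.dvd_one.mp h3
  exact AddMonoid.addOrderOf_eq_one_iff.mp h4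

/-- coprime action: no new fixed vectors -/
theorem F1 {p : ℕ} (hpW : ∀ w : W, p • w = 0) {g : H} {m : ℕ} (hm : m.Coprime p) (hg : g ^ m = 1) {v : W}
    (h : g • (g • v - v) = g • v - v) : g • v = v := by
  have hi : ∀ i : ℕ, g ^ i • v = v + i • (g • v - v) := by
    intro i
    induction i with
    | zero => simp
    | succ i ih =>
      rw [pow_succ', mul_smul, ih, smul_add, succ_nsmul]
      have : g • (i • (g • v - v)) = i • (g • v - v) := by
        rw [smul_comm g i, h]
      rw [this]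
      abel
  have h1 := hi m
  rw [hg, one_smul] at h1
  have h2 : m • (g • v - v) = 0 := by
    have := h1.symm
    simpa using this
  have h3 := cop_zero hm (hpW _) h2
  exact sub_eq_zero.mp h3

/-- coprime action: decomposition -/
theorem F2 {p : ℕ} (hpW : ∀ w : W, p • w = 0) {g : H} {m : ℕ} (hm : m.Coprime p) (hg : g ^ m = 1)
    {U : AddSubgroup W} [Finite U] (hU : ∀ u ∈ U, g • u ∈ U) {u : W} (hu : u ∈ U) :
    ∃ u₀ ∈ U, g • u₀ = u₀ ∧ ∃ u₁ ∈ U, u = u₀ + (g • u₁ - u₁) := by
  classical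
  let R : AddSubgroup W := U.map (dl W g)
  have hRU : R ≤ U := by
    rintro _ ⟨w, hw, rfl⟩
    exact U.sub_mem (hU w hw) hw
  haveI : Finite R := Finite.of_injective (fun r : R => (⟨r.1, hRU r.2⟩ : U)) (by
    intro a b hab
    have := congrArg Subtype.val hab
    exact Subtype.ext this)
  have hmap : ∀ r ∈ R, dl W g r ∈ R := fun r hr => ⟨r, hRU hr, rfl⟩
  let f : R → R := fun r => ⟨dl W g r.1, hmap r.1 r.2⟩
  have hinj : Function.Injective f := by
    rintro ⟨r, hr⟩ ⟨s, hs⟩ hrs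
    have h1 : dl W g r = dl W g s := congrArg Subtype.val hrs
    have h2 : g • (r - s) = r - s := by
      rw [dl_apply, dl_apply] at h1
      rw [smul_sub]
      have : g • r - g • s = (g • r - r) - (g • s - s) + (r - s) := by abel
      rw [this, h1]
      abel
    have h3 : r - s ∈ R := R.sub_mem hr hs
    obtain ⟨w, hw, hw'⟩ := h3
    rw [dl_apply] at hw'
    have h4 : g • w = w := F1 hpW hm hg (by rw [hw']; exact h2)
    have h5 : r - s = 0 := by rw [← hw', h4, sub_self]
    exact Subtype.ext (sub_eq_zero.mp h5)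
  have hsurj := Finite.surjective_of_injective hinj
  obtain ⟨⟨r, hr⟩, hr'⟩ := hsurj ⟨dl W g u, ⟨u, hu, rfl⟩⟩
  have h6 : dl W g r = dl W g u := congrArg Subtype.val hr'
  obtain ⟨u₁, hu₁, hu₁'⟩ := hr
  refine ⟨u - r, U.sub_mem hu (hRU ⟨u₁, hu₁, hu₁'⟩), ?_, u₁, hu₁, ?_⟩
  · rw [dl_apply, dl_apply] at h6
    rw [smul_sub]
    have : g • u - g • r = (g • u - u) - (g • r - r) + (u - r) := by abel
    rw [this, h6]
    abel
  · rw [dl_apply] at hu₁'
    rw [hu₁']
    abel

/-- order of the image times order of the fixed points -/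
theorem card_dl (g : H) (U : AddSubgroup W) :
    Nat.card (U.map (dl W g)) * Nat.card ↥(U ⊓ fixE W g) = Nat.card U := by
  have h1 : U.map (dl W g) = ((dl W g).comp U.subtype).range := by
    rw [AddMonoidHom.range_comp, AddSubgroup.range_subtype]
  have h2 : Nat.card ↥(U ⊓ fixE W g) = Nat.card ((dl W g).comp U.subtype).ker := by
    refine Nat.card_congr ⟨fun x => ⟨⟨x.1, x.2.1⟩, ?_⟩, fun x => ⟨x.1.1, x.1.2, ?_⟩, ?_, ?_⟩
    · rw [AddMonoidHom.mem_ker]
      have : g • x.1 = x.1 := x.2.2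
      simp [this]
    · have := x.2
      rw [AddMonoidHom.mem_ker] at this
      have h3 : g • (x.1.1 : W) - x.1.1 = 0 := this
      exact sub_eq_zero.mp h3
    · intro x; rfl
    · intro x; rfl
  rw [h1, h2, ← Nat.card_congr (QuotientAddGroup.quotientKerEquivRange ((dl W g).comp U.subtype)).toEquiv]
  exact (AddSubgroup.card_eq_card_quotient_mul_card_addSubgroup _).symm

theorem map_dl_le {g : H} {U : AddSubgroup W} (hU : ∀ u ∈ U, g • u ∈ U) : U.map (dl W g) ≤ U := by
  rintro _ ⟨w, hw, rfl⟩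
  exact U.sub_mem (hU w hw) hw

theorem map_dl_inf_fixE {p : ℕ} (hpW : ∀ w : W, p • w = 0) {g : H} {m : ℕ} (hm : m.Coprime p) (hg : g ^ m = 1)
    {U : AddSubgroup W} : U.map (dl W g) ⊓ fixE W g = ⊥ := by
  rw [eq_bot_iff]
  rintro _ ⟨⟨w, hw, rfl⟩, h2⟩
  have h3 : g • (g • w - w) = g • w - w := h2
  rw [AddSubgroup.mem_bot, dl_apply, F1 hpW hm hg h3, sub_self]

/-- fixed point count for a `p`-group -/
theorem card_mod_fix {r : ℕ} [Fact r.Prime] {P : Subgroup H} (hP : IsPGroup r P) {U : AddSubgroup W} [Finite U]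
    (hU : ∀ g ∈ P, ∀ u ∈ U, g • u ∈ U) : Nat.card U ≡ Nat.card ↥(U ⊓ fixS W P) [MOD r] := by
  letI act : MulAction P U :=
    { smul := fun g u => ⟨g.1 • u.1, hU g.1 g.2 u.1 u.2⟩
      one_smul := fun u => Subtype.ext (one_smul H u.1)
      mul_smul := fun g h u => Subtype.ext (mul_smul g.1 h.1 u.1) }
  have h1 := hP.card_modEq_card_fixedPoints U
  have h2 : Nat.card (MulAction.fixedPoints P U) = Nat.card ↥(U ⊓ fixS W P) := by
    refine Nat.card_congr ⟨fun x => ⟨x.1.1, x.1.2, ?_⟩, fun x => ⟨⟨x.1, x.2.1⟩, ?_⟩, ?_, ?_⟩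
    · intro b hb
      have := x.2 ⟨b, hb⟩
      exact congrArg Subtype.val this
    · intro b
      exact Subtype.ext (x.2.2 b.1 b.2)
    · intro x; rfl
    · intro x; rfl
  rw [← h2]
  exact h1

/-- an additive group of exponent `p` is a `p`-group -/
theorem card_pow {p : ℕ} [Fact p.Prime] (hpW : ∀ w : W, p • w = 0) (U : AddSubgroup W) [Finite U] :
    ∃ k, Nat.card U = p ^ k := by
  have h : IsPGroup p (Multiplicative U) := by
    intro g
    refine ⟨1, ?_⟩
    rw [pow_one]
    have : p • (Multiplicative.toAdd g) = 0 := Subtype.ext (hpW _)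
    exact this
  obtain ⟨k, hk⟩ := IsPGroup.iff_card.mp h
  exact ⟨k, hk⟩

/-- a `p`-group acting on a nonzero group of exponent `p` has a nonzero fixed vector -/
theorem exists_fix {p : ℕ} [Fact p.Prime] (hpW : ∀ w : W, p • w = 0) {P : Subgroup H} (hP : IsPGroup p P) {U : AddSubgroup W}
    [Finite U] (hU : ∀ g ∈ P, ∀ u ∈ U, g • u ∈ U) (hne : U ≠ ⊥) : ∃ u ∈ U, u ≠ 0 ∧ ∀ g ∈ P, g • u = u := by
  have h1 := card_mod_fix hP hU
  obtain ⟨k, hk⟩ := card_pow hpW U
  have hk0 : k ≠ 0 := by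
    rintro rfl
    rw [pow_zero] at hk
    exact hne (AddSubgroup.card_eq_one.mp hk)
  have h2 : Nat.card ↥(U ⊓ fixS W P) ≡ 0 [MOD p] := by
    refine h1.symm.trans ?_
    rw [hk]
    exact (Nat.modEq_zero_iff_dvd.mpr (dvd_pow_self p hk0))
  have h3 : p ∣ Nat.card ↥(U ⊓ fixS W P) := (Nat.modEq_zero_iff_dvd.mp h2)
  have h4 : U ⊓ fixS W P ≠ ⊥ := by
    intro h
    rw [h, AddSubgroup.card_bot] at h3
    exact (Fact.out : p.Prime).one_lt.ne' (Nat.dvd_one.mp h3)
  obtain ⟨u, hu0⟩ := (AddSubgroup.ne_bot_iff_exists_ne_zero).mp h4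
  exact ⟨u.1, u.2.1, fun h => hu0 (Subtype.ext h), u.2.2⟩

@[to_additive card_relIndex_add]
theorem card_relIndex {A : Type*} [Group A] {X Y : Subgroup A} (h : X ≤ Y) :
    Nat.card X * X.relIndex Y = Nat.card Y := by
  rw [← Subgroup.relIndex_bot_left, ← Subgroup.relIndex_bot_left]
  exact Subgroup.relIndex_mul_relIndex ⊥ X Y bot_le h

@[to_additive card_mul_le_sup_add]
theorem card_mul_le_sup {A : Type*} [Group A] [Finite A] (X Y : Subgroup A) :
    Nat.card X * Nat.card Y ≤ Nat.card ↥(X ⊔ Y) * Nat.card ↥(X ⊓ Y) := by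
  have h1 : Nat.card ↥(X ⊓ Y) * X.relIndex Y = Nat.card Y := by
    have := card_relIndex (inf_le_right : X ⊓ Y ≤ Y)
    rw [Subgroup.inf_relIndex_right] at this
    exact this
  have h2 : Nat.card X * X.relIndex (X ⊔ Y) = Nat.card ↥(X ⊔ Y) := card_relIndex le_sup_left
  have h0 : X.relIndex (X ⊔ Y) ≠ 0 := by
    intro h
    rw [h, mul_zero] at h2
    exact Nat.card_pos.ne h2
  have h3 : X.relIndex Y ≤ X.relIndex (X ⊔ Y) :=
    Subgroup.relIndex_le_of_le_right le_sup_right h0
  rw [← h1, ← h2]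
  calc Nat.card X * (Nat.card ↥(X ⊓ Y) * X.relIndex Y) = Nat.card X * X.relIndex Y * Nat.card ↥(X ⊓ Y) := by ring
    _ ≤ Nat.card X * X.relIndex (X ⊔ Y) * Nat.card ↥(X ⊓ Y) :=
      Nat.mul_le_mul_right _ (Nat.mul_le_mul_left _ h3)

end Cfsg.Agent.H19.PGV
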