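import Cfsg.Agent.H19.PGV9

set_option autoImplicit false
set_option linter.style.haveILetI false
set_option linter.unusedVariables false

/-! P(G,V)-theorem, part 10: the final contradiction in the case of two conjugate components. -/

namespace Cfsg.Agent.H19.PGV

open Cfsg Cfsg.Agent.H10

variable {H W : Type*} [Group H] [AddCommGroup W] [DistribMulAction H W]

namespace CaseA

variable {A K : Subgroup H} {a₀ n y₀ : H}

section
variable [Finite W] [Finite H] (hh : CaseA W A K a₀ n y₀)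
include hh

/-- small `|X|` -/
theorem small (hsm : Nat.card ↥(rg W y₀ ⊓ fixS W A) ≤ 4) : False := by
  classical
  have hq := hh.C_eq.2
  set q := Nat.card ↥(rg W y₀ ⊓ fixS W A) with hqq
  obtain ⟨i, hi⟩ := (haveI : Fact (Nat.Prime 2) := ⟨Nat.prime_two⟩; card_pow hh.h2 (rg W y₀ ⊓ fixS W A))
  rw [← hqq] at hi
  have hXne := hh.X_ne
  have hq1 : q ≠ 1 := by
    intro h
    rw [h] at hq
    exact hXne (AddSubgroup.card_eq_one.mp hq.symm)
  have hq24 : q = 2 ∨ q = 4 := by
    rcases i with _ | _ | _ | i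
    · rw [pow_zero] at hi; exact absurd hi hq1
    · left; rw [hi]; rfl
    · right; rw [hi]; rfl
    · exfalso
      have : 2 ^ (i + 3) = 8 * 2 ^ i := by ring
      have h3 : 1 ≤ 2 ^ i := Nat.one_le_two_pow
      rw [hi, show i + 1 + 1 + 1 = i + 3 from rfl, this] at hsm
      omega
  obtain ⟨r, hr, hr2, hr3, y, hyK, ⟨k, hk⟩, y', hy', hyy⟩ := exists_relt hh.hK Nat.prime_two Nat.prime_three
  haveI : Fact r.Prime := ⟨hr⟩
  have hr5 : 5 ≤ r := by
    have := hr.two_le
    by_contra h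
    push Not at h
    interval_cases r
    · exact hr2 rfl
    · exact hr3 rfl
    · exact absurd hr (by norm_num)
  have hcop : Nat.Coprime (r ^ k) 2 := Nat.Coprime.pow_left _ ((Nat.coprime_primes hr Nat.prime_two).mpr hr2)
  have hy : NO K y := ⟨hyK, ⟨r ^ k, Nat.coprime_two_right.mp hcop, hk⟩, y', hy', hyy⟩
  have hKa := comp_cj hh.hK a₀
  have hcy : Commute y (a₀ * y * a₀⁻¹) := cj_comm hh.hK hKa hh.hne.symm y hyK _ (cj_mem a₀ hyK)
  set e := y * (a₀ * y * a₀⁻¹) with he
  set X := rg W y₀ with hX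
  have hcye : Commute y e := (Commute.refl y).mul_right hcy
  have hXy : ∀ x ∈ X, y • x ∈ X := fun x hx => hh.X_K hyK hx
  have hXe : ∀ x ∈ X, e • x ∈ X := by
    intro x hx
    rw [he, mul_smul]
    exact hh.X_K hyK (hh.X_Ka hh.ha₀ hh.hne (cj_mem a₀ hyK) hx)
  have hA1 : ∀ w : W, a₀ • (e • w - w) = e • w - w :=
    swap_fix (ca_comm hh.hK (hh.hAp a₀ hh.ha₀) hh.hne y hyK).symm (hh.hA0 a₀ hh.ha₀ hh.hne y hyK)
  have m1 := card_dl e X
  have hplus : Nat.card (X.map (dl W e)) ≡ 1 [MOD r] := by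
    refine card_mod_one (g := y) hk ?_ ?_
    · rintro _ ⟨x, hx, rfl⟩
      refine ⟨y • x, hXy x hx, ?_⟩
      rw [dl_apply, dl_apply, smul_sub, ← mul_smul, ← mul_smul, hcye.eq]
    · rw [eq_bot_iff, ← hh.X_fix hy]
      exact fun u hu => ⟨map_dl_le hXe hu.1, hu.2⟩
  have hminus : Nat.card ↥(X ⊓ fixE W e) ≡ 1 [MOD r] := by
    refine card_mod_one (g := y) hk ?_ ?_
    · rintro u ⟨hu1, hu2⟩
      have hu2' : e • u = u := hu2
      refine ⟨hXy u hu1, ?_⟩
      show e • y • u = y • u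
      rw [← mul_smul, ← hcye.eq, mul_smul, hu2']
    · rw [eq_bot_iff, ← hh.X_fix hy]
      exact fun u hu => ⟨hu.1.1, hu.2⟩
  set u := Nat.card (X.map (dl W e)) with hu
  set t := Nat.card ↥(X ⊓ fixE W e) with ht
  have hut : u * t = 4 ∨ u * t = 16 := by
    rw [m1, ← hq]
    rcases hq24 with h | h <;> rw [h] <;> simp
  have hor : u = 1 ∨ t = 1 := by
    have hnot : ∀ v : ℕ, v ≡ 1 [MOD r] → v ≠ 2 ∧ v ≠ 4 := by
      intro v hv
      have hv' : v % r = 1 % r := hv
      constructor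
      · rintro rfl
        rw [Nat.mod_eq_of_lt (by omega), Nat.mod_eq_of_lt (by omega)] at hv'
        omega
      · rintro rfl
        rw [Nat.mod_eq_of_lt (by omega), Nat.mod_eq_of_lt (by omega)] at hv'
        omega
    have h1 := hnot u hplus
    have h3 := hnot t hminus
    have hu16 : u ∣ 16 := by
      rcases hut with h | h
      · exact (Dvd.intro t h).trans (by norm_num)
      · exact Dvd.intro t h
    have : u ∈ Nat.divisors 16 := Nat.mem_divisors.mpr ⟨hu16, by norm_num⟩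
    have hdiv : Nat.divisors 16 = {1, 2, 4, 8, 16} := by decide
    rw [hdiv] at this
    simp only [Finset.mem_insert, Finset.mem_singleton] at this
    rcases this with h | h | h | h | h
    · left; exact h
    · exact absurd h h1.1
    · exact absurd h h1.2
    · exfalso
      rw [h] at hut
      have : t = 2 := by omega
      exact h3.1 this
    · right
      rw [h] at hut
      omega
  -- K acts trivially on X in both cases
  have hfin : ∀ x ∈ K, ∀ v, v ∈ X → x • v = v := by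
    have hKX : ∀ x ∈ K, ∀ v, v ∈ X → x • v ∈ X := fun x hx v hv => hh.X_K hx hv
    have hcK : ∀ x ∈ K, Commute x (a₀ * y * a₀⁻¹) := fun x hx =>
      cj_comm hh.hK hKa hh.hne.symm x hx _ (cj_mem a₀ hyK)
    rcases hor with h | h
    · have hbot : X.map (dl W e) = ⊥ := AddSubgroup.card_eq_one.mp h
      have hec : ∀ x ∈ K, e * x * e⁻¹ = y * x * y⁻¹ := by
        intro x hx
        calc e * x * e⁻¹ = y * ((a₀ * y * a₀⁻¹) * x) * e⁻¹ := by rw [he]; group
          _ = y * (x * (a₀ * y * a₀⁻¹)) * e⁻¹ := by rw [(hcK x hx).eq]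
          _ = _ := by rw [he]; group
      refine NC3 hh.hK (n := e) (fun x hx => ?_) ⟨y', hy', fun h => ?_⟩ hKX ?_
      · rw [hec x hx]
        exact K.mul_mem (K.mul_mem hyK hx) (K.inv_mem hyK)
      · have h1 := hec y' hy'
        rw [h, mul_inv_cancel_right] at h1
        apply hyy
        rw [eq_mul_inv_iff_mul_eq] at h1
        exact h1.symm
      · intro v hv
        have : dl W e v ∈ X.map (dl W e) := ⟨v, hv, rfl⟩
        rw [hbot, AddSubgroup.mem_bot, dl_apply] at this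
        exact sub_eq_zero.mp this
    · have hXX : X.map (dl W e) = X := by
        apply AddSubgroup.eq_of_le_of_card_ge (map_dl_le hXe)
        rw [h, mul_one] at m1
        exact m1.ge
      have haX : ∀ v ∈ X, a₀ • v = v := by
        intro v hv
        rw [← hXX] at hv
        obtain ⟨w, _, rfl⟩ := hv
        exact hA1 w
      have hec : ∀ x ∈ K, (y⁻¹ * (a₀ * y * a₀⁻¹)) * x * (y⁻¹ * (a₀ * y * a₀⁻¹))⁻¹ = y⁻¹ * x * y := by
        intro x hx
        calc (y⁻¹ * (a₀ * y * a₀⁻¹)) * x * (y⁻¹ * (a₀ * y * a₀⁻¹))⁻¹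
            = y⁻¹ * ((a₀ * y * a₀⁻¹) * x) * (y⁻¹ * (a₀ * y * a₀⁻¹))⁻¹ := by group
          _ = y⁻¹ * (x * (a₀ * y * a₀⁻¹)) * (y⁻¹ * (a₀ * y * a₀⁻¹))⁻¹ := by rw [(hcK x hx).eq]
          _ = _ := by group
      refine NC3 hh.hK (n := y⁻¹ * (a₀ * y * a₀⁻¹)) (fun x hx => ?_) ⟨y', hy', fun h => ?_⟩ hKX ?_
      · rw [hec x hx]
        exact K.mul_mem (K.mul_mem (K.inv_mem hyK) hx) hyK
      · have h1 := hec y' hy'
        rw [h, mul_inv_cancel_right] at h1
        apply hyy
        have h3 : y * y' = y' * y := by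
          calc y * y' = y * (y⁻¹ * y' * y) := by rw [← h1]
            _ = y' * y := by group
        exact h3
      · intro v hv
        have h1 : (a₀ * y * a₀⁻¹) • v = y • v := by
          rw [mul_smul, mul_smul, smul_inv_of_fix (haX v hv), haX _ (hXy v hv)]
        rw [mul_smul, h1, inv_smul_smul]
  apply hXne
  rw [eq_bot_iff, ← hh.X_fix hh.hy₀]
  exact fun v hv => ⟨hv, hfin y₀ hh.hy₀.1 v hv⟩

/-- the elements of `A` outside the normalizer of `K` -/
theorem S_count : False := by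
  classical
  haveI := Fintype.ofFinite H
  haveI := Fintype.ofFinite W
  set N₀ : Subgroup H := A ⊓ Subgroup.centralizer (K : Set H) with hN₀
  let NA : Subgroup H := A ⊓ Subgroup.normalizer (K : Set H)
  have hNA : ∀ g, g ∈ NA ↔ g ∈ A ∧ cj g K = K := by
    intro g
    rw [cj_eq_iff_norm]
    show g ∈ A ⊓ Subgroup.normalizer (K : Set H) ↔ _
    rw [Subgroup.mem_inf, Subgroup.mem_normalizer_iff]
  have hmN₀ : ∀ g, g ∈ N₀ ↔ g ∈ A ∧ ∀ x ∈ K, g * x = x * g := by
    intro g
    rw [hN₀, Subgroup.mem_inf, Subgroup.mem_centralizer_iff]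
    constructor
    · rintro ⟨h1, h3⟩; exact ⟨h1, fun x hx => (h3 x hx).symm⟩
    · rintro ⟨h1, h3⟩; exact ⟨h1, fun x hx => (h3 x hx).symm⟩
  have hN₀NA : N₀ ≤ NA := by
    intro g hg
    rw [hmN₀] at hg
    rw [hNA, cj_eq_iff_norm]
    refine ⟨hg.1, fun x => ⟨fun hx => ?_, fun hx => ?_⟩⟩
    · rw [hg.2 x hx, mul_inv_cancel_right]; exact hx
    · have h1 := hg.2 _ hx
      have h3 : g * x * g⁻¹ = x := by
        have h4 : g * (g * x * g⁻¹) = g * x := by rw [h1]; group
        exact mul_left_cancel h4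
      rwa [h3] at hx
  let s : Finset H := Finset.univ.filter (fun g => g ∈ A ∧ cj g K ≠ K)
  have hs : ∀ g, g ∈ s ↔ g ∈ A ∧ cj g K ≠ K := fun g => by simp [s]
  let sN : Finset H := Finset.univ.filter (fun g => g ∈ NA)
  have hsN : ∀ g, g ∈ sN ↔ g ∈ NA := fun g => by simp [sN]
  have hcN : sN.card = Nat.card NA := by
    rw [Nat.card_eq_fintype_card, Fintype.card_subtype]
  have hcs : s.card = Nat.card NA := by
    rw [← hcN]
    have ha₀2 := hh.hAp a₀ hh.ha₀
    apply Finset.card_bij' (fun g _ => a₀ * g) (fun g _ => a₀⁻¹ * g)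
    · intro g hg
      rw [hs] at hg
      rw [hsN, hNA]
      exact ⟨A.mul_mem hh.ha₀ hg.1, hh.hN2 a₀ hh.ha₀ g hg.1 hh.hne hg.2⟩
    · intro g hg
      rw [hsN, hNA] at hg
      rw [hs]
      refine ⟨A.mul_mem (A.inv_mem hh.ha₀) hg.1, ?_⟩
      intro h
      apply hh.hne
      rw [← cj_cj, hg.2] at h
      conv_lhs => rw [← h]
      rw [cj_cj, mul_inv_cancel, cj_one]
    · intro g _; group
    · intro g _; group
  have hcA : Nat.card A = 2 * Nat.card NA := by
    have h1 : (Finset.univ.filter (fun g : H => g ∈ A)).card = Nat.card A := by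
      rw [Nat.card_eq_fintype_card, Fintype.card_subtype]
    have h3 : Finset.univ.filter (fun g : H => g ∈ A) = sN ∪ s := by
      ext g
      rw [Finset.mem_union, hs, hsN, hNA]
      simp only [Finset.mem_filter, Finset.mem_univ, true_and]
      tauto
    have h4 : Disjoint sN s := by
      rw [Finset.disjoint_left]
      intro g hg hg'
      rw [hsN, hNA] at hg
      rw [hs] at hg'
      exact hg'.2 hg.2
    rw [← h1, h3, Finset.card_union_of_disjoint h4, hcN, hcs]
    ring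
  set n₀ := Nat.card N₀ with hn₀
  have hn₀pos : 0 < n₀ := Nat.card_pos
  obtain ⟨M, hM⟩ : ∃ M, Nat.card NA = M * n₀ := by
    have := Subgroup.card_dvd_of_le hN₀NA
    obtain ⟨M, hM⟩ := this
    exact ⟨M, by rw [hM, mul_comm]⟩
  -- M is a power of 2
  have hM2 : ∃ k, M = 2 ^ k := by
    haveI : Fact (Nat.Prime 2) := ⟨Nat.prime_two⟩
    have hp : IsPGroup 2 NA := by
      rintro ⟨g, hg⟩
      refine ⟨1, Subtype.ext ?_⟩
      rw [hNA] at hg
      show g ^ (2 ^ 1) = 1
      rw [pow_one]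
      exact hh.hAp g hg.1
    obtain ⟨j, hj⟩ := IsPGroup.iff_card.mp hp
    have h1 : M ∣ 2 ^ j := by rw [← hj, hM]; exact dvd_mul_right _ _
    obtain ⟨k, _, hk⟩ := (Nat.dvd_prime_pow Nat.prime_two).mp h1
    exact ⟨k, hk⟩
  have hq := hh.C_eq.2
  have hqle := hh.q_le
  set X := rg W y₀ with hX
  set C := X ⊓ fixS W A with hC
  set q := Nat.card C with hqq
  have hq2M : q ≤ 2 * M := by
    have h1 : n₀ * q ≤ n₀ * (2 * M) := by
      calc n₀ * q ≤ Nat.card A := hqle
        _ = n₀ * (2 * M) := by rw [hcA, hM]; ring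
    exact Nat.le_of_mul_le_mul_left h1 hn₀pos
  by_cases hM3 : M < 3
  · exact hh.small (show q ≤ 4 by omega)
  push Not at hM3
  have hinvA : ∀ g ∈ A, g⁻¹ = g := fun g hg => by rw [inv_eq_iff_mul_eq_one, ← pow_two, hh.hAp g hg]
  -- cosets of N₀ in s
  have hcos : ∀ a : H, (s.filter (fun g => a⁻¹ * g ∈ N₀)).card ≤ n₀ := by
    intro a
    have h1 : (Finset.univ.filter (fun g : H => g ∈ N₀)).card = n₀ := by
      rw [hn₀, Nat.card_eq_fintype_card, Fintype.card_subtype]
    rw [← h1]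
    apply Finset.card_le_card_of_injOn (fun g => a⁻¹ * g)
    · intro g hg
      simp only [Finset.coe_filter, Set.mem_ofPred_eq] at hg
      simp only [Finset.coe_filter, Finset.mem_univ, true_and, Set.mem_ofPred_eq]
      exact hg.2
    · intro g _ g' _ h
      exact mul_left_cancel h
  -- c(a)² = q³
  have hcsq : ∀ a ∈ s, Nat.card ↥(X ⊓ fixE W a) * Nat.card ↥(X ⊓ fixE W a) = q * q * q := by
    intro a ha
    have hex2 : ∃ a₂ ∈ s, a⁻¹ * a₂ ∉ N₀ := by
      by_contra hcon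
      push Not at hcon
      have h1 : s.filter (fun g => a⁻¹ * g ∈ N₀) = s := Finset.filter_true_of_mem hcon
      have h3 := hcos a
      rw [h1, hcs, hM] at h3
      have : 3 * n₀ ≤ M * n₀ := Nat.mul_le_mul_right _ hM3
      omega
    obtain ⟨a₂, ha₂, hn2⟩ := hex2
    have hex3 : ∃ a₃ ∈ s, a⁻¹ * a₃ ∉ N₀ ∧ a₂⁻¹ * a₃ ∉ N₀ := by
      by_contra hcon
      push Not at hcon
      have h1 : s ⊆ s.filter (fun g => a⁻¹ * g ∈ N₀) ∪ s.filter (fun g => a₂⁻¹ * g ∈ N₀) := by
        intro g hg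
        by_cases h : a⁻¹ * g ∈ N₀
        · exact Finset.mem_union.mpr (Or.inl (Finset.mem_filter.mpr ⟨hg, h⟩))
        · exact Finset.mem_union.mpr (Or.inr (Finset.mem_filter.mpr ⟨hg, hcon g hg h⟩))
      have h3 := (Finset.card_le_card h1).trans (Finset.card_union_le _ _)
      have h4 := hcos a
      have h5 := hcos a₂
      rw [hcs, hM] at h3
      have : 3 * n₀ ≤ M * n₀ := Nat.mul_le_mul_right _ hM3
      omega
    obtain ⟨a₃, ha₃, hn3, hn23⟩ := hex3
    rw [hs] at ha ha₂ ha₃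
    have hnc : ∀ g, g ∈ A → g ∉ N₀ → ∃ x ∈ K, g * x ≠ x * g := by
      intro g hg hgN
      by_contra hcon
      push Not at hcon
      exact hgN ((hmN₀ g).mpr ⟨hg, hcon⟩)
    have e1 := hh.c_mul ha.1 ha.2 ha₂.1 ha₂.2 (hnc _ (A.mul_mem (A.inv_mem ha.1) ha₂.1) hn2)
    have e2 := hh.c_mul ha.1 ha.2 ha₃.1 ha₃.2 (hnc _ (A.mul_mem (A.inv_mem ha.1) ha₃.1) hn3)
    have e3 := hh.c_mul ha₂.1 ha₂.2 ha₃.1 ha₃.2 (hnc _ (A.mul_mem (A.inv_mem ha₂.1) ha₃.1) hn23)
    rw [← hX, ← hC, ← hqq] at e1 e2 e3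
    have hqpos : 0 < q := Nat.card_pos
    set c := Nat.card ↥(X ⊓ fixE W a) with hc
    set c₂ := Nat.card ↥(X ⊓ fixE W a₂) with hc₂
    set c₃ := Nat.card ↥(X ⊓ fixE W a₃) with hc₃
    have h5 : (c * c) * (q * q * q) = (q * q * q) * (q * q * q) := by
      calc (c * c) * (q * q * q) = (c * c) * (c₂ * c₃) := by rw [e3]
        _ = (c * c₂) * (c * c₃) := by ring
        _ = _ := by rw [e1, e2]
    exact Nat.eq_of_mul_eq_mul_right (by positivity) h5
  -- exponents
  haveI : Fact (Nat.Prime 2) := ⟨Nat.prime_two⟩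
  obtain ⟨i, hi⟩ := card_pow hh.h2 C
  have ha₀s : a₀ ∈ s := by rw [hs]; exact ⟨hh.ha₀, hh.hne⟩
  obtain ⟨j, hj⟩ := card_pow hh.h2 (X ⊓ fixE W a₀)
  have h0 := hcsq a₀ ha₀s
  rw [hj, hqq, hi] at h0
  have h23 : 2 * j = 3 * i := by
    have h1 : 2 ^ (2 * j) = 2 ^ (3 * i) := by
      rw [show 2 * j = j + j by ring, show 3 * i = i + i + i by ring, pow_add, pow_add, pow_add, h0]
    exact Nat.pow_right_injective (le_refl 2) h1
  obtain ⟨l, hl⟩ : ∃ l, i = 2 * l := ⟨j - i, by omega⟩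
  set σ := 2 ^ l with hσ
  have hqσ : q = σ * σ := by
    rw [hqq, hi, hl, show 2 * l = l + l by ring, pow_add]
  have hca : ∀ a ∈ s, Nat.card ↥(X ⊓ fixE W a) = σ * σ * σ := by
    intro a ha
    have h1 := hcsq a ha
    rw [hqσ] at h1
    apply Nat.mul_self_inj.mp
    rw [h1]; ring
  -- double counting
  let t : Finset W := Finset.univ.filter (fun v => v ∈ X ∧ v ∉ C)
  have ht : ∀ v, v ∈ t ↔ v ∈ X ∧ v ∉ C := fun v => by simp [t]
  have hcX : (Finset.univ.filter (fun v : W => v ∈ X)).card = q * q := by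
    rw [hq, Nat.card_eq_fintype_card, Fintype.card_subtype]
  have hcC : (Finset.univ.filter (fun v : W => v ∈ C)).card = q := by
    rw [hqq, Nat.card_eq_fintype_card, Fintype.card_subtype]
  have hct : t.card + q = q * q := by
    rw [← hcX, ← hcC, ← Finset.card_union_of_disjoint]
    · congr 1
      ext v
      rw [Finset.mem_union, ht]
      simp only [Finset.mem_filter, Finset.mem_univ, true_and]
      have : v ∈ C → v ∈ X := fun h => h.1
      tauto
    · rw [Finset.disjoint_left]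
      intro v hv hv'
      rw [ht] at hv
      simp only [Finset.mem_filter, Finset.mem_univ, true_and] at hv'
      exact hv.2 hv'
  have hAbove : ∀ a ∈ s, σ * σ * σ - q ≤ (t.bipartiteAbove (fun a v => a • v = v) a).card := by
    intro a ha
    have h1 := hca a ha
    have h3 : (Finset.univ.filter (fun v : W => v ∈ X ⊓ fixE W a)).card = σ * σ * σ := by
      rw [← h1, Nat.card_eq_fintype_card, Fintype.card_subtype]
    have h4 : Finset.univ.filter (fun v : W => v ∈ X ⊓ fixE W a) ⊆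
        t.bipartiteAbove (fun a v => a • v = v) a ∪ Finset.univ.filter (fun v : W => v ∈ C) := by
      intro v hv
      simp only [Finset.mem_filter, Finset.mem_univ, true_and] at hv
      rw [Finset.mem_union, Finset.mem_bipartiteAbove, ht]
      simp only [Finset.mem_filter, Finset.mem_univ, true_and]
      by_cases hvC : v ∈ C
      · exact Or.inr hvC
      · exact Or.inl ⟨⟨hv.1, hvC⟩, hv.2⟩
    have h5 := (Finset.card_le_card h4).trans (Finset.card_union_le _ _)
    rw [h3, hcC] at h5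
    omega
  have hBelow : ∀ v ∈ t, (s.bipartiteBelow (fun a v => a • v = v) v).card ≤ n₀ := by
    intro v hv
    rw [ht] at hv
    rcases (s.bipartiteBelow (fun a v => a • v = v) v).eq_empty_or_nonempty with h | ⟨a₁, ha₁⟩
    · rw [h]; simp
    · refine le_trans (Finset.card_le_card ?_) (hcos a₁)
      intro a ha
      rw [Finset.mem_bipartiteBelow, hs] at ha ha₁
      rw [Finset.mem_filter, hs]
      refine ⟨ha.1, ?_⟩
      by_contra hcon
      have hA' : a₁⁻¹ * a ∈ A := A.mul_mem (A.inv_mem ha₁.1.1) ha.1.1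
      have hK' : cj (a₁⁻¹ * a) K = K := by
        rw [hinvA a₁ ha₁.1.1]
        exact hh.hN2 a₁ ha₁.1.1 a ha.1.1 ha₁.1.2 ha.1.2
      have hnc' : ∃ x ∈ K, (a₁⁻¹ * a) * x ≠ x * (a₁⁻¹ * a) := by
        by_contra hcon'
        push Not at hcon'
        exact hcon ((hmN₀ _).mpr ⟨hA', hcon'⟩)
      have h1 := hh.C_eq' hA' hK' hnc'
      have h3 : v ∈ X ⊓ fixE W (a₁⁻¹ * a) := by
        refine ⟨hv.1, ?_⟩
        show (a₁⁻¹ * a) • v = v
        rw [mul_smul, ha.2, smul_inv_of_fix ha₁.2]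
      rw [hX, h1] at h3
      exact hv.2 h3
  have hfinal := Finset.card_mul_le_card_mul (fun a v => a • v = v) hAbove hBelow
  rw [hcs, hM] at hfinal
  have hfin2 : M * (σ * σ * σ - q) ≤ t.card := by
    have h1 : n₀ * (M * (σ * σ * σ - q)) ≤ n₀ * t.card := by
      calc n₀ * (M * (σ * σ * σ - q)) = M * n₀ * (σ * σ * σ - q) := by ring
        _ ≤ t.card * n₀ := hfinal
        _ = _ := by ring
    exact Nat.le_of_mul_le_mul_left h1 hn₀pos
  -- arithmetic
  have hl0 : l ≠ 0 := by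
    rintro rfl
    have hq1 : q = 1 := by rw [hqσ, hσ]; rfl
    rw [hq1] at hq
    exact hh.X_ne (AddSubgroup.card_eq_one.mp hq.symm)
  obtain ⟨k, hk⟩ := hM2
  have hσ2 : 2 ≤ σ := by
    rw [hσ]
    calc 2 = 2 ^ 1 := rfl
      _ ≤ 2 ^ l := Nat.pow_le_pow_right (by norm_num) (by omega)
  have hM4 : 4 ≤ M := by
    rcases k with _ | _ | k
    · omega
    · omega
    · rw [hk]
      calc 4 = 2 ^ 2 := rfl
        _ ≤ 2 ^ (k + 1 + 1) := Nat.pow_le_pow_right (by norm_num) (by omega)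
  obtain ⟨τ, hτ⟩ : ∃ τ, σ = τ + 1 := ⟨σ - 1, by omega⟩
  have h1 : σ * σ * σ - q = σ * σ * τ := by
    rw [hqσ]
    have : σ * σ * σ = σ * σ * τ + σ * σ := by
      rw [hτ]; ring
    omega
  have h3 : t.card = σ * σ * (τ * (τ + 2)) := by
    have : q * q = σ * σ * (τ * (τ + 2)) + q := by
      rw [hqσ, hτ]; ring
    omega
  rw [h1, h3] at hfin2
  have h4 : (σ * σ * τ) * M ≤ (σ * σ * τ) * (τ + 2) := by
    calc (σ * σ * τ) * M = M * (σ * σ * τ) := by ring
      _ ≤ σ * σ * (τ * (τ + 2)) := hfin2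
      _ = _ := by ring
  have hτpos : 0 < τ := by omega
  have hσpos : 0 < σ := by omega
  have h5 : M ≤ τ + 2 := Nat.le_of_mul_le_mul_left h4 (by positivity)
  rw [hqσ, hτ] at hq2M
  nlinarith

end

end CaseA

end Cfsg.Agent.H19.PGV
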