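import Cfsg.Agent.H19.PGV10

set_option autoImplicit false
set_option linter.style.haveILetI false
set_option linter.unusedVariables false

/-! P(G,V)-theorem, part 11: nilpotent action and the core theorem. -/

namespace Cfsg.Agent.H19.PGV

open Cfsg Cfsg.Agent.H10

variable {H W : Type*} [Group H] [AddCommGroup W] [DistribMulAction H W]

theorem isPGroup_zpowers {p : ℕ} {a : H} {k : ℕ} (ha : a ^ (p ^ k) = 1) : IsPGroup p (Subgroup.zpowers a) := by
  rintro ⟨x, hx⟩
  obtain ⟨i, rfl⟩ := hx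
  refine ⟨k, Subtype.ext ?_⟩
  show (a ^ i) ^ (p ^ k) = 1
  rw [← zpow_natCast, ← zpow_mul, mul_comm, zpow_mul, zpow_natCast, ha, one_zpow]

theorem nil_aux [Finite W] {p : ℕ} [Fact p.Prime] (hpW : ∀ w : W, p • w = 0) {A : Subgroup H}
    (hAc : ∀ a ∈ A, ∀ b ∈ A, a * b = b * a) (hAp : ∀ a ∈ A, a ^ p = 1) {W₁ : AddSubgroup W}
    (hW₁ : ∀ a ∈ A, ∀ w ∈ W₁, a • w ∈ W₁) (S : Finset H) :
    (∀ s ∈ S, s ∈ A) → W₁ ≤ S.sup (fun s => W₁.map (dl W s)) → W₁ = ⊥ := by
  classical
  induction S using Finset.induction_on with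
  | empty =>
    intro _ h
    rw [Finset.sup_empty] at h
    exact le_bot_iff.mp h
  | insert a S' _ ih =>
    intro hS h
    have ha : a ∈ A := hS a (Finset.mem_insert_self a S')
    have hS' : ∀ s ∈ S', s ∈ A := fun s hs => hS s (Finset.mem_insert_of_mem hs)
    rw [Finset.sup_insert] at h
    apply ih hS'
    set T := S'.sup (fun s => W₁.map (dl W s)) with hT
    have hTinv : ∀ c ∈ A, T ≤ cm c T := by
      intro c hc
      rw [hT]
      apply Finset.sup_le
      intro s hs
      have h1 : W₁.map (dl W s) ≤ T := Finset.le_sup (f := fun s => W₁.map (dl W s)) hs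
      rintro _ ⟨w, hw, rfl⟩
      refine h1 ⟨c • w, hW₁ c hc w hw, ?_⟩
      show s • c • w - c • w = c • (s • w - w)
      rw [smul_sub, ← mul_smul, ← mul_smul, hAc s (hS' s hs) c hc]
    -- a minimal complement
    have hex : ∃ k, ∃ U : AddSubgroup W, (∀ c ∈ A, ∀ u ∈ U, c • u ∈ U) ∧ W₁ ≤ U ⊔ T ∧ Nat.card U = k :=
      ⟨_, W₁, hW₁, le_sup_left, rfl⟩
    obtain ⟨U, hUinv, hUT, hUc⟩ := Nat.find_spec hex
    have hle : U.map (dl W a) ≤ U := map_dl_le (hUinv a ha)
    have h1 : W₁ ≤ U.map (dl W a) ⊔ T := by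
      refine h.trans (sup_le ?_ le_sup_right)
      rintro _ ⟨w, hw, rfl⟩
      obtain ⟨u, hu, t, ht, rfl⟩ := AddSubgroup.mem_sup.mp (hUT hw)
      rw [map_add]
      refine AddSubgroup.add_mem _ (le_sup_left (a := U.map (dl W a)) ⟨u, hu, rfl⟩) (le_sup_right (b := T) ?_)
      exact T.sub_mem (hTinv a ha ht) ht
    have h2 : Nat.find hex ≤ Nat.card (U.map (dl W a)) := by
      apply Nat.find_min' hex
      refine ⟨U.map (dl W a), ?_, h1, rfl⟩
      rintro c hc _ ⟨u, hu, rfl⟩
      refine ⟨c • u, hUinv c hc u hu, ?_⟩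
      rw [dl_apply, dl_apply, smul_sub, ← mul_smul, ← mul_smul, hAc a ha c hc]
    rw [← hUc] at h2
    have h3 := card_dl a U
    have h4 : Nat.card ↥(U ⊓ fixE W a) = 1 := by
      have hpos : 0 < Nat.card (U.map (dl W a)) := Nat.card_pos
      have hpos' : 0 < Nat.card ↥(U ⊓ fixE W a) := Nat.card_pos
      by_contra hne
      have : 2 ≤ Nat.card ↥(U ⊓ fixE W a) := by omega
      have h5 : Nat.card (U.map (dl W a)) * 2 ≤ Nat.card U := by
        calc Nat.card (U.map (dl W a)) * 2 ≤ Nat.card (U.map (dl W a)) * Nat.card ↥(U ⊓ fixE W a) :=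
              Nat.mul_le_mul_left _ this
          _ = Nat.card U := h3
      omega
    have hUbot : U = ⊥ := by
      by_contra hne
      have hAz : ∀ g ∈ Subgroup.zpowers a, ∀ u ∈ U, g • u ∈ U := by
        intro g hg u hu
        exact hUinv g ((Subgroup.zpowers_le.mpr ha) hg) u hu
      obtain ⟨u, hu, hu0, hfix⟩ := exists_fix hpW (isPGroup_zpowers (k := 1) (by rw [pow_one]; exact hAp a ha)) hAz hne
      have h6 : u ∈ U ⊓ fixE W a := ⟨hu, hfix a (Subgroup.mem_zpowers a)⟩
      rw [AddSubgroup.card_eq_one.mp h4] at h6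
      exact hu0 h6
    rw [hUbot, bot_sup_eq] at hUT
    exact hUT

theorem nil_act [Finite H] [Finite W] {p : ℕ} [Fact p.Prime] (hpW : ∀ w : W, p • w = 0) {A : Subgroup H}
    (hAc : ∀ a ∈ A, ∀ b ∈ A, a * b = b * a) (hAp : ∀ a ∈ A, a ^ p = 1)
    (h : ∀ w : W, w ∈ comS W A ⊔ fixS W A) : ∀ a ∈ A, ∀ w : W, a • w = w := by
  classical
  haveI := Fintype.ofFinite H
  have h1 : comS W A = ⊥ := by
    refine nil_aux hpW hAc hAp ?_ (Finset.univ.filter (fun g => g ∈ A)) (fun s hs => (Finset.mem_filter.mp hs).2) ?_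
    · intro a ha w hw
      exact smul_comS (fun x hx => A.mul_mem (A.mul_mem ha hx) (A.inv_mem ha)) w hw
    · rw [comS_le]
      intro x hx w
      have h3 : (comS W A).map (dl W x) ≤ (Finset.univ.filter (fun g => g ∈ A)).sup (fun s => (comS W A).map (dl W s)) :=
        Finset.le_sup (f := fun s => (comS W A).map (dl W s)) (Finset.mem_filter.mpr ⟨Finset.mem_univ x, hx⟩)
      apply h3
      obtain ⟨w₁, hw₁, w₂, hw₂, rfl⟩ := AddSubgroup.mem_sup.mp (h w)
      refine ⟨w₁, hw₁, ?_⟩
      rw [dl_apply, smul_add, hw₂ x hx]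
      abel
  intro a ha w
  have := mem_comS (W := W) ha w
  rw [h1, AddSubgroup.mem_bot] at this
  exact sub_eq_zero.mp this

theorem core [Finite H] [Finite W] {p : ℕ} [Fact p.Prime] (hpW : ∀ w : W, p • w = 0)
    (hfaith : ∀ g : H, ∀ m : ℕ, m.Coprime p → g ^ m = 1 → (∀ w : W, g • w = w) → g = 1)
    {A K B : Subgroup H} (hK : IsComponent K) (hAc : ∀ a ∈ A, ∀ b ∈ A, a * b = b * a) (hAp : ∀ a ∈ A, a ^ p = 1)
    (hBA : B ≤ A) (hBfix : ∀ b ∈ B, ∀ a ∈ A, ∀ w : W, b • (a • w - w) = a • w - w)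
    (hcard1 : Nat.card ↥(A ⊓ Subgroup.centralizer (K : Set H)) * Nat.card W ≤ Nat.card A * Nat.card (fixS W A))
    (hcard2 : Nat.card ↥(A ⊓ Subgroup.centralizer (K : Set H)) * Nat.card W ≤ Nat.card B * Nat.card (fixS W B))
    (hBle : fixS W B ≤ comS W A ⊔ fixS W A)
    (hN₀ : ∀ g ∈ A ⊓ Subgroup.centralizer (K : Set H), ∀ w : W, g • w = w) : ∀ a ∈ A, cj a K = K := by
  classical
  have hpp : p.Prime := Fact.out
  intro a₀ ha₀
  by_contra hne
  obtain ⟨r, hr, hrp, hr2, y, hy, ⟨k, hk⟩, y', hy', hyy⟩ := exists_relt hK hpp Nat.prime_two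
  have hcop : Nat.Coprime (r ^ k) p := Nat.Coprime.pow_left _ ((Nat.coprime_primes hr hpp).mpr hrp)
  -- K does not act trivially
  have hKtriv : ¬ ∀ x ∈ K, ∀ w : W, x • w = w := by
    intro h
    have h1 := hfaith y (r ^ k) hcop hk (h y hy)
    rw [h1] at hyy
    simp at hyy
  -- conjugates of y act differently
  have hdiff : ∀ a : H, cj a K ≠ K → ¬ ∀ w : W, (a * y * a⁻¹) • w = y • w := by
    intro a hne h
    have hc : Commute y (a * y * a⁻¹) := cj_comm hK (comp_cj hK a) hne.symm y hy _ (cj_mem a hy)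
    have h1 : (y⁻¹ * (a * y * a⁻¹)) ^ (r ^ k) = 1 := by
      rw [hc.inv_left.mul_pow, inv_pow, hk, conj_pow, hk]; simp
    have h2 := hfaith _ (r ^ k) hcop h1 (fun w => by rw [mul_smul, h w, inv_smul_smul])
    rw [inv_mul_eq_one] at h2
    apply hyy
    have h3 := cj_comm hK (comp_cj hK a) hne.symm y' hy' _ (cj_mem a hy)
    rw [← h2] at h3
    exact h3.symm
  have hmN₀ : ∀ g, g ∈ A ⊓ Subgroup.centralizer (K : Set H) ↔ g ∈ A ∧ ∀ x ∈ K, g * x = x * g := by
    intro g
    rw [Subgroup.mem_inf, Subgroup.mem_centralizer_iff]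
    constructor
    · rintro ⟨h1, h3⟩; exact ⟨h1, fun x hx => (h3 x hx).symm⟩
    · rintro ⟨h1, h3⟩; exact ⟨h1, fun x hx => (h3 x hx).symm⟩
  -- B does not centralize K
  have hBK : ∃ b ∈ B, ∃ x ∈ K, b * x ≠ x * b := by
    by_contra hcon
    push Not at hcon
    have h1 : ∀ w : W, w ∈ fixS W B := by
      intro w b hb
      exact hN₀ b ((hmN₀ b).mpr ⟨hBA hb, hcon b hb⟩) w
    have h2 := nil_act hpW hAc hAp (fun w => hBle (h1 w))
    apply hdiff a₀ hne
    intro w
    rw [mul_smul, mul_smul, h2 a₀⁻¹ (A.inv_mem ha₀), h2 a₀ ha₀]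
  by_cases hp2 : p = 2
  · subst hp2
    have hD2 : ∀ a ∈ A, ∀ x : H, Dl a 2 x = x * (a * x * a⁻¹) := fun a ha x => Dl_two (hAp a ha) x
    by_cases hcase : ∃ n ∈ B, cj n K = K ∧ ∃ x ∈ K, n * x ≠ x * n
    · obtain ⟨n, hnB, hnK, hnc⟩ := hcase
      have hnorm := cj_eq_iff_norm.mp hnK
      have hA0 : ∀ a ∈ A, cj a K ≠ K → ∀ x ∈ K, ∀ w : W, (x * (a * x * a⁻¹)) • (a • w - w) = a • w - w := by
        intro a ha hnea x hx w
        rw [← hD2 a ha x]
        refine A0 hK (by norm_num) (hAp a ha) ?_ (fun x hx => (hnorm x).mp hx) hnc (hAc n (hBA hnB) a ha)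
          (hBfix n hnB a ha) x hx w
        intro i hi0 hi2 x hx y hy
        have hi1 : i = 1 := by omega
        subst hi1
        rw [pow_one]
        exact cj_comm hK (comp_cj hK a) hnea.symm x hx _ (cj_mem a hy)
      by_cases hN2 : ∀ a ∈ A, ∀ a' ∈ A, cj a K ≠ K → cj a' K ≠ K → cj (a * a') K = K
      · have hca : CaseA W A K a₀ n y :=
          { h2 := hpW
            hK := hK
            hfaith := fun g m hm hg h => hfaith g m (Nat.coprime_two_right.mpr hm) hg h
            hAc := hAc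
            hAp := hAp
            hA0 := hA0
            hN2 := hN2
            ha₀ := ha₀
            hne := hne
            hn := hBA hnB
            hnK := hnK
            hnc := hnc
            hfix := fun a ha w => hBfix n hnB a ha w
            hy₀ := ⟨hy, ⟨r ^ k, Nat.coprime_two_right.mp hcop, hk⟩, y', hy', hyy⟩
            hcard := hcard1 }
        exact hca.S_count
      · push Not at hN2
        obtain ⟨a, ha, a', ha', h1, h2, h3⟩ := hN2
        exact hKtriv (A7 hK (hAp a ha) (hAp a' ha') (hAc a ha a' ha') h1 h2 h3 (hA0 a ha h1) (hA0 a' ha' h2))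
    · push Not at hcase
      obtain ⟨b, hb, hbx⟩ := hBK
      have hbne : cj b K ≠ K := by
        intro h
        obtain ⟨x, hx, hbx⟩ := hbx
        exact hbx (hcase b hb h x hx)
      by_cases hex : ∃ b' ∈ B, cj b' K ≠ K ∧ cj (b * b') K ≠ K
      · obtain ⟨b', hb', h1, h2⟩ := hex
        have hc := hAc b (hBA hb) b' (hBA hb')
        have e1 := B1 (W := W) hK (hAp b (hBA hb)) hc hbne h1 h2 (hBfix b' hb' b (hBA hb))
        have e2 := B1 (W := W) hK (hAp b' (hBA hb')) hc.symm h1 hbne (by rw [← hc]; exact h2) (hBfix b hb b' (hBA hb'))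
        exact hKtriv (A7 hK (hAp b (hBA hb)) (hAp b' (hBA hb')) hc hbne h1 h2 e1 e2)
      · push Not at hex
        haveI := Fintype.ofFinite H
        have hBcard : Nat.card B ≤ 2 * Nat.card ↥(A ⊓ Subgroup.centralizer (K : Set H)) := by
          set N₀ := A ⊓ Subgroup.centralizer (K : Set H) with hN₀def
          have c1 : (Finset.univ.filter (fun g : H => g ∈ B)).card = Nat.card B := by
            rw [Nat.card_eq_fintype_card, Fintype.card_subtype]
          have c2 : (Finset.univ.filter (fun g : H => g ∈ N₀)).card = Nat.card N₀ := by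
            rw [Nat.card_eq_fintype_card, Fintype.card_subtype]
          have hsub : Finset.univ.filter (fun g : H => g ∈ B) ⊆ Finset.univ.filter (fun g : H => g ∈ N₀) ∪
              (Finset.univ.filter (fun g : H => g ∈ N₀)).image (fun g => b⁻¹ * g) := by
            intro g hg
            have hgB : g ∈ B := (Finset.mem_filter.mp hg).2
            rw [Finset.mem_union]
            by_cases hgK : cj g K = K
            · left
              refine Finset.mem_filter.mpr ⟨Finset.mem_univ _, (hmN₀ g).mpr ⟨hBA hgB, hcase g hgB hgK⟩⟩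
            · right
              rw [Finset.mem_image]
              have h1 := hex g hgB hgK
              exact ⟨b * g, Finset.mem_filter.mpr ⟨Finset.mem_univ _, (hmN₀ _).mpr
                ⟨hBA (B.mul_mem hb hgB), hcase _ (B.mul_mem hb hgB) h1⟩⟩, by group⟩
          have c3 := (Finset.card_le_card hsub).trans (Finset.card_union_le _ _)
          have c4 : ((Finset.univ.filter (fun g : H => g ∈ N₀)).image (fun g => b⁻¹ * g)).card ≤
              (Finset.univ.filter (fun g : H => g ∈ N₀)).card := Finset.card_image_le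
          omega
        have hfixle : Nat.card (fixS W B) ≤ Nat.card (fixE W b) := by
          have hle : fixS W B ≤ fixE W b := fun w hw => hw b hb
          exact Nat.card_le_card_of_injective (AddSubgroup.inclusion hle) (AddSubgroup.inclusion_injective hle)
        have hn0pos : 0 < Nat.card ↥(A ⊓ Subgroup.centralizer (K : Set H)) := Nat.card_pos
        have hW2 : Nat.card W ≤ 2 * Nat.card (fixE W b) := by
          have h1 : Nat.card ↥(A ⊓ Subgroup.centralizer (K : Set H)) * Nat.card W ≤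
              Nat.card ↥(A ⊓ Subgroup.centralizer (K : Set H)) * (2 * Nat.card (fixE W b)) := by
            calc _ ≤ Nat.card B * Nat.card (fixS W B) := hcard2
              _ ≤ (2 * Nat.card ↥(A ⊓ Subgroup.centralizer (K : Set H))) * Nat.card (fixE W b) :=
                Nat.mul_le_mul hBcard hfixle
              _ = _ := by ring
          exact Nat.le_of_mul_le_mul_left h1 hn0pos
        exact caseC hpW (fun g m hm hg h => hfaith g m (Nat.coprime_two_right.mpr hm) hg h) hK hbne hW2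
  · have hp3 : 3 ≤ p := by
      have := hpp.two_le
      omega
    obtain ⟨b, hb, hbx⟩ := hBK
    by_cases hbK : cj b K = K
    · have hnorm := cj_eq_iff_norm.mp hbK
      refine hKtriv (P2 hpp hp3 hK (hAp a₀ ha₀) hne (fun x hx => (hnorm x).mp hx) (fun x hx => ?_) hbx
        (hAc b (hBA hb) a₀ ha₀) (hBfix b hb a₀ ha₀))
      rw [hnorm]
      have : b * (b⁻¹ * x * b) * b⁻¹ = x := by group
      rwa [this]
    · apply hdiff b hbK
      intro w
      exact P1 ((Nat.coprime_primes Nat.prime_two hpp).mpr (fun h => hp2 h.symm)) hpW hK (hBfix b hb b (hBA hb)) hbK hy hcop hk w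

end Cfsg.Agent.H19.PGV
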