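import Cfsg.Agent.H19.PGV11

set_option autoImplicit false
set_option linter.style.haveILetI false
set_option linter.unusedVariables false

/-! P(G,V)-theorem, part 12: Timmesfeld replacement and the reduction to the core theorem. -/

namespace Cfsg.Agent.H19.PGV

open Cfsg Cfsg.Agent.H10

variable {G V : Type*} [Group G] [AddCommGroup V] [DistribMulAction G V]

theorem card_le_of_le {A : Type*} [AddGroup A] [Finite A] {X Y : AddSubgroup A} (h : X ≤ Y) : Nat.card X ≤ Nat.card Y :=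
  Nat.card_le_card_of_injective (AddSubgroup.inclusion h) (AddSubgroup.inclusion_injective h)

theorem T1 [Finite G] [Finite V] {A : Subgroup G} {m : ℕ}
    (hm : ∀ B : Subgroup G, B ≤ A → Nat.card B * Nat.card (fixS V B) ≤ m) (hmpos : 0 < m)
    {B₁ B₂ : Subgroup G} (h1 : B₁ ≤ A) (h2 : B₂ ≤ A) (e1 : Nat.card B₁ * Nat.card (fixS V B₁) = m)
    (e2 : Nat.card B₂ * Nat.card (fixS V B₂) = m) :
    Nat.card ↥(B₁ ⊓ B₂) * Nat.card (fixS V (B₁ ⊓ B₂)) = m ∧ fixS V (B₁ ⊓ B₂) ≤ fixS V B₁ ⊔ fixS V B₂ := by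
  have hsup : fixS V B₁ ⊔ fixS V B₂ ≤ fixS V (B₁ ⊓ B₂) :=
    sup_le (fun w hw b hb => hw b hb.1) (fun w hw b hb => hw b hb.2)
  have hinf : fixS V B₁ ⊓ fixS V B₂ ≤ fixS V (B₁ ⊔ B₂) := by
    rintro w ⟨hw1, hw2⟩
    let St : Subgroup G :=
      { carrier := {g | g • w = w}
        mul_mem' := fun {a b} ha hb => by
          show (a * b) • w = w
          rw [mul_smul]
          have ha' : a • w = w := ha
          have hb' : b • w = w := hb
          rw [hb', ha']
        one_mem' := one_smul G w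
        inv_mem' := fun {a} ha => smul_inv_of_fix ha }
    have : B₁ ⊔ B₂ ≤ St := sup_le (fun b hb => hw1 b hb) (fun b hb => hw2 b hb)
    exact fun b hb => this hb
  have c1 := card_mul_le_sup B₁ B₂
  have c2 := card_mul_le_sup_add (fixS V B₁) (fixS V B₂)
  have c3 := hm (B₁ ⊔ B₂) (sup_le h1 h2)
  have c4 := hm (B₁ ⊓ B₂) (inf_le_left.trans h1)
  have c5 := card_le_of_le hinf
  have c6 := card_le_of_le hsup
  set b₁ := Nat.card B₁
  set b₂ := Nat.card B₂
  set f₁ := Nat.card (fixS V B₁)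
  set f₂ := Nat.card (fixS V B₂)
  set bs := Nat.card ↥(B₁ ⊔ B₂)
  set bi := Nat.card ↥(B₁ ⊓ B₂)
  set fs := Nat.card ↥(fixS V B₁ ⊔ fixS V B₂)
  set fi := Nat.card ↥(fixS V B₁ ⊓ fixS V B₂)
  set gi := Nat.card (fixS V (B₁ ⊓ B₂))
  set gs := Nat.card (fixS V (B₁ ⊔ B₂))
  have hmm : m * m ≤ m * (bi * fs) := by
    calc m * m = (b₁ * f₁) * (b₂ * f₂) := by rw [e1, e2]
      _ = (b₁ * b₂) * (f₁ * f₂) := by ring
      _ ≤ (bs * bi) * (fs * fi) := Nat.mul_le_mul c1 c2
      _ = (bs * fi) * (bi * fs) := by ring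
      _ ≤ (bs * gs) * (bi * fs) := Nat.mul_le_mul_right _ (Nat.mul_le_mul_left _ c5)
      _ ≤ m * (bi * fs) := Nat.mul_le_mul_right _ c3
  have h3 : m ≤ bi * fs := Nat.le_of_mul_le_mul_left hmm hmpos
  have h4 : bi * fs ≤ bi * gi := Nat.mul_le_mul_left _ c6
  have hbi : 0 < bi := Nat.card_pos
  refine ⟨le_antisymm c4 (h3.trans h4), ?_⟩
  have h5 : gi ≤ fs := by
    have : bi * gi ≤ bi * fs := c4.trans h3
    exact Nat.le_of_mul_le_mul_left this hbi
  have := AddSubgroup.eq_of_le_of_card_ge hsup h5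
  exact this.ge

/-- the centralizer in `A` of `[w, A]` -/
def Bw (A : Subgroup G) (w : V) : Subgroup G where
  carrier := {b | b ∈ A ∧ ∀ a ∈ A, b • (a • w - w) = a • w - w}
  mul_mem' := by
    rintro b c ⟨hb, hb'⟩ ⟨hc, hc'⟩
    exact ⟨A.mul_mem hb hc, fun a ha => by rw [mul_smul, hc' a ha, hb' a ha]⟩
  one_mem' := ⟨A.one_mem, fun a _ => one_smul G _⟩
  inv_mem' := by
    rintro b ⟨hb, hb'⟩
    exact ⟨A.inv_mem hb, fun a ha => smul_inv_of_fix (hb' a ha)⟩

theorem mem_Bw {A : Subgroup G} {w : V} {b : G} : b ∈ Bw A w ↔ b ∈ A ∧ ∀ a ∈ A, b • (a • w - w) = a • w - w := Iff.rfl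

theorem Bw_le (A : Subgroup G) (w : V) : Bw A w ≤ A := fun _ h => h.1

theorem T2 [Finite G] [Finite V] {A : Subgroup G} (hAc : ∀ a ∈ A, ∀ b ∈ A, a * b = b * a)
    (hm : ∀ B : Subgroup G, B ≤ A → Nat.card B * Nat.card (fixS V B) ≤ Nat.card A * Nat.card (fixS V A)) (w : V) :
    Nat.card (Bw A w) * Nat.card (fixS V (Bw A w)) = Nat.card A * Nat.card (fixS V A) ∧
      fixS V (Bw A w) ≤ AddSubgroup.closure {u | ∃ a ∈ A, u = a • w - w} ⊔ fixS V A := by
  classical
  set U := AddSubgroup.closure {u : V | ∃ a ∈ A, u = a • w - w} ⊔ fixS V A with hU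
  have hmemU : ∀ a ∈ A, a • w - w ∈ U := fun a ha =>
    (le_sup_left : _ ≤ U) (AddSubgroup.subset_closure ⟨a, ha, rfl⟩)
  have hUle : U ≤ fixS V (Bw A w) := by
    refine sup_le ?_ ?_
    · rw [AddSubgroup.closure_le]
      rintro _ ⟨a, ha, rfl⟩ b hb
      exact hb.2 a ha
    · intro v hv b hb
      exact hv b hb.1
  haveI := Fintype.ofFinite G
  haveI := Fintype.ofFinite V
  have hcount : Nat.card A * Nat.card (fixS V A) ≤ Nat.card (Bw A w) * Nat.card U := by
    rw [← Nat.card_prod]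
    have h1 := Finset.card_le_mul_card_image_of_maps_to
      (f := fun x : A × fixS V A => (⟨(x.1.1 • w - w) + x.2.1, U.add_mem (hmemU x.1.1 x.1.2) ((le_sup_right : _ ≤ U) x.2.2)⟩ : U))
      (s := Finset.univ) (t := Finset.univ) (fun _ _ => Finset.mem_univ _) (Nat.card (Bw A w)) (by
        intro u _
        rcases (Finset.univ.filter (fun x : A × fixS V A => (⟨(x.1.1 • w - w) + x.2.1, U.add_mem (hmemU x.1.1 x.1.2) ((le_sup_right : _ ≤ U) x.2.2)⟩ : U) = u)).eq_empty_or_nonempty with h | ⟨⟨a₁, v₁⟩, h₁⟩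
        · rw [h]; simp
        · have e₁ : (a₁.1 • w - w) + v₁.1 = u.1 := congrArg Subtype.val (Finset.mem_filter.mp h₁).2
          have hBc : Nat.card (Bw A w) = (Finset.univ.filter (fun g : G => g ∈ Bw A w)).card := by
            rw [Nat.card_eq_fintype_card, Fintype.card_subtype]
          rw [hBc]
          apply Finset.card_le_card_of_injOn (fun x => a₁.1⁻¹ * x.1.1)
          · rintro ⟨a, v⟩ hx
            have e₂ : (a.1 • w - w) + v.1 = u.1 := congrArg Subtype.val (Finset.mem_filter.mp hx).2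
            have hmem : a₁.1⁻¹ * a.1 ∈ Bw A w := by
              refine ⟨A.mul_mem (A.inv_mem a₁.2) a.2, ?_⟩
              have h3 : a.1 • w - a₁.1 • w = v₁.1 - v.1 := by
                have : (a.1 • w - w) + v.1 = (a₁.1 • w - w) + v₁.1 := by rw [e₁, e₂]
                have h4 : a.1 • w - a₁.1 • w = ((a.1 • w - w) + v.1) - ((a₁.1 • w - w) + v₁.1) + (v₁.1 - v.1) := by abel
                rw [h4, this]; abel
              have h4 : v₁.1 - v.1 ∈ fixS V A := AddSubgroup.sub_mem _ v₁.2 v.2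
              have h5 : (a₁.1⁻¹ * a.1) • w - w = v₁.1 - v.1 := by
                have h6 : (a₁.1⁻¹ * a.1) • w - w = a₁.1⁻¹ • (a.1 • w - a₁.1 • w) := by
                  rw [smul_sub, inv_smul_smul, mul_smul]
                rw [h6, h3]
                exact h4 _ (A.inv_mem a₁.2)
              intro c hc
              have h7 : c • ((a₁.1⁻¹ * a.1) • w - w) = (a₁.1⁻¹ * a.1) • w - w := by
                rw [h5]; exact h4 c hc
              have hcc : c * (a₁.1⁻¹ * a.1) = (a₁.1⁻¹ * a.1) * c := hAc c hc _ (A.mul_mem (A.inv_mem a₁.2) a.2)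
              have h8 : c • (a₁.1⁻¹ * a.1) • w = (a₁.1⁻¹ * a.1) • c • w := by
                rw [← mul_smul, hcc, mul_smul]
              rw [smul_sub, h8] at h7
              rw [smul_sub]
              have h9 : (a₁.1⁻¹ * a.1) • c • w = ((a₁.1⁻¹ * a.1) • w - w) + c • w := by rw [← h7]; abel
              rw [h9]; abel
            exact Finset.mem_coe.mpr (Finset.mem_filter.mpr ⟨Finset.mem_univ _, hmem⟩)
          · rintro ⟨a, v⟩ hx ⟨a', v'⟩ hx' hxx
            have e₂ : (a.1 • w - w) + v.1 = u.1 := congrArg Subtype.val (Finset.mem_filter.mp hx).2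
            have e₃ : (a'.1 • w - w) + v'.1 = u.1 := congrArg Subtype.val (Finset.mem_filter.mp hx').2
            have h3 : a.1 = a'.1 := mul_left_cancel hxx
            have h4 : a = a' := Subtype.ext h3
            subst h4
            have h5 : v.1 = v'.1 := add_left_cancel (e₂.trans e₃.symm)
            have h6 : v = v' := Subtype.ext h5
            rw [h6])
    rw [Finset.card_univ, Finset.card_univ, ← Nat.card_eq_fintype_card, ← Nat.card_eq_fintype_card] at h1
    exact h1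
  have h2 := hm (Bw A w) (Bw_le A w)
  have h3 := card_le_of_le hUle
  have hBpos : 0 < Nat.card (Bw A w) := Nat.card_pos
  have h4 : Nat.card (Bw A w) * Nat.card U ≤ Nat.card (Bw A w) * Nat.card (fixS V (Bw A w)) := Nat.mul_le_mul_left _ h3
  refine ⟨le_antisymm h2 (hcount.trans h4), ?_⟩
  have h5 : Nat.card (fixS V (Bw A w)) ≤ Nat.card U :=
    Nat.le_of_mul_le_mul_left (h2.trans hcount) hBpos
  exact (AddSubgroup.eq_of_le_of_card_ge hUle h5).ge

theorem T3 [Finite G] [Finite V] {A : Subgroup G} (hAc : ∀ a ∈ A, ∀ b ∈ A, a * b = b * a)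
    (hm : ∀ B : Subgroup G, B ≤ A → Nat.card B * Nat.card (fixS V B) ≤ Nat.card A * Nat.card (fixS V A))
    (W : AddSubgroup V) :
    ∃ B : Subgroup G, B ≤ A ∧ Nat.card B * Nat.card (fixS V B) = Nat.card A * Nat.card (fixS V A) ∧
      fixS V B ≤ AddSubgroup.closure {u | ∃ a ∈ A, ∃ w ∈ W, u = a • w - w} ⊔ fixS V A ∧
      ∀ b ∈ B, ∀ a ∈ A, ∀ w ∈ W, b • (a • w - w) = a • w - w := by
  classical
  set J := AddSubgroup.closure {u : V | ∃ a ∈ A, ∃ w ∈ W, u = a • w - w} ⊔ fixS V A with hJ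
  have hmpos : 0 < Nat.card A * Nat.card (fixS V A) := Nat.mul_pos Nat.card_pos Nat.card_pos
  have hex : ∃ k, ∃ B : Subgroup G, B ≤ A ∧ Nat.card B * Nat.card (fixS V B) = Nat.card A * Nat.card (fixS V A) ∧
      fixS V B ≤ J ∧ Nat.card B = k := ⟨_, A, le_rfl, rfl, le_sup_right, rfl⟩
  obtain ⟨B, hBA, hBm, hBJ, hBc⟩ := Nat.find_spec hex
  refine ⟨B, hBA, hBm, hBJ, ?_⟩
  intro b hb a ha w hw
  obtain ⟨e1, e2⟩ := T2 (V := V) hAc hm w
  obtain ⟨e3, e4⟩ := T1 hm hmpos hBA (Bw_le A w) hBm e1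
  have h1 : Nat.find hex ≤ Nat.card ↥(B ⊓ Bw A w) := by
    apply Nat.find_min' hex
    refine ⟨B ⊓ Bw A w, inf_le_left.trans hBA, e3, e4.trans (sup_le hBJ (e2.trans (sup_le ?_ le_sup_right))), rfl⟩
    refine le_trans ?_ (le_sup_left : _ ≤ J)
    apply AddSubgroup.closure_mono
    rintro _ ⟨a, ha, rfl⟩
    exact ⟨a, ha, w, hw, rfl⟩
  rw [← hBc] at h1
  have h2 : B ⊓ Bw A w = B := Subgroup.eq_of_le_of_card_ge inf_le_left h1
  rw [← h2] at hb
  exact hb.2.2 a ha

/-- the action of the centralizer of `N` on the fixed points of `N` -/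
@[instance_reducible] def fixAct (V : Type*) [AddCommGroup V] [DistribMulAction G V] (N : Subgroup G) :
    DistribMulAction ↥(Subgroup.centralizer (N : Set G)) ↥(fixS V N) where
  smul h w := ⟨h.1 • w.1, fun b hb => by
    rw [← mul_smul, Subgroup.mem_centralizer_iff.mp h.2 b hb, mul_smul, w.2 b hb]⟩
  one_smul w := Subtype.ext (one_smul G w.1)
  mul_smul g h w := Subtype.ext (mul_smul g.1 h.1 w.1)
  smul_zero g := Subtype.ext (smul_zero g.1)
  smul_add g v w := Subtype.ext (smul_add g.1 v.1 w.1)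

attribute [local instance] fixAct in
theorem top_thm [Finite G] [Finite V] {p : ℕ} [Fact p.Prime] (hpV : ∀ v : V, p • v = 0)
    (hf : ∀ g : G, (∀ v : V, g • v = v) → g = 1) {A : Subgroup G}
    (hAc : ∀ a ∈ A, ∀ b ∈ A, a * b = b * a) (hAp : ∀ a ∈ A, a ^ p = 1)
    (hm : ∀ B : Subgroup G, B ≤ A → Nat.card B * Nat.card (fixS V B) ≤ Nat.card A * Nat.card (fixS V A))
    {K : Subgroup G} (hK : IsComponent K) : ∀ a ∈ A, cj a K = K := by
  classical
  set N₀ : Subgroup G := A ⊓ Subgroup.centralizer (K : Set G) with hN₀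
  obtain ⟨B, hBA, hBm, hBJ, hBfix⟩ := T3 (V := V) hAc hm (fixS V N₀)
  set C := Subgroup.centralizer (N₀ : Set G) with hC
  have hAC : A ≤ C := by
    intro a ha
    rw [hC, Subgroup.mem_centralizer_iff]
    intro b hb
    exact hAc b hb.1 a ha
  have hKC : K ≤ C := by
    intro x hx
    rw [hC, Subgroup.mem_centralizer_iff]
    intro b hb
    exact (Subgroup.mem_centralizer_iff.mp hb.2 x hx).symm
  have hN₀p : IsPGroup p N₀ := by
    rintro ⟨g, hg⟩
    refine ⟨1, Subtype.ext ?_⟩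
    show g ^ (p ^ 1) = 1
    rw [pow_one]
    exact hAp g hg.1
  have hcardsub : ∀ S : Subgroup G, S ≤ C → Nat.card (S.subgroupOf C) = Nat.card S := fun S hS =>
    Nat.card_congr (Subgroup.subgroupOfEquivOfLe hS).toEquiv
  have hAW : fixS V A ≤ fixS V N₀ := fun v hv b hb => hv b hb.1
  have hBW : fixS V B ≤ fixS V N₀ := by
    refine hBJ.trans (sup_le ?_ hAW)
    rw [AddSubgroup.closure_le]
    rintro _ ⟨a, ha, w, hw, rfl⟩
    refine AddSubgroup.sub_mem _ ?_ hw
    intro b hb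
    rw [← mul_smul, hAc b hb.1 a ha, mul_smul, hw b hb]
  have hcardfix : ∀ S : Subgroup G, S ≤ C → fixS V S ≤ fixS V N₀ →
      Nat.card (fixS (↥(fixS V N₀)) (S.subgroupOf C)) = Nat.card (fixS V S) := by
    intro S hS hSW
    refine Nat.card_congr ⟨fun x => ⟨x.1.1, fun b hb => ?_⟩, fun x => ⟨⟨x.1, hSW x.2⟩, fun b hb => ?_⟩, ?_, ?_⟩
    · have := x.2 ⟨b, hS hb⟩ (Subgroup.mem_subgroupOf.mpr hb)
      exact congrArg Subtype.val this
    · exact Subtype.ext (x.2 b.1 (Subgroup.mem_subgroupOf.mp hb))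
    · intro x; rfl
    · intro x; rfl
  have hmemN : ∀ g : C, g ∈ A.subgroupOf C ⊓ Subgroup.centralizer (K.subgroupOf C : Set C) ↔ g.1 ∈ N₀ := by
    intro g
    rw [Subgroup.mem_inf, Subgroup.mem_subgroupOf, Subgroup.mem_centralizer_iff, hN₀, Subgroup.mem_inf,
      Subgroup.mem_centralizer_iff]
    constructor
    · rintro ⟨h1, h2⟩
      refine ⟨h1, fun x hx => ?_⟩
      exact congrArg Subtype.val (h2 ⟨x, hKC hx⟩ (Subgroup.mem_subgroupOf.mpr hx))
    · rintro ⟨h1, h2⟩
      refine ⟨h1, fun x hx => ?_⟩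
      exact Subtype.ext (h2 x.1 (Subgroup.mem_subgroupOf.mp hx))
  have hNeq : A.subgroupOf C ⊓ Subgroup.centralizer (K.subgroupOf C : Set C) = N₀.subgroupOf C := by
    ext g
    rw [hmemN, Subgroup.mem_subgroupOf]
  have hcore := core (H := C) (W := ↥(fixS V N₀)) (p := p) (A := A.subgroupOf C) (K := K.subgroupOf C) (B := B.subgroupOf C)
    (fun w => Subtype.ext (hpV w.1)) (by
      intro g m hmp hg htriv
      have hg' : g.1 ^ m = 1 := congrArg Subtype.val hg
      have hcomm : ∀ b ∈ N₀, b * g.1 = g.1 * b := fun b hb => Subgroup.mem_centralizer_iff.mp g.2 b hb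
      have hbot : rg V g.1 = ⊥ := by
        by_contra hne
        obtain ⟨u, hu, hu0, hfix⟩ := exists_fix hpV hN₀p (U := rg V g.1) (by
          rintro b hb _ ⟨v, _, rfl⟩
          refine ⟨b • v, trivial, ?_⟩
          rw [dl_apply, dl_apply, smul_sub, ← mul_smul, ← mul_smul, hcomm b hb]) hne
        have h1 := htriv ⟨u, hfix⟩
        have h2 : g.1 • u = u := congrArg Subtype.val h1
        have h3 : u ∈ rg V g.1 ⊓ fixE V g.1 := ⟨hu, h2⟩
        rw [rg, map_dl_inf_fixE hpV hmp hg'] at h3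
        exact hu0 h3
      apply Subtype.ext
      apply hf
      intro v
      have := mem_rg (W := V) g.1 v
      rw [hbot, AddSubgroup.mem_bot] at this
      exact sub_eq_zero.mp this)
    (component_subgroupOf hK hKC)
    (fun a ha b hb => Subtype.ext (hAc a.1 (Subgroup.mem_subgroupOf.mp ha) b.1 (Subgroup.mem_subgroupOf.mp hb)))
    (fun a ha => Subtype.ext (hAp a.1 (Subgroup.mem_subgroupOf.mp ha)))
    (fun b hb => Subgroup.mem_subgroupOf.mpr (hBA (Subgroup.mem_subgroupOf.mp hb)))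
    (fun b hb a ha w => Subtype.ext (hBfix b.1 (Subgroup.mem_subgroupOf.mp hb) a.1 (Subgroup.mem_subgroupOf.mp ha) w.1 w.2))
    (by
      rw [hNeq, hcardsub N₀ (inf_le_left.trans hAC), hcardsub A hAC, hcardfix A hAC hAW]
      exact hm N₀ inf_le_left)
    (by
      rw [hNeq, hcardsub N₀ (inf_le_left.trans hAC), hcardsub B (hBA.trans hAC), hcardfix B (hBA.trans hAC) hBW, hBm]
      exact hm N₀ inf_le_left)
    (by
      intro w hw
      have h1 : w.1 ∈ fixS V B := by
        intro b hb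
        have := hw ⟨b, hAC (hBA hb)⟩ (Subgroup.mem_subgroupOf.mpr hb)
        exact congrArg Subtype.val this
      have h2 : AddSubgroup.closure {u : V | ∃ a ∈ A, ∃ w ∈ fixS V N₀, u = a • w - w} ⊔ fixS V A ≤
          (comS (↥(fixS V N₀)) (A.subgroupOf C) ⊔ fixS (↥(fixS V N₀)) (A.subgroupOf C)).map (fixS V N₀).subtype := by
        rw [AddSubgroup.map_sup]
        refine sup_le (le_trans ?_ le_sup_left) (le_trans ?_ le_sup_right)
        · rw [AddSubgroup.closure_le]
          rintro _ ⟨a, ha, w, hw, rfl⟩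
          exact ⟨_, mem_comS (W := ↥(fixS V N₀)) (x := (⟨a, hAC ha⟩ : C)) (Subgroup.mem_subgroupOf.mpr ha) ⟨w, hw⟩, rfl⟩
        · intro v hv
          exact ⟨⟨v, hAW hv⟩, fun b hb => Subtype.ext (hv b.1 (Subgroup.mem_subgroupOf.mp hb)), rfl⟩
      obtain ⟨w', hw', hww⟩ := h2 (hBJ h1)
      have h3 : w' = w := Subtype.ext hww
      rw [← h3]
      exact hw')
    (by
      intro g hg w
      rw [hmemN] at hg
      exact Subtype.ext (w.2 g.1 hg))
  intro a ha
  have h1 := hcore ⟨a, hAC ha⟩ (Subgroup.mem_subgroupOf.mpr ha)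
  rw [cj_eq_iff_norm] at h1 ⊢
  have ha' : a ∈ C := hAC ha
  intro x
  constructor
  · intro hx
    exact Subgroup.mem_subgroupOf.mp ((h1 ⟨x, hKC hx⟩).mp (Subgroup.mem_subgroupOf.mpr hx))
  · intro hx
    have hxC : x ∈ C := by
      have h3 := hKC hx
      have h4 : x = a⁻¹ * (a * x * a⁻¹) * a := by group
      rw [h4]
      exact C.mul_mem (C.mul_mem (C.inv_mem ha') h3) ha'
    exact Subgroup.mem_subgroupOf.mp ((h1 ⟨x, hxC⟩).mpr (Subgroup.mem_subgroupOf.mpr hx))

end Cfsg.Agent.H19.PGV
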