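import Cfsg.Agent.H19.PGV1
import Cfsg.Agent.H10.Comp

set_option autoImplicit false
set_option linter.style.haveILetI false

/-! P(G,V)-theorem, part 2: normal-closure lemmas for components acting on a module. -/

namespace Cfsg.Agent.H19.PGV

open Cfsg Cfsg.Agent.H10

variable {H W : Type*} [Group H] [AddCommGroup W] [DistribMulAction H W]

theorem comp_dich {K : Subgroup H} (hK : IsComponent K) {D : Subgroup H} (hD : D ≤ K)
    (hn : ∀ x ∈ K, ∀ d ∈ D, x * d * x⁻¹ ∈ D) : D = K ∨ ∀ d ∈ D, ∀ x ∈ K, x * d = d * x := by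
  have hN : (D.subgroupOf K).Normal := ⟨fun d hd x => by
    rw [Subgroup.mem_subgroupOf] at hd ⊢
    exact hn x.1 x.2 d.1 hd⟩
  rcases qs_normal_eq_top_or_le_center hK.2 hN with h | h
  · left
    rw [Subgroup.subgroupOf_eq_top] at h
    exact le_antisymm hD h
  · right
    intro d hd x hx
    have h1 : (⟨d, hD hd⟩ : K) ∈ Subgroup.center K := h (Subgroup.mem_subgroupOf.mpr hd)
    have h2 := Subgroup.mem_center_iff.mp h1 ⟨x, hx⟩
    exact congrArg Subtype.val h2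

/-- a predicate true on commutators, closed under multiplication and inverses, holds on a perfect subgroup -/
theorem perf_le {K D : Subgroup H} (hK : ⁅K, K⁆ = K) (h : ∀ x ∈ K, ∀ y ∈ K, x * y * x⁻¹ * y⁻¹ ∈ D) : K ≤ D := by
  rw [← hK, Subgroup.commutator_le]
  intro x hx y hy
  exact h x hx y hy

theorem NC1 {K : Subgroup H} (hK : IsComponent K) {n : H} (hn : ∀ x ∈ K, n * x * n⁻¹ ∈ K)
    (hnc : ∃ x ∈ K, n * x ≠ x * n) {D : Subgroup H} (hDK : D ≤ K)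
    (hD : ∀ x ∈ K, ∀ d ∈ D, x * d * x⁻¹ ∈ D) (h : ∀ x ∈ K, x * n * x⁻¹ * n⁻¹ ∈ D) : D = K := by
  rcases comp_dich hK hDK hD with h1 | h1
  · exact h1
  · exfalso
    obtain ⟨x₀, hx₀, hne⟩ := hnc
    have hle : K ≤ Subgroup.centralizer {n} := by
      refine perf_le (comp_commutator_self hK) ?_
      intro x hx y hy
      rw [Subgroup.mem_centralizer_singleton_iff]
      -- n x n⁻¹ = c⁻¹ x with c = x n x⁻¹ n⁻¹
      have hc := h x hx
      have hd := h y hy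
      set c := x * n * x⁻¹ * n⁻¹ with hcdef
      set d := y * n * y⁻¹ * n⁻¹ with hddef
      have e1 : n * x * n⁻¹ = c⁻¹ * x := by rw [hcdef]; group
      have e2 : n * y * n⁻¹ = d⁻¹ * y := by rw [hddef]; group
      have hcy : ∀ z ∈ K, Commute z c := fun z hz => h1 c hc z hz
      have hdy : ∀ z ∈ K, Commute z d := fun z hz => h1 d hd z hz
      have e3 : n * (x * y * x⁻¹ * y⁻¹) * n⁻¹ = x * y * x⁻¹ * y⁻¹ := by
        calc n * (x * y * x⁻¹ * y⁻¹) * n⁻¹ = (n * x * n⁻¹) * (n * y * n⁻¹) * (n * x * n⁻¹)⁻¹ * (n * y * n⁻¹)⁻¹ := by group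
          _ = (c⁻¹ * x) * (d⁻¹ * y) * (c⁻¹ * x)⁻¹ * (d⁻¹ * y)⁻¹ := by rw [e1, e2]
          _ = c⁻¹ * (x * d⁻¹) * (y * x⁻¹) * c * y⁻¹ * d := by group
          _ = c⁻¹ * (d⁻¹ * x) * (c * (y * x⁻¹)) * y⁻¹ * d := by
            rw [((hdy x hx).inv_right).eq, mul_assoc (c⁻¹ * (d⁻¹ * x)) (y * x⁻¹) c,
              (hcy (y * x⁻¹) (K.mul_mem hy (K.inv_mem hx))).eq]
          _ = c⁻¹ * d⁻¹ * (x * c) * y * x⁻¹ * y⁻¹ * d := by group
          _ = c⁻¹ * d⁻¹ * (c * x) * y * x⁻¹ * y⁻¹ * d := by rw [(hcy x hx).eq]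
          _ = c⁻¹ * d⁻¹ * c * ((x * y * x⁻¹ * y⁻¹) * d) := by group
          _ = c⁻¹ * d⁻¹ * c * (d * (x * y * x⁻¹ * y⁻¹)) := by
            rw [(hdy (x * y * x⁻¹ * y⁻¹) (K.mul_mem (K.mul_mem (K.mul_mem hx hy) (K.inv_mem hx)) (K.inv_mem hy))).eq]
          _ = c⁻¹ * (d⁻¹ * c) * d * (x * y * x⁻¹ * y⁻¹) := by group
          _ = c⁻¹ * (c * d⁻¹) * d * (x * y * x⁻¹ * y⁻¹) := by
            rw [(hcy (d⁻¹) (K.inv_mem (hDK hd))).eq]
          _ = x * y * x⁻¹ * y⁻¹ := by group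
      have e4 : n * (x * y * x⁻¹ * y⁻¹) = (x * y * x⁻¹ * y⁻¹) * n := by
        rw [mul_inv_eq_iff_eq_mul] at e3
        exact e3
      exact e4.symm
    have := hle hx₀
    rw [Subgroup.mem_centralizer_singleton_iff] at this
    exact hne this.symm

/-- the subgroup of `K` fixing a set pointwise -/
def fixer (K : Subgroup H) (P : W → Prop) : Subgroup H where
  carrier := {d | d ∈ K ∧ ∀ u, P u → d • u = u}
  mul_mem' := by
    rintro a b ⟨ha, ha'⟩ ⟨hb, hb'⟩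
    exact ⟨K.mul_mem ha hb, fun u hu => by rw [mul_smul, hb' u hu, ha' u hu]⟩
  one_mem' := ⟨K.one_mem, fun u _ => one_smul H u⟩
  inv_mem' := by
    rintro a ⟨ha, ha'⟩
    exact ⟨K.inv_mem ha, fun u hu => by rw [inv_smul_eq_iff, ha' u hu]⟩

theorem mem_fixer {K : Subgroup H} {P : W → Prop} {d : H} : d ∈ fixer K P ↔ d ∈ K ∧ ∀ u, P u → d • u = u := Iff.rfl

theorem NC2 {K : Subgroup H} (hK : IsComponent K) {n : H} (hn : ∀ x ∈ K, n * x * n⁻¹ ∈ K)
    (hnc : ∃ x ∈ K, n * x ≠ x * n) {P : W → Prop} (hP : ∀ x ∈ K, ∀ u, P u → P (x • u))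
    (h : ∀ x ∈ K, ∀ u, P u → (x * n * x⁻¹ * n⁻¹) • u = u) : ∀ x ∈ K, ∀ u, P u → x • u = u := by
  have h1 : fixer K P = K := by
    refine NC1 hK hn hnc (fun d hd => hd.1) ?_ ?_
    · rintro x hx d ⟨hd, hd'⟩
      refine ⟨K.mul_mem (K.mul_mem hx hd) (K.inv_mem hx), fun u hu => ?_⟩
      rw [mul_smul, mul_smul, hd' _ (hP x⁻¹ (K.inv_mem hx) u hu), smul_inv_smul]
    · intro x hx
      refine ⟨?_, h x hx⟩
      have : x * n * x⁻¹ * n⁻¹ = x * (n * x⁻¹ * n⁻¹) := by group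
      rw [this]
      exact K.mul_mem hx (hn _ (K.inv_mem hx))
  intro x hx u hu
  rw [← h1] at hx
  exact hx.2 u hu

theorem NC3 {K : Subgroup H} (hK : IsComponent K) {n : H} (hn : ∀ x ∈ K, n * x * n⁻¹ ∈ K)
    (hnc : ∃ x ∈ K, n * x ≠ x * n) {P : W → Prop} (hP : ∀ x ∈ K, ∀ u, P u → P (x • u))
    (h : ∀ u, P u → n • u = u) : ∀ x ∈ K, ∀ u, P u → x • u = u := by
  refine NC2 hK hn hnc hP ?_
  intro x hx u hu
  have h1 : n⁻¹ • u = u := smul_inv_of_fix (h u hu)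
  rw [mul_smul, mul_smul, mul_smul, h1, h _ (hP x⁻¹ (K.inv_mem hx) u hu), smul_inv_smul]

theorem NC2' {K : Subgroup H} (hK : IsComponent K) {n : H} (hn : ∀ x ∈ K, n * x * n⁻¹ ∈ K)
    (hnc : ∃ x ∈ K, n * x ≠ x * n) {P : W → Prop} (hP : ∀ x ∈ K, ∀ u, P u → P (x • u))
    (hPn : ∀ u, P u → P (n⁻¹ • u)) {U : AddSubgroup W} (hU : ∀ x ∈ K, ∀ u ∈ U, x • u ∈ U)
    (h : ∀ u, P u → n • u - u ∈ U) : ∀ x ∈ K, ∀ u, P u → x • u - u ∈ U := by
  let D : Subgroup H :=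
    { carrier := {d | d ∈ K ∧ ∀ u, P u → d • u - u ∈ U}
      mul_mem' := by
        rintro a b ⟨ha, ha'⟩ ⟨hb, hb'⟩
        refine ⟨K.mul_mem ha hb, fun u hu => ?_⟩
        have : (a * b) • u - u = (a • (b • u) - b • u) + (b • u - u) := by rw [mul_smul]; abel
        rw [this]
        exact U.add_mem (ha' _ (hP b hb u hu)) (hb' u hu)
      one_mem' := ⟨K.one_mem, fun u _ => by rw [one_smul, sub_self]; exact U.zero_mem⟩
      inv_mem' := by
        rintro a ⟨ha, ha'⟩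
        refine ⟨K.inv_mem ha, fun u hu => ?_⟩
        have : a⁻¹ • u - u = -(a • (a⁻¹ • u) - a⁻¹ • u) := by rw [smul_inv_smul]; abel
        rw [this]
        exact U.neg_mem (ha' _ (hP _ (K.inv_mem ha) u hu)) }
  have h1 : D = K := by
    refine NC1 hK hn hnc (fun d hd => hd.1) ?_ ?_
    · rintro x hx d ⟨hd, hd'⟩
      refine ⟨K.mul_mem (K.mul_mem hx hd) (K.inv_mem hx), fun u hu => ?_⟩
      have : (x * d * x⁻¹) • u - u = x • (d • (x⁻¹ • u) - x⁻¹ • u) := by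
        rw [mul_smul, mul_smul, smul_sub, smul_inv_smul]
      rw [this]
      exact hU x hx _ (hd' _ (hP _ (K.inv_mem hx) u hu))
    · intro x hx
      refine ⟨?_, fun u hu => ?_⟩
      · have : x * n * x⁻¹ * n⁻¹ = x * (n * x⁻¹ * n⁻¹) := by group
        rw [this]
        exact K.mul_mem hx (hn _ (K.inv_mem hx))
      · have hu' := hPn u hu
        have : (x * n * x⁻¹ * n⁻¹) • u - u =
            x • (n • (x⁻¹ • (n⁻¹ • u)) - x⁻¹ • (n⁻¹ • u)) - (n • (n⁻¹ • u) - n⁻¹ • u) := by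
          rw [mul_smul, mul_smul, mul_smul, smul_sub, smul_inv_smul, smul_inv_smul]
          abel
        rw [this]
        exact U.sub_mem (hU x hx _ (h _ (hP _ (K.inv_mem hx) _ hu'))) (h _ hu')
  intro x hx u hu
  rw [← h1] at hx
  exact hx.2 u hu

/-- a perfect group acting commutatively acts trivially -/
theorem commAct {K : Subgroup H} (hK : ⁅K, K⁆ = K) {P : W → Prop}
    (h : ∀ x ∈ K, ∀ y ∈ K, ∀ u, P u → x • y • u = y • x • u) : ∀ x ∈ K, ∀ u, P u → x • u = u := by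
  have h1 : K ≤ fixer K P := by
    refine perf_le hK ?_
    intro x hx y hy
    refine ⟨K.mul_mem (K.mul_mem (K.mul_mem hx hy) (K.inv_mem hx)) (K.inv_mem hy), fun u hu => ?_⟩
    rw [mul_smul, mul_smul, mul_smul, h _ (K.inv_mem hx) _ (K.inv_mem hy) u hu, smul_inv_smul, smul_inv_smul]
  intro x hx u hu
  exact (h1 hx).2 u hu

/-- a perfect group acting quadratically acts trivially -/
theorem quadAct {K : Subgroup H} (hK : ⁅K, K⁆ = K) {P : W → Prop}
    (h : ∀ x ∈ K, ∀ y ∈ K, ∀ u, P u → x • (y • u - u) = y • u - u) : ∀ x ∈ K, ∀ u, P u → x • u = u := by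
  refine commAct hK ?_
  intro x hx y hy u hu
  have h1 := h x hx y hy u hu
  have h2 := h y hy x hx u hu
  rw [smul_sub] at h1 h2
  have e1 : x • y • u = (y • u - u) + x • u := by rw [← h1]; abel
  have e2 : y • x • u = (x • u - u) + y • u := by rw [← h2]; abel
  rw [e1, e2]; abel

end Cfsg.Agent.H19.PGV
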