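import Cfsg.Agent.H19.PGV2

set_option autoImplicit false
set_option linter.style.haveILetI false
set_option linter.unusedVariables false

/-! P(G,V)-theorem, part 3: conjugate components and the diagonal map. -/

namespace Cfsg.Agent.H19.PGV

open Cfsg Cfsg.Agent.H10

variable {H W : Type*} [Group H] [AddCommGroup W] [DistribMulAction H W]

/-- the conjugate subgroup `a K a⁻¹` -/
abbrev cj (a : H) (K : Subgroup H) : Subgroup H := K.map (MulAut.conj a).toMonoidHom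

theorem mem_cj {a : H} {K : Subgroup H} {y : H} : y ∈ cj a K ↔ ∃ x ∈ K, a * x * a⁻¹ = y := by
  rw [Subgroup.mem_map]
  rfl

theorem cj_mem (a : H) {K : Subgroup H} {x : H} (hx : x ∈ K) : a * x * a⁻¹ ∈ cj a K :=
  mem_cj.mpr ⟨x, hx, rfl⟩

theorem mem_cj' {a : H} {K : Subgroup H} {y : H} : y ∈ cj a K ↔ a⁻¹ * y * a ∈ K := by
  rw [mem_cj]
  constructor
  · rintro ⟨x, hx, rfl⟩
    have : a⁻¹ * (a * x * a⁻¹) * a = x := by group
    rwa [this]
  · intro h
    exact ⟨_, h, by group⟩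

theorem cj_cj (a b : H) (K : Subgroup H) : cj a (cj b K) = cj (a * b) K := by
  ext y
  rw [mem_cj', mem_cj', mem_cj']
  have : b⁻¹ * (a⁻¹ * y * a) * b = (a * b)⁻¹ * y * (a * b) := by group
  rw [this]

theorem cj_one (K : Subgroup H) : cj 1 K = K := by
  ext y
  rw [mem_cj']
  simp

theorem comp_cj {K : Subgroup H} (hK : IsComponent K) (a : H) : IsComponent (cj a K) :=
  component_map_equiv (MulAut.conj a) hK

theorem cj_eq_iff_norm {K : Subgroup H} {a : H} : cj a K = K ↔ (∀ x, x ∈ K ↔ a * x * a⁻¹ ∈ K) := by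
  constructor
  · intro h x
    constructor
    · intro hx
      have := cj_mem a hx
      rwa [h] at this
    · intro hx
      rw [← h, mem_cj'] at hx
      have e : a⁻¹ * (a * x * a⁻¹) * a = x := by group
      rwa [e] at hx
  · intro h
    ext y
    rw [mem_cj', h]
    have e : a * (a⁻¹ * y * a) * a⁻¹ = y := by group
    rw [e]

theorem cj_comm {K L : Subgroup H} (hK : IsComponent K) (hL : IsComponent L) (h : K ≠ L) :
    ∀ x ∈ K, ∀ y ∈ L, x * y = y * x := by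
  intro x hx y hy
  have h1 := comp_commutes hK hL h
  rw [Subgroup.commutator_eq_bot_iff_le_centralizer] at h1
  exact (Subgroup.mem_centralizer_iff.mp (h1 hx) y hy).symm

theorem cj_pow_eq {K : Subgroup H} {b : H} (h : cj b K = K) (j : ℕ) : cj (b ^ j) K = K := by
  induction j with
  | zero => rw [pow_zero, cj_one]
  | succ j ih => rw [pow_succ, ← cj_cj, h, ih]

theorem cj_pow_ne {p : ℕ} (hp : p.Prime) {K : Subgroup H} {a : H} (ha : a ^ p = 1) (hne : cj a K ≠ K) :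
    ∀ i, 0 < i → i < p → cj (a ^ i) K ≠ K := by
  intro i hi0 hip h
  apply hne
  have hcop : Nat.Coprime i p := by
    rw [Nat.coprime_comm, Nat.Prime.coprime_iff_not_dvd hp]
    exact Nat.not_dvd_of_pos_of_lt hi0 hip
  obtain ⟨m, -, hm⟩ := Nat.exists_mul_mod_eq_one_of_coprime hcop hp.one_lt
  have h1 : cj ((a ^ i) ^ m) K = K := cj_pow_eq h m
  have h2 : (a ^ i) ^ m = a := by
    rw [← pow_mul]
    have h3 := Nat.div_add_mod (i * m) p
    rw [hm] at h3
    rw [← h3, pow_add, pow_mul, ha, one_pow, one_mul, pow_one]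
  rwa [h2] at h1

/-- partial products -/
def PP (a : H) (k : ℕ) (x : H) : H := (x * a) ^ k * (a ^ k)⁻¹

theorem PP_zero (a x : H) : PP a 0 x = 1 := by simp [PP]

theorem PP_succ (a x : H) (k : ℕ) : PP a (k + 1) x = PP a k x * (a ^ k * x * (a ^ k)⁻¹) := by
  unfold PP
  rw [pow_succ (x * a), pow_succ a]
  group

section Delta

variable {K : Subgroup H} {a : H} {p : ℕ}

theorem conj_comm_of_lt (hc : ∀ i, 0 < i → i < p → ∀ x ∈ K, ∀ y ∈ K, Commute x (a ^ i * y * (a ^ i)⁻¹))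
    {j k : ℕ} (hjk : j < k) (hk : k < p) {x y : H} (hx : x ∈ K) (hy : y ∈ K) :
    Commute (a ^ j * x * (a ^ j)⁻¹) (a ^ k * y * (a ^ k)⁻¹) := by
  have h1 := hc (k - j) (by omega) (by omega) x hx y hy
  have h2 : a ^ k = a ^ j * a ^ (k - j) := by rw [← pow_add]; congr 1; omega
  have h3 := h1.map (MulAut.conj (a ^ j)).toMonoidHom
  simp only [MulEquiv.toMonoidHom_eq_coe, MonoidHom.coe_coe, MulAut.conj_apply] at h3
  rw [h2]
  convert h3 using 1
  group

theorem PP_comm (hc : ∀ i, 0 < i → i < p → ∀ x ∈ K, ∀ y ∈ K, Commute x (a ^ i * y * (a ^ i)⁻¹))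
    {k : ℕ} (hk : k < p) {x y : H} (hx : x ∈ K) (hy : y ∈ K) {j : ℕ} (hj : j ≤ k) :
    Commute (PP a j x) (a ^ k * y * (a ^ k)⁻¹) := by
  induction j with
  | zero => rw [PP_zero]; exact Commute.one_left _
  | succ j ih =>
    rw [PP_succ]
    exact (ih (by omega)).mul_left (conj_comm_of_lt hc (by omega) hk hx hy)

theorem PP_mul (hc : ∀ i, 0 < i → i < p → ∀ x ∈ K, ∀ y ∈ K, Commute x (a ^ i * y * (a ^ i)⁻¹))
    {x y : H} (hx : x ∈ K) (hy : y ∈ K) {k : ℕ} (hk : k ≤ p) : PP a k (x * y) = PP a k x * PP a k y := by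
  induction k with
  | zero => simp [PP_zero]
  | succ k ih =>
    rw [PP_succ, PP_succ, PP_succ, ih (by omega)]
    have h1 := PP_comm hc (show k < p by omega) hy hx (le_refl k)
    calc PP a k x * PP a k y * (a ^ k * (x * y) * (a ^ k)⁻¹)
        = PP a k x * (PP a k y * (a ^ k * x * (a ^ k)⁻¹)) * (a ^ k * y * (a ^ k)⁻¹) := by group
      _ = PP a k x * ((a ^ k * x * (a ^ k)⁻¹) * PP a k y) * (a ^ k * y * (a ^ k)⁻¹) := by rw [h1.eq]
      _ = _ := by group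

theorem PP_split (hc : ∀ i, 0 < i → i < p → ∀ x ∈ K, ∀ y ∈ K, Commute x (a ^ i * y * (a ^ i)⁻¹))
    {x y : H} (hx : x ∈ K) (hy : y ∈ K) {k : ℕ} (h1 : 1 ≤ k) (hk : k ≤ p) : Commute x (y⁻¹ * PP a k y) := by
  induction k with
  | zero => omega
  | succ k ih =>
    rcases Nat.eq_zero_or_pos k with rfl | hk0
    · rw [PP_succ, PP_zero]
      simp
    · rw [PP_succ, ← mul_assoc]
      exact (ih hk0 (by omega)).mul_right (hc k hk0 (by omega) x hx y hy)

/-- the diagonal map -/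
def Dl (a : H) (p : ℕ) (x : H) : H := (x * a) ^ p

theorem Dl_eq_PP (ha : a ^ p = 1) (x : H) : Dl a p x = PP a p x := by
  unfold Dl PP
  rw [ha]; simp

theorem Dl_mul (ha : a ^ p = 1) (hc : ∀ i, 0 < i → i < p → ∀ x ∈ K, ∀ y ∈ K, Commute x (a ^ i * y * (a ^ i)⁻¹))
    {x y : H} (hx : x ∈ K) (hy : y ∈ K) : Dl a p (x * y) = Dl a p x * Dl a p y := by
  rw [Dl_eq_PP ha, Dl_eq_PP ha, Dl_eq_PP ha, PP_mul hc hx hy le_rfl]

theorem Dl_one (ha : a ^ p = 1) : Dl a p (1 : H) = 1 := by unfold Dl; rw [one_mul, ha]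

theorem Dl_inv (ha : a ^ p = 1) (hc : ∀ i, 0 < i → i < p → ∀ x ∈ K, ∀ y ∈ K, Commute x (a ^ i * y * (a ^ i)⁻¹))
    {x : H} (hx : x ∈ K) : Dl a p x⁻¹ = (Dl a p x)⁻¹ := by
  rw [eq_inv_iff_mul_eq_one, ← Dl_mul ha hc (K.inv_mem hx) hx, inv_mul_cancel, Dl_one ha]

theorem Dl_split (hp : 1 ≤ p) (ha : a ^ p = 1) (hc : ∀ i, 0 < i → i < p → ∀ x ∈ K, ∀ y ∈ K, Commute x (a ^ i * y * (a ^ i)⁻¹))
    {x y : H} (hx : x ∈ K) (hy : y ∈ K) : Commute x (y⁻¹ * Dl a p y) := by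
  rw [Dl_eq_PP ha]
  exact PP_split hc hx hy hp le_rfl

theorem Dl_comm_self (hp : 1 ≤ p) (ha : a ^ p = 1) (hc : ∀ i, 0 < i → i < p → ∀ x ∈ K, ∀ y ∈ K, Commute x (a ^ i * y * (a ^ i)⁻¹))
    {y : H} (hy : y ∈ K) : Commute y (Dl a p y) := by
  have h1 := Dl_split hp ha hc hy hy
  have h2 : Dl a p y = y * (y⁻¹ * Dl a p y) := by group
  rw [h2]
  exact (Commute.refl y).mul_right h1

theorem Dl_comm_a (hp : 1 ≤ p) (ha : a ^ p = 1) (hc : ∀ i, 0 < i → i < p → ∀ x ∈ K, ∀ y ∈ K, Commute x (a ^ i * y * (a ^ i)⁻¹))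
    {y : H} (hy : y ∈ K) : Commute a (Dl a p y) := by
  have h1 := Dl_comm_self hp ha hc hy
  have h2 : Commute (y * a) (Dl a p y) := (Commute.refl (y * a)).pow_right p
  have h3 : a = y⁻¹ * (y * a) := by group
  rw [h3]
  have h4 := (h1.inv_left).mul_left h2
  rw [← h3]
  rw [← h3] at h4
  exact h4

theorem Dl_conj {n : H} (hna : Commute n a) (x : H) : Dl a p (n * x * n⁻¹) = n * Dl a p x * n⁻¹ := by
  unfold Dl
  have : n * x * n⁻¹ * a = n * (x * a) * n⁻¹ := by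
    have h : n⁻¹ * a = a * n⁻¹ := hna.inv_left.eq
    rw [mul_assoc, h]; group
  rw [this, conj_pow]

theorem Dl_two (ha : a ^ 2 = 1) (x : H) : Dl a 2 x = x * (a * x * a⁻¹) := by
  unfold Dl
  have h1 : a⁻¹ = a := by
    rw [inv_eq_iff_mul_eq_one, ← pow_two, ha]
  rw [pow_two, h1]; group

end Delta

/-- (A0) -/
theorem A0 {p : ℕ} {K : Subgroup H} (hK : IsComponent K) {a : H} (hp : 1 ≤ p) (ha : a ^ p = 1)
    (hc : ∀ i, 0 < i → i < p → ∀ x ∈ K, ∀ y ∈ K, Commute x (a ^ i * y * (a ^ i)⁻¹))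
    {n : H} (hn : ∀ x ∈ K, n * x * n⁻¹ ∈ K) (hnc : ∃ x ∈ K, n * x ≠ x * n) (hna : Commute n a)
    (hfix : ∀ w : W, n • (a • w - w) = a • w - w) : ∀ x ∈ K, ∀ w : W, Dl a p x • (a • w - w) = a • w - w := by
  have key : ∀ x ∈ K, ∀ w : W, Dl a p x • (a • w - w) = a • (Dl a p x • w) - Dl a p x • w := by
    intro x hx w
    rw [smul_sub, ← mul_smul, ← mul_smul, (Dl_comm_a hp ha hc hx).eq]
  let D : Subgroup H :=
    { carrier := {d | d ∈ K ∧ ∀ w : W, Dl a p d • (a • w - w) = a • w - w}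
      mul_mem' := by
        rintro x y ⟨hx, hx'⟩ ⟨hy, hy'⟩
        exact ⟨K.mul_mem hx hy, fun w => by rw [Dl_mul ha hc hx hy, mul_smul, hy' w, hx' w]⟩
      one_mem' := ⟨K.one_mem, fun w => by rw [Dl_one ha, one_smul]⟩
      inv_mem' := by
        rintro x ⟨hx, hx'⟩
        exact ⟨K.inv_mem hx, fun w => by rw [Dl_inv ha hc hx, inv_smul_eq_iff, hx' w]⟩ }
  have h1 : D = K := by
    refine NC1 hK hn hnc (fun d hd => hd.1) ?_ ?_
    · rintro x hx d ⟨hd, hd'⟩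
      refine ⟨K.mul_mem (K.mul_mem hx hd) (K.inv_mem hx), fun w => ?_⟩
      rw [Dl_mul ha hc (K.mul_mem hx hd) (K.inv_mem hx), Dl_mul ha hc hx hd, mul_smul, mul_smul,
        key x⁻¹ (K.inv_mem hx), hd', ← key x⁻¹ (K.inv_mem hx), Dl_inv ha hc hx, smul_inv_smul]
    · intro x hx
      have e : x * n * x⁻¹ * n⁻¹ = x * (n * x⁻¹ * n⁻¹) := by group
      refine ⟨?_, fun w => ?_⟩
      · rw [e]
        exact K.mul_mem hx (hn _ (K.inv_mem hx))
      · rw [e, Dl_mul ha hc hx (hn _ (K.inv_mem hx)), Dl_conj hna, mul_smul, mul_smul, mul_smul,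
          smul_inv_of_fix (hfix w), key x⁻¹ (K.inv_mem hx), hfix, ← key x⁻¹ (K.inv_mem hx), Dl_inv ha hc hx, smul_inv_smul]
  intro x hx w
  rw [← h1] at hx
  exact hx.2 w

/-- swapping commuting fixers: if `g` fixes `[W,h]` and `g, h` commute then `h` fixes `[W,g]` -/
theorem swap_fix {g h : H} (hgh : Commute g h) (hf : ∀ w : W, g • (h • w - w) = h • w - w) (w : W) :
    h • (g • w - w) = g • w - w := by
  have h1 := hf w
  rw [smul_sub, ← mul_smul, hgh.eq, mul_smul] at h1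
  rw [smul_sub]
  have : h • g • w = (h • w - w) + g • w := by rw [← h1]; abel
  rw [this]; abel

end Cfsg.Agent.H19.PGV
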