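import Cfsg.Agent.H19.PGV3

set_option autoImplicit false
set_option linter.style.haveILetI false
set_option linter.unusedVariables false

/-! P(G,V)-theorem, part 4: the case of odd `p`. -/

namespace Cfsg.Agent.H19.PGV

open Cfsg Cfsg.Agent.H10

variable {H W : Type*} [Group H] [AddCommGroup W] [DistribMulAction H W]

theorem P1 {p : ℕ} (hp2 : Nat.Coprime 2 p) (hpW : ∀ w : W, p • w = 0) {K : Subgroup H} (hK : IsComponent K) {b : H}
    (hb : ∀ w : W, b • (b • w - w) = b • w - w) (hne : cj b K ≠ K) {e : H} (he : e ∈ K) {m : ℕ}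
    (hm : m.Coprime p) (hem : e ^ m = 1) (w : W) : (b * e * b⁻¹) • w = e • w := by
  let R : H →* AddMonoid.End W := DistribMulAction.toAddMonoidEnd H W
  have hR : ∀ (g : H) (w : W), R g w = g • w := fun g w => rfl
  obtain ⟨β, hβ⟩ : ∃ β : AddMonoid.End W, R b = 1 + β := ⟨R b - 1, by abel⟩
  have hβ2 : β * β = 0 := by
    have h1 : (R b - 1) * (R b - 1) = 0 := by
      ext w
      have : ((R b - 1) * (R b - 1)) w = b • (b • w - w) - (b • w - w) := rfl
      rw [this, hb w, sub_self]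
      rfl
    rw [hβ] at h1
    simpa using h1
  have hbi : R b⁻¹ = 1 - β := by
    have h1 : R b * R b⁻¹ = 1 := by rw [← map_mul, mul_inv_cancel, map_one]
    have h2 : (1 - β) * (1 + β) = 1 := by
      have : (1 - β) * (1 + β) = 1 - β * β := by noncomm_ring
      rw [this, hβ2, sub_zero]
    calc R b⁻¹ = ((1 - β) * (1 + β)) * R b⁻¹ := by rw [h2, one_mul]
      _ = (1 - β) * (R b * R b⁻¹) := by rw [mul_assoc, ← hβ]
      _ = 1 - β := by rw [h1, mul_one]
  have hpE : ∀ x : AddMonoid.End W, p • x = 0 := by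
    intro x
    ext w
    exact hpW (x w)
  have hpr : cj b⁻¹ K ≠ K := by
    intro h
    apply hne
    conv_lhs => rw [← h]
    rw [cj_cj, mul_inv_cancel, cj_one]
  have c1 : Commute (R e) (R (b * e * b⁻¹)) := by
    have h := cj_comm hK (comp_cj hK b) hne.symm e he _ (cj_mem b he)
    exact (show Commute e (b * e * b⁻¹) from h).map R
  have c2 : Commute (R e) (R (b⁻¹ * e * b)) := by
    have h := cj_comm hK (comp_cj hK b⁻¹) hpr.symm e he _ (cj_mem b⁻¹ he)
    rw [inv_inv] at h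
    exact (show Commute e (b⁻¹ * e * b) from h).map R
  have e1 : R (b * e * b⁻¹) = (1 + β) * R e * (1 - β) := by rw [map_mul, map_mul, hβ, hbi]
  have e2 : R (b⁻¹ * e * b) = (1 - β) * R e * (1 + β) := by rw [map_mul, map_mul, hβ, hbi]
  generalize hE : R e = E at *
  have hD0 : Commute E ((1 + β) * E * (1 - β) - (1 - β) * E * (1 + β)) := by
    rw [← e1, ← e2]
    exact c1.sub_right c2
  have hD1 : (1 + β) * E * (1 - β) - (1 - β) * E * (1 + β) = 2 • (β * E - E * β) := by noncomm_ring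
  rw [hD1] at hD0
  have hD2 : 2 • (E * (β * E - E * β) - (β * E - E * β) * E) = 0 := by
    have h9 : 2 • (E * (β * E - E * β) - (β * E - E * β) * E) =
        E * (2 • (β * E - E * β)) - (2 • (β * E - E * β)) * E := by noncomm_ring
    rw [h9, hD0.eq, sub_self]
  have hD3 : E * (β * E - E * β) = (β * E - E * β) * E := sub_eq_zero.mp (cop_zero hp2 (hpE _) hD2)
  generalize hDD : β * E - E * β = D at *
  have hk : ∀ k : ℕ, E * (β * E ^ k - E ^ k * β) = k • (E ^ k * D) := by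
    intro k
    induction k with
    | zero => simp
    | succ k ih =>
      have h1 : β * E ^ (k + 1) - E ^ (k + 1) * β = (β * E ^ k - E ^ k * β) * E + E ^ k * D := by
        rw [pow_succ, ← hDD]; noncomm_ring
      rw [h1, mul_add, ← mul_assoc, ih, succ_nsmul, smul_mul_assoc, mul_assoc (E ^ k) D E, ← hD3, ← mul_assoc (E ^ k) E D,
        ← pow_succ, ← mul_assoc E, ← pow_succ']
  have hEm : E ^ m = 1 := by rw [← hE, ← map_pow, hem, map_one]
  have h5 := hk m
  rw [hEm] at h5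
  simp only [mul_one, one_mul, sub_self, mul_zero] at h5
  have h6 : D = 0 := cop_zero hm (hpE _) h5.symm
  rw [h6, sub_eq_zero] at hDD
  have h7 : R b * R e = R e * R b := by
    rw [hβ, hE, add_mul, mul_add, hDD, one_mul, mul_one]
  have h8 : R (b * e * b⁻¹) = R e := by
    rw [map_mul, map_mul, h7, mul_assoc, ← map_mul R b, mul_inv_cancel, map_one, mul_one]
  rw [← hR, ← hR, h8]

/-- the commutator `[W,K]` as an additive subgroup -/
def comS (W : Type*) [AddCommGroup W] [DistribMulAction H W] (K : Subgroup H) : AddSubgroup W :=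
  AddSubgroup.closure {u | ∃ x ∈ K, ∃ w : W, u = x • w - w}

theorem mem_comS {K : Subgroup H} {x : H} (hx : x ∈ K) (w : W) : x • w - w ∈ comS W K :=
  AddSubgroup.subset_closure ⟨x, hx, w, rfl⟩

theorem comS_le {K : Subgroup H} {U : AddSubgroup W} : comS W K ≤ U ↔ ∀ x ∈ K, ∀ w : W, x • w - w ∈ U := by
  unfold comS
  rw [AddSubgroup.closure_le]
  constructor
  · intro h x hx w
    exact h ⟨x, hx, w, rfl⟩
  · rintro h _ ⟨x, hx, w, rfl⟩
    exact h x hx w

/-- the preimage of an additive subgroup under the action of `g` -/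
def cm (g : H) (U : AddSubgroup W) : AddSubgroup W := U.comap (DistribSMul.toAddMonoidHom W g)

theorem mem_cm {g : H} {U : AddSubgroup W} {w : W} : w ∈ cm g U ↔ g • w ∈ U := Iff.rfl

theorem smul_comS {K : Subgroup H} {g : H} (hg : ∀ x ∈ K, g * x * g⁻¹ ∈ K) : ∀ u ∈ comS W K, g • u ∈ comS W K := by
  intro u hu
  have h1 : comS W K ≤ cm g (comS W K) := by
    rw [comS_le]
    intro x hx w
    rw [mem_cm]
    have : g • (x • w - w) = (g * x * g⁻¹) • (g • w) - g • w := by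
      rw [smul_sub, ← mul_smul, ← mul_smul, inv_mul_cancel_right]
    rw [this]
    exact mem_comS (hg x hx) _
  exact h1 hu

theorem smul_comS_of_comm {K : Subgroup H} {g : H} (hg : ∀ x ∈ K, x * g = g * x) : ∀ u ∈ comS W K, g • u ∈ comS W K :=
  smul_comS (fun x hx => by rw [← hg x hx, mul_inv_cancel_right]; exact hx)

theorem smul_fixS {K : Subgroup H} {g : H} (hg : ∀ x ∈ K, g⁻¹ * x * g ∈ K) : ∀ u ∈ fixS W K, g • u ∈ fixS W K := by
  intro u hu x hx
  have := hu _ (hg x hx)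
  rw [mul_smul, mul_smul, inv_smul_eq_iff] at this
  exact this

/-- the final contradiction: `n` maps `[W,K]` into the fixed points of `K` -/
theorem finish {K : Subgroup H} (hK : IsComponent K) {n : H} (hn : ∀ x ∈ K, n * x * n⁻¹ ∈ K)
    (hn' : ∀ x ∈ K, n⁻¹ * x * n ∈ K) (hnc : ∃ x ∈ K, n * x ≠ x * n)
    (h : ∀ u ∈ comS W K, n • u - u ∈ fixS W K) : ∀ x ∈ K, ∀ w : W, x • w = w := by
  have hKK : ∀ x ∈ K, ∀ y ∈ K, x * y * x⁻¹ ∈ K := fun x hx y hy => K.mul_mem (K.mul_mem hx hy) (K.inv_mem hx)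
  have hKK' : ∀ x ∈ K, ∀ y ∈ K, x⁻¹ * y * x ∈ K := fun x hx y hy => K.mul_mem (K.mul_mem (K.inv_mem hx) hy) hx
  have h1 : ∀ x ∈ K, ∀ u, u ∈ comS W K → x • u - u ∈ fixS W K :=
    NC2' hK hn hnc (P := fun u => u ∈ comS W K) (fun x hx u hu => smul_comS (hKK x hx) u hu)
      (fun u hu => smul_comS (fun x hx => by rw [inv_inv]; exact hn' x hx) u hu)
      (fun x hx u hu => smul_fixS (hKK' x hx) u hu) h
  have h2 : ∀ x ∈ K, ∀ u, u ∈ comS W K → x • u = u :=
    quadAct (comp_commutator_self hK) (P := fun u => u ∈ comS W K) (fun x hx y hy u hu => h1 y hy u hu x hx)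
  have h3 : ∀ x ∈ K, ∀ u : W, True → x • u = u :=
    quadAct (comp_commutator_self hK) (P := fun _ => True) (fun x hx y hy u _ => h2 x hx _ (mem_comS hy u))
  exact fun x hx w => h3 x hx w trivial

theorem P2 {p : ℕ} (hp : p.Prime) (hp3 : 3 ≤ p) {K : Subgroup H} (hK : IsComponent K) {a : H} (ha : a ^ p = 1)
    (hne : cj a K ≠ K)
    {n : H} (hn : ∀ x ∈ K, n * x * n⁻¹ ∈ K) (hn' : ∀ x ∈ K, n⁻¹ * x * n ∈ K)
    (hnc : ∃ x ∈ K, n * x ≠ x * n) (hna : Commute n a)
    (hfix : ∀ w : W, n • (a • w - w) = a • w - w) : ∀ x ∈ K, ∀ w : W, x • w = w := by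
  have hne2 : ∀ i, 0 < i → i < p → cj (a ^ i) K ≠ K := cj_pow_ne hp ha hne
  have hc : ∀ i, 0 < i → i < p → ∀ x ∈ K, ∀ y ∈ K, Commute x (a ^ i * y * (a ^ i)⁻¹) := by
    intro i hi0 hip x hx y hy
    exact cj_comm hK (comp_cj hK _) (hne2 i hi0 hip).symm x hx _ (cj_mem _ hy)
  have hA0 := A0 hK hp.one_lt.le ha hc hn hnc hna hfix
  have hA1 : ∀ x ∈ K, ∀ w : W, a • (Dl a p x • w - w) = Dl a p x • w - w := fun x hx =>
    swap_fix (Dl_comm_a hp.one_lt.le ha hc hx).symm (hA0 x hx)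
  obtain ⟨x₀, hx₀, hnx₀⟩ := hnc
  -- a noncentral element
  obtain ⟨y, hy, y', hy', hyy⟩ : ∃ y ∈ K, ∃ y' ∈ K, y * y' ≠ y' * y := by
    by_contra hcon
    push Not at hcon
    exact comp_not_comm hK ⟨⟨fun u v => Subtype.ext (hcon u.1 u.2 v.1 v.2)⟩⟩
  have hyD : ∀ x ∈ K, Dl a p y * x * (Dl a p y)⁻¹ = y * x * y⁻¹ := by
    intro x hx
    have h1 : Commute x (y⁻¹ * Dl a p y) := Dl_split hp.one_lt.le ha hc hx hy
    calc Dl a p y * x * (Dl a p y)⁻¹ = y * ((y⁻¹ * Dl a p y) * x) * (Dl a p y)⁻¹ := by group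
      _ = y * (x * (y⁻¹ * Dl a p y)) * (Dl a p y)⁻¹ := by rw [h1.eq]
      _ = y * x * y⁻¹ := by group
  have h1p : 1 < p := by omega
  have h2p : 2 < p := by omega
  -- action on `[W, Δ y]`
  have hk : ∀ k : H, Commute k (Dl a p y) → ∀ w : W,
      k • (Dl a p y • w - w) = Dl a p y • (k • w) - k • w := by
    intro k hk w
    rw [smul_sub, ← mul_smul, hk.eq, mul_smul]
  have hyc : Commute y (Dl a p y) := Dl_comm_self hp.one_lt.le ha hc hy
  have hz : ∀ w : W, ((a * y * a⁻¹) * (a ^ 2 * y⁻¹ * (a ^ 2)⁻¹)) • (Dl a p y • w - w) = Dl a p y • w - w := by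
    intro w
    have f1 : ∀ w : W, a • (Dl a p y • w - w) = Dl a p y • w - w := hA1 y hy
    have f2 : ∀ w : W, (a ^ 2) • (Dl a p y • w - w) = Dl a p y • w - w := fun w => by
      rw [pow_two, mul_smul, f1, f1]
    have e1 : (a ^ 2 * y⁻¹ * (a ^ 2)⁻¹) • (Dl a p y • w - w) = Dl a p y • (y⁻¹ • w) - y⁻¹ • w := by
      rw [mul_smul, mul_smul, smul_inv_of_fix (f2 w), hk y⁻¹ hyc.inv_left, f2]
    have e2 : ∀ w' : W, (a * y * a⁻¹) • (Dl a p y • w' - w') = Dl a p y • (y • w') - y • w' := by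
      intro w'
      rw [mul_smul, mul_smul, smul_inv_of_fix (f1 w'), hk y hyc, f1]
    rw [mul_smul, e1, e2, smul_inv_smul]
  set z := (a * y * a⁻¹) * (a ^ 2 * y⁻¹ * (a ^ 2)⁻¹) with hzdef
  have hzK : ∀ x ∈ K, Commute x z := by
    intro x hx
    have h1 := hc 1 (by omega) h1p x hx y hy
    rw [pow_one] at h1
    exact h1.mul_right (hc 2 (by omega) h2p x hx y⁻¹ (K.inv_mem hy))
  have hz1 : ∀ x ∈ K, ∀ u : W, True → x • u - u ∈ fixE W z := by
    refine NC2' hK (n := Dl a p y) (fun x hx => ?_) ⟨y', hy', ?_⟩ (P := fun _ => True) (fun _ _ _ _ => trivial)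
      (fun _ _ => trivial) (fun x hx u hu => ?_) (fun u _ => hz u)
    · rw [hyD x hx]
      exact K.mul_mem (K.mul_mem hy hx) (K.inv_mem hy)
    · intro h
      have h1 := hyD y' hy'
      rw [h, mul_inv_cancel_right] at h1
      apply hyy
      rw [eq_mul_inv_iff_mul_eq] at h1
      exact h1.symm
    · rw [mem_fixE] at hu ⊢
      rw [← mul_smul, ← (hzK x hx).eq, mul_smul, hu]
  have hz2 : ∀ u, u ∈ comS W K → z • u = u := by
    intro u hu
    have : comS W K ≤ fixE W z := comS_le.mpr (fun x hx w => hz1 x hx w trivial)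
    exact this hu
  have hc12 : ∀ k ∈ cj a K, Commute k (a ^ 2 * y⁻¹ * (a ^ 2)⁻¹) := by
    intro k hk
    obtain ⟨x, hx, rfl⟩ := mem_cj.mp hk
    have := conj_comm_of_lt hc (show 1 < 2 by omega) h2p hx (K.inv_mem hy)
    rwa [pow_one] at this
  have hzk : ∀ k ∈ cj a K, z * k * z⁻¹ = (a * y * a⁻¹) * k * (a * y * a⁻¹)⁻¹ := by
    intro k hk
    have := (hc12 k hk).eq
    calc z * k * z⁻¹ = (a * y * a⁻¹) * ((a ^ 2 * y⁻¹ * (a ^ 2)⁻¹) * k) * z⁻¹ := by rw [hzdef]; group
      _ = (a * y * a⁻¹) * (k * (a ^ 2 * y⁻¹ * (a ^ 2)⁻¹)) * z⁻¹ := by rw [this]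
      _ = _ := by rw [hzdef]; group
  have hR1 : ∀ k ∈ cj a K, ∀ u, u ∈ comS W K → k • u = u := by
    refine NC3 (comp_cj hK a) (n := z) (fun k hk => ?_) ⟨a * y' * a⁻¹, cj_mem a hy', ?_⟩ (P := fun u => u ∈ comS W K)
      (fun k hk u hu => ?_) hz2
    · rw [hzk k hk]
      have h := cj_mem a hy
      exact Subgroup.mul_mem _ (Subgroup.mul_mem _ h hk) (Subgroup.inv_mem _ h)
    · intro h
      have h1 := hzk _ (cj_mem a hy')
      rw [h, mul_inv_cancel_right] at h1
      apply hyy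
      have h2 : a * y' * a⁻¹ * (a * y * a⁻¹) = (a * y * a⁻¹) * (a * y' * a⁻¹) := by
        rw [eq_mul_inv_iff_mul_eq] at h1
        exact h1
      have h3 : a * (y * y') * a⁻¹ = a * (y' * y) * a⁻¹ := by
        calc a * (y * y') * a⁻¹ = (a * y * a⁻¹) * (a * y' * a⁻¹) := by group
          _ = a * y' * a⁻¹ * (a * y * a⁻¹) := h2.symm
          _ = _ := by group
      exact mul_left_cancel (mul_right_cancel h3)
    · exact smul_comS_of_comm (fun x hx => cj_comm hK (comp_cj hK a) hne.symm x hx k hk) u hu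
  refine finish hK hn hn' ⟨x₀, hx₀, hnx₀⟩ ?_
  intro u hu
  have h1 : n • u - u ∈ comS W K := AddSubgroup.sub_mem _ (smul_comS hn u hu) hu
  have h2 : a • (n • u - u) = n • u - u := swap_fix hna hfix u
  have h3 : comS W K ≤ cm a (fixS W K) := by
    rw [comS_le]
    intro x hx w k hk
    have h4 : ∀ w : W, (a * x * a⁻¹) • (k • w - w) = k • w - w := fun w => hR1 _ (cj_mem a hx) _ (mem_comS hk w)
    have h5 := swap_fix (show Commute (a * x * a⁻¹) k from (cj_comm hK (comp_cj hK a) hne.symm k hk _ (cj_mem a hx)).symm) h4 (a • w)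
    have h6 : a • (x • w - w) = (a * x * a⁻¹) • (a • w) - a • w := by
      rw [smul_sub, ← mul_smul, ← mul_smul, inv_mul_cancel_right]
    have h7 : (DistribSMul.toAddMonoidHom W a) (x • w - w) = a • (x • w - w) := rfl
    rw [h7, h6]
    exact h5
  rw [← h2]
  exact h3 h1

end Cfsg.Agent.H19.PGV
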