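import Cfsg.Agent.H19.PGV4

set_option autoImplicit false
set_option linter.style.haveILetI false
set_option linter.unusedVariables false

/-! P(G,V)-theorem, part 5: `p = 2`, at least four conjugate components. -/

namespace Cfsg.Agent.H19.PGV

open Cfsg Cfsg.Agent.H10

variable {H W : Type*} [Group H] [AddCommGroup W] [DistribMulAction H W]

theorem smul_com_fix {K : Subgroup H} (hK : IsComponent K) {a : H} (hne : cj a K ≠ K)
    (hR : ∀ k ∈ cj a K, ∀ x ∈ K, ∀ w : W, k • (x • w - w) = x • w - w) :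
    ∀ v ∈ comS W K, a • v ∈ fixS W K := by
  have h3 : comS W K ≤ cm a (fixS W K) := by
    rw [comS_le]
    intro x hx w k hk
    have h4 : ∀ w : W, (a * x * a⁻¹) • (k • w - w) = k • w - w := fun w => hR _ (cj_mem a hx) k hk w
    have h5 := swap_fix (show Commute (a * x * a⁻¹) k from (cj_comm hK (comp_cj hK a) hne.symm k hk _ (cj_mem a hx)).symm) h4 (a • w)
    have h6 : a • (x • w - w) = (a * x * a⁻¹) • (a • w) - a • w := by
      rw [smul_sub, ← mul_smul, ← mul_smul, inv_mul_cancel_right]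
    have h7 : (DistribSMul.toAddMonoidHom W a) (x • w - w) = a • (x • w - w) := rfl
    rw [h7, h6]
    exact h5
  exact fun v hv => h3 hv

theorem cj_two {a : H} (ha : a ^ 2 = 1) (K : Subgroup H) : cj a (cj a K) = K := by
  rw [cj_cj, ← pow_two, ha, cj_one]

theorem A7a {K : Subgroup H} (hK : IsComponent K) {a a' : H} (ha : a ^ 2 = 1) (haa : Commute a a')
    (hne : cj a K ≠ K) (hne' : cj a' K ≠ K) (hne2 : cj (a * a') K ≠ K)
    (hA : ∀ x ∈ K, ∀ w : W, (x * (a * x * a⁻¹)) • (a • w - w) = a • w - w) :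
    ∀ x ∈ K, ∀ k ∈ cj a' K, ∀ w : W, x • (k • w - w) = k • w - w := by
  have hai : a⁻¹ = a := by rw [inv_eq_iff_mul_eq_one, ← pow_two, ha]
  have hKa := comp_cj hK a
  have hKa' := comp_cj hK a'
  have hKaa := comp_cj hK (a * a')
  have hne3 : cj a K ≠ cj a' K := by
    intro h
    apply hne2
    rw [← cj_cj, ← h, cj_two ha]
  have hne4 : cj (a * a') K ≠ cj a' K := by
    intro h
    apply hne
    rw [haa.eq, ← cj_cj] at h
    exact Subgroup.map_injective (MulAut.conj a').injective h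
  have cxa : ∀ x ∈ K, Commute x (a * x * a⁻¹) := fun x hx => cj_comm hK hKa hne.symm x hx _ (cj_mem a hx)
  have ca : ∀ x ∈ K, Commute a (x * (a * x * a⁻¹)) := by
    intro x hx
    have h1 := (cxa x hx).eq
    have : a * (x * (a * x * a⁻¹)) = (a * x * a⁻¹) * x * a := by
      calc a * (x * (a * x * a⁻¹)) = (a * x * a⁻¹) * (a * (a * x * a⁻¹)) := by group
        _ = (a * x * a⁻¹) * ((a ^ 2) * x * a⁻¹) := by rw [pow_two]; group
        _ = (a * x * a⁻¹) * x * a := by rw [ha, one_mul, hai]; group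
    show a * (x * (a * x * a⁻¹)) = x * (a * x * a⁻¹) * a
    rw [this, ← h1]
  have hA1 : ∀ x ∈ K, ∀ w : W, a • ((x * (a * x * a⁻¹)) • w - w) = (x * (a * x * a⁻¹)) • w - w := fun x hx =>
    swap_fix (ca x hx).symm (hA x hx)
  have ckD : ∀ k ∈ cj a' K, ∀ x ∈ K, Commute k (x * (a * x * a⁻¹)) := by
    intro k hk x hx
    refine Commute.mul_right ?_ ?_
    · exact cj_comm hKa' hK hne' k hk x hx
    · exact cj_comm hKa' hKa hne3.symm k hk _ (cj_mem a hx)
  -- Step 1
  have h1 : ∀ k ∈ cj a' K, ∀ u : W, (∃ x ∈ K, ∃ w : W, u = (x * (a * x * a⁻¹)) • w - w) → k • u = u := by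
    have hinv : ∀ k ∈ cj a' K, ∀ u : W, (∃ x ∈ K, ∃ w : W, u = (x * (a * x * a⁻¹)) • w - w) →
        (∃ x ∈ K, ∃ w : W, k • u = (x * (a * x * a⁻¹)) • w - w) := by
      rintro k hk _ ⟨x, hx, w, rfl⟩
      refine ⟨x, hx, k • w, ?_⟩
      rw [smul_sub, ← mul_smul, (ckD k hk x hx).eq, mul_smul]
    have hafix : ∀ u : W, (∃ x ∈ K, ∃ w : W, u = (x * (a * x * a⁻¹)) • w - w) → a • u = u := by
      rintro _ ⟨x, hx, w, rfl⟩
      exact hA1 x hx w
    have hla : ∀ l ∈ cj a' K, ∀ u : W, (∃ x ∈ K, ∃ w : W, u = (x * (a * x * a⁻¹)) • w - w) →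
        (a * l * a⁻¹) • u = l • u := by
      intro l hl u hu
      rw [mul_smul, mul_smul, smul_inv_of_fix (hafix u hu), hafix _ (hinv l hl u hu)]
    refine commAct (comp_commutator_self hKa') ?_
    intro k hk l hl u hu
    have hcl : a * l * a⁻¹ ∈ cj (a * a') K := by
      rw [← cj_cj]
      exact cj_mem a hl
    rw [← hla l hl u hu, ← mul_smul, cj_comm hKa' hKaa hne4.symm k hk _ hcl, mul_smul, hla l hl _ (hinv k hk u hu)]
  -- Step 2
  have h2 : ∀ x ∈ K, ∀ k ∈ cj a' K, ∀ w : W, (x * (a * x * a⁻¹)) • (k • w - w) = k • w - w := by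
    intro x hx k hk
    exact swap_fix (ckD k hk x hx) (fun w => h1 k hk _ ⟨x, hx, w, rfl⟩)
  have h3 : ∀ x ∈ K, ∀ u : W, (∃ k ∈ cj a' K, ∃ w : W, u = k • w - w) → x • u = u := by
    have hinv : ∀ x, (∀ k ∈ cj a' K, Commute x k) → ∀ u : W, (∃ k ∈ cj a' K, ∃ w : W, u = k • w - w) →
        (∃ k ∈ cj a' K, ∃ w : W, x • u = k • w - w) := by
      rintro x hx _ ⟨k, hk, w, rfl⟩
      refine ⟨k, hk, x • w, ?_⟩
      rw [smul_sub, ← mul_smul, (hx k hk).eq, mul_smul]
    have hxk : ∀ x ∈ K, ∀ k ∈ cj a' K, Commute x k := fun x hx k hk => (cj_comm hKa' hK hne' k hk x hx).symm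
    have hx1 : ∀ x ∈ K, ∀ u : W, (∃ k ∈ cj a' K, ∃ w : W, u = k • w - w) → x • u = (a * x * a⁻¹)⁻¹ • u := by
      rintro x hx _ ⟨k, hk, w, rfl⟩
      have h := h2 x hx k hk w
      rw [(cxa x hx).eq, mul_smul] at h
      rw [eq_inv_smul_iff]
      exact h
    refine commAct (comp_commutator_self hK) ?_
    intro x hx y hy u hu
    have hcc : Commute y (a * x * a⁻¹)⁻¹ := (show Commute y (a * x * a⁻¹) from cj_comm hK hKa hne.symm y hy _ (cj_mem a hx)).inv_right
    rw [hx1 x hx _ (hinv y (hxk y hy) u hu), hx1 x hx u hu, ← mul_smul, ← hcc.eq, mul_smul]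
  intro x hx k hk w
  exact h3 x hx _ ⟨k, hk, w, rfl⟩

theorem A7 {K : Subgroup H} (hK : IsComponent K) {a a' : H} (ha : a ^ 2 = 1) (ha' : a' ^ 2 = 1) (haa : Commute a a')
    (hne : cj a K ≠ K) (hne' : cj a' K ≠ K) (hne2 : cj (a * a') K ≠ K)
    (hA : ∀ x ∈ K, ∀ w : W, (x * (a * x * a⁻¹)) • (a • w - w) = a • w - w)
    (hA' : ∀ x ∈ K, ∀ w : W, (x * (a' * x * a'⁻¹)) • (a' • w - w) = a' • w - w) :
    ∀ x ∈ K, ∀ w : W, x • w = w := by
  have hne2' : cj (a' * a) K ≠ K := by rw [← haa.eq]; exact hne2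
  have R1 := A7a hK ha' haa.symm hne' hne hne2' hA'
  have hKa := comp_cj hK a
  have R2 : ∀ k ∈ cj a K, ∀ x ∈ K, ∀ w : W, k • (x • w - w) = x • w - w := by
    intro k hk x hx
    exact swap_fix (show Commute x k from cj_comm hK hKa hne.symm x hx k hk) (R1 x hx k hk)
  have R3 : ∀ k ∈ cj a K, ∀ u ∈ comS W K, k • u = u := by
    intro k hk u hu
    have : comS W K ≤ fixE W k := comS_le.mpr (fun x hx w => R2 k hk x hx w)
    exact this hu
  have R4 := smul_com_fix hK hne R2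
  have hKK : ∀ x ∈ K, ∀ y ∈ K, x * y * x⁻¹ ∈ K := fun x hx y hy => K.mul_mem (K.mul_mem hx hy) (K.inv_mem hx)
  have R5 : ∀ l ∈ K, ∀ u ∈ comS W K, l • u - u ∈ fixS W K := by
    intro l hl u hu
    have hlu : l • u ∈ comS W K := smul_comS (hKK l hl) u hu
    have e1 := hA l hl u
    have e2 : (l * (a * l * a⁻¹)) • (a • u) = a • (l • u) := by
      have : (a * l * a⁻¹) • (a • u) = a • (l • u) := by
        rw [← mul_smul, ← mul_smul, inv_mul_cancel_right]
      rw [mul_smul, this]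
      exact R4 _ hlu l hl
    have e3 : (l * (a * l * a⁻¹)) • u = l • u := by
      rw [mul_smul, R3 _ (cj_mem a hl) u hu]
    rw [smul_sub, e2, e3] at e1
    have e4 : a • (l • u - u) = l • u - u := by
      rw [smul_sub]
      have : a • l • u = (a • u - u) + l • u := by rw [← e1]; abel
      rw [this]; abel
    rw [← e4]
    exact R4 _ (AddSubgroup.sub_mem _ hlu hu)
  have h2 : ∀ x ∈ K, ∀ u, u ∈ comS W K → x • u = u :=
    quadAct (comp_commutator_self hK) (P := fun u => u ∈ comS W K) (fun x hx y hy u hu => R5 y hy u hu x hx)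
  have h3 : ∀ x ∈ K, ∀ u : W, True → x • u = u :=
    quadAct (comp_commutator_self hK) (P := fun _ => True) (fun x hx y hy u _ => h2 x hx _ (mem_comS hy u))
  exact fun x hx w => h3 x hx w trivial

/-- (B') the commutativity trick -/
theorem B1 {K : Subgroup H} (hK : IsComponent K) {a a' : H} (ha : a ^ 2 = 1) (haa : Commute a a')
    (hne : cj a K ≠ K) (hne' : cj a' K ≠ K) (hne2 : cj (a * a') K ≠ K)
    (hfix : ∀ w : W, a' • (a • w - w) = a • w - w) :
    ∀ x ∈ K, ∀ w : W, (x * (a * x * a⁻¹)) • (a • w - w) = a • w - w := by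
  have hai : a⁻¹ = a := by rw [inv_eq_iff_mul_eq_one, ← pow_two, ha]
  have hKa := comp_cj hK a
  have hKa' := comp_cj hK a'
  have hKaa := comp_cj hK (a * a')
  have hne3 : cj a K ≠ cj a' K := by
    intro h
    apply hne2
    rw [← cj_cj, ← h, cj_two ha]
  have hne4 : cj (a * a') K ≠ cj a K := by
    intro h
    apply hne'
    rw [← cj_cj] at h
    exact Subgroup.map_injective (MulAut.conj a).injective h
  have cxa : ∀ x ∈ K, ∀ y ∈ K, Commute x (a * y * a⁻¹) := fun x hx y hy => cj_comm hK hKa hne.symm x hx _ (cj_mem a hy)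
  have ca : ∀ x ∈ K, Commute a (x * (a * x * a⁻¹)) := by
    intro x hx
    have h1 := (cxa x hx x hx).eq
    have : a * (x * (a * x * a⁻¹)) = (a * x * a⁻¹) * x * a := by
      calc a * (x * (a * x * a⁻¹)) = (a * x * a⁻¹) * (a * (a * x * a⁻¹)) := by group
        _ = (a * x * a⁻¹) * ((a ^ 2) * x * a⁻¹) := by rw [pow_two]; group
        _ = (a * x * a⁻¹) * x * a := by rw [ha, one_mul, hai]; group
    show a * (x * (a * x * a⁻¹)) = x * (a * x * a⁻¹) * a
    rw [this, ← h1]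
  -- the homomorphism property of the diagonal map
  have hmul : ∀ x ∈ K, ∀ y ∈ K, (x * y) * (a * (x * y) * a⁻¹) = (x * (a * x * a⁻¹)) * (y * (a * y * a⁻¹)) := by
    intro x hx y hy
    have h1 := (cxa y hy x hx).eq
    calc (x * y) * (a * (x * y) * a⁻¹) = x * (y * (a * x * a⁻¹)) * (a * y * a⁻¹) := by group
      _ = x * ((a * x * a⁻¹) * y) * (a * y * a⁻¹) := by rw [h1]
      _ = _ := by group
  -- the set `[W,a]` is invariant
  have hinv : ∀ x ∈ K, ∀ u : W, (∃ w : W, u = a • w - w) → (∃ w : W, (x * (a * x * a⁻¹)) • u = a • w - w) := by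
    rintro x hx _ ⟨w, rfl⟩
    refine ⟨(x * (a * x * a⁻¹)) • w, ?_⟩
    rw [smul_sub, ← mul_smul, ← mul_smul, (ca x hx).eq]
  -- conj by a' of diag acts as diag
  have hconj : ∀ x ∈ K, ∀ u : W, (∃ w : W, u = a • w - w) →
      (a' * (x * (a * x * a⁻¹)) * a'⁻¹) • u = (x * (a * x * a⁻¹)) • u := by
    intro x hx u hu
    have hu1 : a' • u = u := by
      obtain ⟨w, rfl⟩ := hu
      exact hfix w
    have hu2 : a' • ((x * (a * x * a⁻¹)) • u) = (x * (a * x * a⁻¹)) • u := by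
      obtain ⟨w, hw⟩ := hinv x hx u hu
      rw [hw]
      exact hfix w
    rw [mul_smul (a' * (x * (a * x * a⁻¹))), smul_inv_of_fix hu1, mul_smul a' (x * (a * x * a⁻¹)), hu2]
  have hcc : ∀ x ∈ K, ∀ y ∈ K, Commute (x * (a * x * a⁻¹)) (a' * (y * (a * y * a⁻¹)) * a'⁻¹) := by
    intro x hx y hy
    have e : a' * (y * (a * y * a⁻¹)) * a'⁻¹ = (a' * y * a'⁻¹) * ((a * a') * y * (a * a')⁻¹) := by
      rw [haa.eq]; group
    have h1 := cj_mem a' hy
    have h2 := cj_mem (a * a') hy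
    have h3 := cj_mem a hx
    rw [e]
    have hne5 : cj (a * a') K ≠ cj a K := hne4
    refine Commute.mul_left (Commute.mul_right ?_ ?_) (Commute.mul_right ?_ ?_)
    · exact cj_comm hK hKa' hne'.symm x hx _ h1
    · exact cj_comm hK hKaa hne2.symm x hx _ h2
    · exact cj_comm hKa hKa' hne3 _ h3 _ h1
    · exact cj_comm hKa hKaa hne4.symm _ h3 _ h2
  have hcomm : ∀ x ∈ K, ∀ y ∈ K, ∀ u : W, (∃ w : W, u = a • w - w) →
      (x * (a * x * a⁻¹)) • (y * (a * y * a⁻¹)) • u = (y * (a * y * a⁻¹)) • (x * (a * x * a⁻¹)) • u := by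
    intro x hx y hy u hu
    rw [← hconj y hy u hu, ← mul_smul, (hcc x hx y hy).eq, mul_smul, hconj y hy _ (hinv x hx u hu)]
  let D : Subgroup H :=
    { carrier := {x | x ∈ K ∧ ∀ w : W, (x * (a * x * a⁻¹)) • (a • w - w) = a • w - w}
      mul_mem' := by
        rintro x y ⟨hx, hx'⟩ ⟨hy, hy'⟩
        exact ⟨K.mul_mem hx hy, fun w => by rw [hmul x hx y hy, mul_smul, hy' w, hx' w]⟩
      one_mem' := ⟨K.one_mem, fun w => by simp⟩
      inv_mem' := by
        rintro x ⟨hx, hx'⟩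
        refine ⟨K.inv_mem hx, fun w => ?_⟩
        have h1 := hmul x⁻¹ (K.inv_mem hx) x hx
        simp only [inv_mul_cancel, mul_one, mul_inv_cancel] at h1
        have h2 : x⁻¹ * (a * x⁻¹ * a⁻¹) = (x * (a * x * a⁻¹))⁻¹ := by
          rw [eq_inv_iff_mul_eq_one]
          exact h1.symm
        rw [h2]
        exact smul_inv_of_fix (hx' w) }
  have hKD : K ≤ D := by
    refine perf_le (comp_commutator_self hK) ?_
    intro x hx y hy
    refine ⟨K.mul_mem (K.mul_mem (K.mul_mem hx hy) (K.inv_mem hx)) (K.inv_mem hy), fun w => ?_⟩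
    rw [hmul _ (K.mul_mem (K.mul_mem hx hy) (K.inv_mem hx)) _ (K.inv_mem hy),
      hmul _ (K.mul_mem hx hy) _ (K.inv_mem hx), hmul x hx y hy, mul_smul, mul_smul, mul_smul,
      hcomm x⁻¹ (K.inv_mem hx) y⁻¹ (K.inv_mem hy) _ ⟨w, rfl⟩]
    have hxx : ∀ (x : H), x ∈ K → ∀ v : W, (x * (a * x * a⁻¹)) • (x⁻¹ * (a * x⁻¹ * a⁻¹)) • v = v := by
      intro x hx v
      have h1 := hmul x hx x⁻¹ (K.inv_mem hx)
      simp only [mul_inv_cancel, mul_one] at h1
      rw [← mul_smul, ← h1, one_smul]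
    rw [hxx y hy, hxx x hx]
  intro x hx w
  exact (hKD hx).2 w

end Cfsg.Agent.H19.PGV
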