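import Cfsg.Agent.H19.PGV3
import Cfsg.Agent.H4.BaerSuzuki
import Cfsg.Agent.H3.BurnsidePQ

set_option autoImplicit false
set_option linter.style.haveILetI false
set_option linter.unusedVariables false

/-! P(G,V)-theorem, part 6: noncentral `r`-elements and inverted elements of components. -/

namespace Cfsg.Agent.H19.PGV

open Cfsg Cfsg.Agent.H10

variable {H : Type*} [Group H]

theorem commute_of_coprime_pow {x y : H} {m n : ℕ} (hmn : m.Coprime n) (hx : x ^ n = 1) (h : Commute (x ^ m) y) :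
    Commute x y := by
  have h1 : m.Coprime (orderOf x) := Nat.Coprime.coprime_dvd_right (orderOf_dvd_of_pow_eq_one hx) hmn
  obtain ⟨k, hk⟩ := exists_pow_eq_self_of_coprime h1
  have h2 := h.pow_left k
  rwa [hk] at h2

theorem exists_relt [Finite H] {K : Subgroup H} (hK : IsComponent K) {p q : ℕ} (hp : p.Prime) (hq : q.Prime) :
    ∃ r : ℕ, r.Prime ∧ r ≠ p ∧ r ≠ q ∧ ∃ y ∈ K, (∃ k, y ^ (r ^ k) = 1) ∧ ∃ y' ∈ K, y * y' ≠ y' * y := by
  classical
  by_contra hcon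
  push Not at hcon
  apply qs_not_solvable hK.2
  have hQ : ∀ r : ℕ, r.Prime → r ∣ Nat.card (K ⧸ Subgroup.center K) → r = p ∨ r = q := by
    intro r hr hdvd
    by_contra hne
    push Not at hne
    haveI : Fact r.Prime := ⟨hr⟩
    obtain ⟨xb, hxb⟩ := exists_prime_orderOf_dvd_card' r hdvd
    obtain ⟨x, rfl⟩ := QuotientGroup.mk_surjective xb
    obtain ⟨k, m, hm, hkm⟩ := Nat.exists_eq_pow_mul_and_not_dvd (orderOf_pos x).ne' r hr.ne_one
    have h1 : (x ^ m) ^ (r ^ k) = 1 := by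
      rw [← pow_mul, mul_comm, ← hkm, pow_orderOf_eq_one]
    have h2 : x ^ m ∈ Subgroup.center K := by
      rw [Subgroup.mem_center_iff]
      intro g
      have h3 := hcon r hr hne.1 hne.2 ((x ^ m : K) : H) (x ^ m).2
        ⟨k, congrArg Subtype.val h1⟩ g.1 g.2
      exact Subtype.ext h3.symm
    have h3 : (QuotientGroup.mk x : K ⧸ Subgroup.center K) ^ m = 1 := by
      rw [← QuotientGroup.mk_pow]
      exact (QuotientGroup.eq_one_iff _).mpr h2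
    have h4 := orderOf_dvd_of_pow_eq_one h3
    rw [hxb] at h4
    exact hm h4
  have hs : Group.IsSolvable (K ⧸ Subgroup.center K) := Cfsg.Agent.H3.burnside_paqb p q hp hq _ _ rfl hQ
  haveI := hs
  haveI : Group.IsSolvable (Subgroup.center K) := Group.isSolvable_of_comm (fun a b => by
    exact Subtype.ext (Subgroup.mem_center_iff.mp b.2 a.1))
  exact Group.isSolvable_of_ker_le_range (Subgroup.center K).subtype (QuotientGroup.mk' (Subgroup.center K)) (by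
    rw [QuotientGroup.ker_mk', Subgroup.range_subtype])

/-- elements normalizing `K` and centralized by `n` modulo `K` -/
def nrm (K : Subgroup H) (n : H) (hn : ∀ x ∈ K, n * x * n⁻¹ ∈ K) : Subgroup H where
  carrier := {g | (∀ x, x ∈ K ↔ g * x * g⁻¹ ∈ K) ∧ n * g * n⁻¹ * g⁻¹ ∈ K}
  mul_mem' := by
    rintro g h ⟨hg, hg'⟩ ⟨hh, hh'⟩
    constructor
    · intro x
      rw [hh x, hg (h * x * h⁻¹)]
      have : g * (h * x * h⁻¹) * g⁻¹ = g * h * x * (g * h)⁻¹ := by group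
      rw [this]
    · have : n * (g * h) * n⁻¹ * (g * h)⁻¹ = (n * g * n⁻¹ * g⁻¹) * (g * (n * h * n⁻¹ * h⁻¹) * g⁻¹) := by group
      rw [this]
      exact K.mul_mem hg' ((hg _).mp hh')
  one_mem' := by
    constructor
    · intro x; simp
    · simp [K.one_mem]
  inv_mem' := by
    rintro g ⟨hg, hg'⟩
    constructor
    · intro x
      rw [hg (g⁻¹ * x * g⁻¹⁻¹)]
      have : g * (g⁻¹ * x * g⁻¹⁻¹) * g⁻¹ = x := by group
      rw [this]
    · rw [hg]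
      have : g * (n * g⁻¹ * n⁻¹ * g⁻¹⁻¹) * g⁻¹ = (n * g * n⁻¹ * g⁻¹)⁻¹ ∨ True := Or.inr trivial
      have h2 : g * (n * g⁻¹ * n⁻¹ * g⁻¹⁻¹) * g⁻¹ = g * n * g⁻¹ * n⁻¹ := by group
      have h3 : g * n * g⁻¹ * n⁻¹ = (n * g * n⁻¹ * g⁻¹)⁻¹ := by group
      rw [h2, h3]
      exact K.inv_mem hg'

theorem exists_inverted [Finite H] {K : Subgroup H} (hK : IsComponent K) {n : H} (hn : ∀ x ∈ K, n * x * n⁻¹ ∈ K)
    (hnc : ∃ x ∈ K, n * x ≠ x * n) (hn2 : n ^ 2 = 1) :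
    ∃ y ∈ K, (∃ m, Odd m ∧ y ^ m = 1) ∧ n * y * n⁻¹ = y⁻¹ ∧ ∃ y' ∈ K, y * y' ≠ y' * y := by
  classical
  have hni : n⁻¹ = n := by rw [inv_eq_iff_mul_eq_one, ← pow_two, hn2]
  set L := nrm K n hn with hL
  have hKL : K ≤ L := by
    intro x hx
    refine ⟨fun z => ?_, K.mul_mem (hn x hx) (K.inv_mem hx)⟩
    constructor
    · intro hz
      exact K.mul_mem (K.mul_mem hx hz) (K.inv_mem hx)
    · intro hz
      have : z = x⁻¹ * (x * z * x⁻¹) * x := by group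
      rw [this]
      exact K.mul_mem (K.mul_mem (K.inv_mem hx) hz) hx
  have hnL : n ∈ L := by
    refine ⟨fun z => ⟨hn z, fun hz => ?_⟩, by simp [K.one_mem]⟩
    have h1 := hn _ hz
    rw [hni] at h1
    have : n * (n * z * n) * n = z := by
      calc n * (n * z * n) * n = n ^ 2 * z * n ^ 2 := by rw [pow_two]; group
        _ = z := by rw [hn2]; group
    rwa [this] at h1
  -- the center of K as a normal subgroup of L
  let Z : Subgroup L := (K ⊓ Subgroup.centralizer (K : Set H)).subgroupOf L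
  have hZmem : ∀ z : L, z ∈ Z ↔ z.1 ∈ K ∧ ∀ x ∈ K, x * z.1 = z.1 * x := by
    intro z
    rw [Subgroup.mem_subgroupOf, Subgroup.mem_inf, Subgroup.mem_centralizer_iff]
    rfl
  haveI hZn : Z.Normal := ⟨fun z hz g => by
    rw [hZmem] at hz ⊢
    refine ⟨(g.2.1 _).mp hz.1, fun x hx => ?_⟩
    have hx' : (g.1)⁻¹ * x * g.1 ∈ K := by
      rw [g.2.1]
      have : g.1 * (g.1⁻¹ * x * g.1) * g.1⁻¹ = x := by group
      rwa [this]
    have h1 := hz.2 _ hx'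
    show x * (g.1 * z.1 * g.1⁻¹) = g.1 * z.1 * g.1⁻¹ * x
    calc x * (g.1 * z.1 * g.1⁻¹) = g.1 * ((g.1⁻¹ * x * g.1) * z.1) * g.1⁻¹ := by group
      _ = g.1 * (z.1 * (g.1⁻¹ * x * g.1)) * g.1⁻¹ := by rw [h1]
      _ = _ := by group⟩
  let t : L ⧸ Z := QuotientGroup.mk (⟨n, hnL⟩ : L)
  have ht1 : t ≠ 1 := by
    intro h
    have h1 : (⟨n, hnL⟩ : L) ∈ Z := (QuotientGroup.eq_one_iff _).mp h
    rw [hZmem] at h1
    obtain ⟨x, hx, hne⟩ := hnc
    exact hne (h1.2 x hx).symm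
  have ht2 : t ^ 2 = 1 := by
    show (QuotientGroup.mk (⟨n, hnL⟩ : L) : L ⧸ Z) ^ 2 = 1
    rw [← QuotientGroup.mk_pow]
    have : (⟨n, hnL⟩ : L) ^ 2 = 1 := Subtype.ext hn2
    rw [this]
    rfl
  have hto : orderOf t = 2 := by
    haveI : Fact (Nat.Prime 2) := ⟨Nat.prime_two⟩
    exact orderOf_eq_prime ht2 ht1
  obtain ⟨gb, k, hne1, hodd, hinv⟩ := Cfsg.Agent.H4.inverts_odd_of_not_mem_core t hto (by
    intro N hN hN2 htN
    let D : Subgroup H := ((N.comap (QuotientGroup.mk' Z)).map L.subtype) ⊓ K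
    have hDmem : ∀ d : H, d ∈ D ↔ ∃ hd : d ∈ K, (QuotientGroup.mk (⟨d, hKL hd⟩ : L) : L ⧸ Z) ∈ N := by
      intro d
      constructor
      · rintro ⟨⟨d', hd', rfl⟩, hd⟩
        exact ⟨hd, hd'⟩
      · rintro ⟨hd, hd'⟩
        exact ⟨⟨⟨d, hKL hd⟩, hd', rfl⟩, hd⟩
    have hDK : D = K := by
      refine NC1 hK hn hnc inf_le_right ?_ ?_
      · intro x hx d hd
        rw [hDmem] at hd ⊢
        obtain ⟨hd1, hd2⟩ := hd
        refine ⟨K.mul_mem (K.mul_mem hx hd1) (K.inv_mem hx), ?_⟩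
        exact hN.conj_mem _ hd2 (QuotientGroup.mk (⟨x, hKL hx⟩ : L))
      · intro x hx
        rw [hDmem]
        have hmem : x * n * x⁻¹ * n⁻¹ ∈ K := by
          have : x * n * x⁻¹ * n⁻¹ = x * (n * x⁻¹ * n⁻¹) := by group
          rw [this]
          exact K.mul_mem hx (hn _ (K.inv_mem hx))
        refine ⟨hmem, ?_⟩
        exact N.mul_mem (hN.conj_mem _ htN (QuotientGroup.mk (⟨x, hKL hx⟩ : L))) (N.inv_mem htN)
    obtain ⟨r, hr, hr2, _, y, hy, ⟨j, hj⟩, y', hy', hyy⟩ := exists_relt hK Nat.prime_two Nat.prime_two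
    have hyD : y ∈ D := by rw [hDK]; exact hy
    rw [hDmem] at hyD
    obtain ⟨hy1, hy2⟩ := hyD
    obtain ⟨i, hi⟩ := hN2 ⟨_, hy2⟩
    have hi' : (QuotientGroup.mk (⟨y, hKL hy1⟩ : L) : L ⧸ Z) ^ (2 ^ i) = 1 := congrArg Subtype.val hi
    rw [← QuotientGroup.mk_pow] at hi'
    have h1 : (⟨y, hKL hy1⟩ : L) ^ (2 ^ i) ∈ Z := (QuotientGroup.eq_one_iff _).mp hi'
    rw [hZmem] at h1
    have h2 : Commute (y ^ (2 ^ i)) y' := (h1.2 y' hy').symm
    have h3 : Commute y y' := commute_of_coprime_pow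
      (Nat.Coprime.pow _ _ ((Nat.coprime_primes Nat.prime_two hr).mpr hr2.symm)) hj h2
    exact hyy h3.eq)
  obtain ⟨g, rfl⟩ := QuotientGroup.mk_surjective gb
  set u : H := n * (g.1 * n * g.1⁻¹) with hu
  have huK : u ∈ K := by
    have h1 := g.2.2
    rw [hni] at h1
    have : u = n * g.1 * n * g.1⁻¹ := by rw [hu]; group
    rw [this]
    exact h1
  have hnu : n * u * n⁻¹ = u⁻¹ := by
    have h2 : n * n = 1 := by rw [← pow_two, hn2]
    have h3 : (g.1 * n * g.1⁻¹) * (g.1 * n * g.1⁻¹) = 1 := by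
      calc (g.1 * n * g.1⁻¹) * (g.1 * n * g.1⁻¹) = g.1 * (n * n) * g.1⁻¹ := by group
        _ = 1 := by rw [h2]; group
    have h4 : (g.1 * n * g.1⁻¹)⁻¹ = g.1 * n * g.1⁻¹ := by rw [inv_eq_iff_mul_eq_one, h3]
    rw [hu, mul_inv_rev, h4, hni, ← mul_assoc n n, h2, one_mul]
  set y₁ := u ^ (2 ^ k) with hy₁
  have hy₁K : y₁ ∈ K := K.pow_mem huK _
  have hny₁ : n * y₁ * n⁻¹ = y₁⁻¹ := by rw [hy₁, ← conj_pow, hnu, inv_pow]
  have hq : (t * ((QuotientGroup.mk g : L ⧸ Z) * t * (QuotientGroup.mk g : L ⧸ Z)⁻¹)) ^ 2 ^ k =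
      (QuotientGroup.mk (⟨y₁, hKL hy₁K⟩ : L) : L ⧸ Z) := rfl
  rw [hq] at hne1 hodd
  obtain ⟨j, m, hm, hjm⟩ := Nat.exists_eq_pow_mul_and_not_dvd (orderOf_pos y₁).ne' 2 (by norm_num)
  refine ⟨y₁ ^ (2 ^ j), K.pow_mem hy₁K _, ⟨m, ?_, ?_⟩, ?_, ?_⟩
  · exact Nat.not_even_iff_odd.mp (fun h => hm h.two_dvd)
  · rw [← pow_mul, ← hjm, pow_orderOf_eq_one]
  · rw [← conj_pow, hny₁, inv_pow]
  · by_contra hcon
    push Not at hcon
    apply hne1
    have h1 : (⟨y₁, hKL hy₁K⟩ : L) ^ (2 ^ j) ∈ Z := by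
      rw [hZmem]
      exact ⟨K.pow_mem hy₁K _, fun x hx => (hcon x hx).symm⟩
    have h2 : (QuotientGroup.mk (⟨y₁, hKL hy₁K⟩ : L) : L ⧸ Z) ^ (2 ^ j) = 1 := by
      rw [← QuotientGroup.mk_pow]
      exact (QuotientGroup.eq_one_iff _).mpr h1
    have h3 := orderOf_dvd_of_pow_eq_one h2
    have h4 : Nat.Coprime (orderOf (QuotientGroup.mk (⟨y₁, hKL hy₁K⟩ : L) : L ⧸ Z)) (2 ^ j) :=
      Nat.Coprime.pow_right _ (Nat.coprime_two_right.mpr hodd)
    rw [← orderOf_eq_one_iff]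
    exact Nat.eq_one_of_dvd_coprimes h4 dvd_rfl h3

end Cfsg.Agent.H19.PGV
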