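import Cfsg.Agent.H19.PGV5
import Cfsg.Agent.H19.PGV6

set_option autoImplicit false
set_option linter.style.haveILetI false
set_option linter.unusedVariables false

/-! P(G,V)-theorem, part 7: dihedral action, index two case, counting lemmas. -/

namespace Cfsg.Agent.H19.PGV

open Cfsg Cfsg.Agent.H10

variable {H W : Type*} [Group H] [AddCommGroup W] [DistribMulAction H W]

theorem neg_eq_of_two (h2 : ∀ w : W, 2 • w = 0) (w : W) : -w = w := by
  have := h2 w
  rw [two_nsmul] at this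
  exact neg_eq_of_add_eq_zero_left this

theorem fix_of_sq_fix {y : H} {m : ℕ} (hm : Odd m) (hy : y ^ m = 1) {u : W} (h : y • y • u = u) : y • u = u := by
  obtain ⟨k, hk⟩ := hm
  have h1 : ∀ i : ℕ, (y ^ 2) ^ i • u = u := by
    intro i
    induction i with
    | zero => simp
    | succ i ih => rw [pow_succ, mul_smul, pow_two, mul_smul, h, ← pow_two, ih]
  have h2 : y • u = y ^ (2 * k + 1) • u := by
    rw [pow_succ', mul_smul, pow_mul, h1]
  rw [h2, ← hk, hy, one_smul]

/-- an involution inverting a fixed-point-free element of odd order -/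
theorem dih (h2 : ∀ w : W, 2 • w = 0) {t y : H} (ht : t ^ 2 = 1) {m : ℕ} (hm : Odd m) (hy : y ^ m = 1)
    {U : AddSubgroup W} [Finite U] (hUt : ∀ u ∈ U, t • u ∈ U) (hUy : ∀ u ∈ U, y • u ∈ U)
    (hty : ∀ u ∈ U, t • y • u = y⁻¹ • t • u) (hfix : U ⊓ fixE W y = ⊥) :
    Nat.card ↥(U ⊓ fixE W t) * Nat.card ↥(U ⊓ fixE W t) = Nat.card U := by
  haveI : Finite ↥(U ⊓ fixE W t) := Finite.of_injective (fun x => (⟨x.1, x.2.1⟩ : U)) (fun a b hab => by
    have h0 : (⟨a.1, a.2.1⟩ : U) = ⟨b.1, b.2.1⟩ := hab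
    have h1 := congrArg (fun z : U => z.1) h0
    exact Subtype.ext h1)
  have htt : ∀ u : W, t • t • u = u := fun u => by rw [← mul_smul, ← pow_two, ht, one_smul]
  apply le_antisymm
  · obtain ⟨k, hk⟩ := hm
    -- square root of y
    set h := y ^ (k + 1) with hh
    have hsq : ∀ u : W, h • h • u = y • u := by
      intro u
      rw [← mul_smul, hh, ← pow_add]
      have : k + 1 + (k + 1) = m + 1 := by omega
      rw [this, pow_succ, hy, one_mul]
    have hyi : ∀ i : ℕ, ∀ u ∈ U, y ^ i • u ∈ U := by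
      intro i
      induction i with
      | zero => intro u hu; simpa using hu
      | succ i ih => intro u hu; rw [pow_succ, mul_smul]; exact ih _ (hUy u hu)
    have hti : ∀ i : ℕ, ∀ u ∈ U, t • y ^ i • u = (y⁻¹) ^ i • t • u := by
      intro i
      induction i with
      | zero => intro u hu; simp
      | succ i ih =>
        intro u hu
        rw [pow_succ y, mul_smul, ih _ (hUy u hu), hty u hu, pow_succ, mul_smul]
    have hth : ∀ u ∈ U, t • h • u = h⁻¹ • t • u := by
      intro u hu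
      rw [hh, hti _ u hu, inv_pow]
    rw [← Nat.card_prod]
    refine Nat.card_le_card_of_injective (fun uv : ↥(U ⊓ fixE W t) × ↥(U ⊓ fixE W t) =>
      (⟨uv.1.1 + h • uv.2.1, U.add_mem uv.1.2.1 (hyi _ _ uv.2.2.1)⟩ : U)) ?_
    have key : ∀ u v : W, u ∈ U ⊓ fixE W t → v ∈ U ⊓ fixE W t → u + h • v = 0 → v = 0 := by
      intro u v hu hv huv
      have hu1 : t • u = u := hu.2
      have hv1 : t • v = v := hv.2
      have h3 : t • (u + h • v) = 0 := by rw [huv, smul_zero]
      rw [smul_add, hu1, hth v hv.1, hv1] at h3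
      have h4 : h • v = h⁻¹ • v := by
        have h5 : u + h • v = u + h⁻¹ • v := by rw [huv, h3]
        exact add_left_cancel h5
      have h6 : y • v = v := by
        rw [← hsq, h4, smul_inv_smul]
      have h7 : v ∈ U ⊓ fixE W y := ⟨hv.1, h6⟩
      rw [hfix] at h7
      exact h7
    rintro ⟨⟨u, hu⟩, ⟨v, hv⟩⟩ ⟨⟨u', hu'⟩, ⟨v', hv'⟩⟩ heq
    have h3 : u + h • v = u' + h • v' := congrArg Subtype.val heq
    have h4 : v - v' = 0 := by
      apply key (u - u') (v - v') (AddSubgroup.sub_mem _ hu hu') (AddSubgroup.sub_mem _ hv hv')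
      rw [smul_sub]
      have : u - u' + (h • v - h • v') = (u + h • v) - (u' + h • v') := by abel
      rw [this, h3, sub_self]
    have h5 : v = v' := sub_eq_zero.mp h4
    subst h5
    have h6 : u = u' := add_right_cancel h3
    subst h6
    rfl
  · have h1 := card_dl t U
    have h3 : U.map (dl W t) ≤ U ⊓ fixE W t := by
      rintro _ ⟨u, hu, rfl⟩
      refine ⟨U.sub_mem (hUt u hu) hu, ?_⟩
      show t • (t • u - u) = t • u - u
      rw [smul_sub, htt]
      rw [← neg_eq_of_two h2 (t • u - u)]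
      abel
    rw [← h1]
    exact Nat.mul_le_mul_right _ (Nat.card_le_card_of_injective (AddSubgroup.inclusion h3) (AddSubgroup.inclusion_injective h3))

theorem card_mod_one {r : ℕ} [Fact r.Prime] {g : H} {k : ℕ} (hg : g ^ (r ^ k) = 1) {U : AddSubgroup W} [Finite U]
    (hU : ∀ u ∈ U, g • u ∈ U) (h : U ⊓ fixE W g = ⊥) : Nat.card U ≡ 1 [MOD r] := by
  have hP : IsPGroup r (Subgroup.zpowers g) := by
    rintro ⟨x, hx⟩
    obtain ⟨i, rfl⟩ := hx
    refine ⟨k, Subtype.ext ?_⟩
    show (g ^ i) ^ (r ^ k) = 1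
    rw [← zpow_natCast, ← zpow_mul, mul_comm, zpow_mul, zpow_natCast, hg, one_zpow]
  have hpow : ∀ i : ℕ, ∀ u ∈ U, g ^ i • u ∈ U := by
    intro i
    induction i with
    | zero => intro u hu; simpa using hu
    | succ i ih => intro u hu; rw [pow_succ, mul_smul]; exact ih _ (hU u hu)
  have hfo : IsOfFinOrder g := isOfFinOrder_iff_pow_eq_one.mpr ⟨r ^ k, pow_pos (Fact.out : r.Prime).pos k, hg⟩
  have hinv : ∀ x ∈ Subgroup.zpowers g, ∀ u ∈ U, x • u ∈ U := by
    intro x hx u hu
    rw [← hfo.mem_powers_iff_mem_zpowers] at hx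
    obtain ⟨i, rfl⟩ := hx
    exact hpow i u hu
  have h1 := card_mod_fix hP hinv
  have h2 : U ⊓ fixS W (Subgroup.zpowers g) = ⊥ := by
    rw [eq_bot_iff, ← h]
    intro u hu
    exact ⟨hu.1, hu.2 g (Subgroup.mem_zpowers g)⟩
  rw [h2, AddSubgroup.card_bot] at h1
  exact h1

theorem card_cm [Finite W] (g : H) (U : AddSubgroup W) : Nat.card (cm g U) = Nat.card U := by
  refine Nat.card_congr ⟨fun x => ⟨g • x.1, x.2⟩, fun x => ⟨g⁻¹ • x.1, ?_⟩, ?_, ?_⟩
  · show g • g⁻¹ • x.1 ∈ U
    rw [smul_inv_smul]; exact x.2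
  · intro x; exact Subtype.ext (inv_smul_smul g x.1)
  · intro x; exact Subtype.ext (smul_inv_smul g x.1)

/-- Case (C) -/
theorem caseC [Finite H] [Finite W] (h2 : ∀ w : W, 2 • w = 0)
    (hfaith : ∀ g : H, ∀ m : ℕ, Odd m → g ^ m = 1 → (∀ w : W, g • w = w) → g = 1)
    {K : Subgroup H} (hK : IsComponent K) {b : H} (hne : cj b K ≠ K)
    (hcard : Nat.card W ≤ 2 * Nat.card (fixE W b)) : False := by
  obtain ⟨r, hr, hr2, hr3, y, hy, ⟨k, hk⟩, y', hy', hyy⟩ := exists_relt hK Nat.prime_two Nat.prime_three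
  haveI : Fact r.Prime := ⟨hr⟩
  have hr5 : 5 ≤ r := by
    have := hr.two_le
    by_contra h
    push Not at h
    interval_cases r
    · exact hr2 rfl
    · exact hr3 rfl
    · exact absurd hr (by norm_num)
  have hKb := comp_cj hK b
  have hyb := cj_mem b hy
  have hcyb : Commute y (b * y * b⁻¹) := cj_comm hK hKb hne.symm y hy _ hyb
  set g := y⁻¹ * (b * y * b⁻¹) with hg
  have hgr : g ^ (r ^ k) = 1 := by
    rw [hg, (hcyb.inv_left).mul_pow, inv_pow, hk, conj_pow, hk]
    simp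
  -- fixed points
  set F := fixE W b with hF
  set F' := cm y F with hF'
  have hle : F ⊓ F' ≤ fixE W g := by
    rintro w ⟨h1, h3⟩
    have h1' : b • w = w := h1
    have h3' : b • y • w = y • w := h3
    show g • w = w
    rw [hg, mul_smul, mul_smul, mul_smul, smul_inv_of_fix h1', h3', inv_smul_smul]
  have hc1 : Nat.card F * Nat.card F' ≤ Nat.card ↥(F ⊔ F') * Nat.card ↥(F ⊓ F') := card_mul_le_sup_add F F'
  have hc2 : Nat.card ↥(F ⊔ F') ≤ Nat.card W := Nat.card_le_card_of_injective _ Subtype.val_injective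
  have hc3 : Nat.card ↥(F ⊓ F') ≤ Nat.card (fixE W g) :=
    Nat.card_le_card_of_injective (AddSubgroup.inclusion hle) (AddSubgroup.inclusion_injective hle)
  have hc4 : Nat.card F' = Nat.card F := card_cm y F
  rw [hc4] at hc1
  have hWpos : 0 < Nat.card W := Nat.card_pos
  have hc5 : Nat.card W ≤ 4 * Nat.card (fixE W g) := by
    have e1 : Nat.card W * Nat.card W ≤ (2 * Nat.card F) * (2 * Nat.card F) := Nat.mul_le_mul hcard hcard
    have e2 : (2 * Nat.card F) * (2 * Nat.card F) ≤ 4 * (Nat.card W * Nat.card (fixE W g)) := by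
      calc (2 * Nat.card F) * (2 * Nat.card F) = 4 * (Nat.card F * Nat.card F) := by ring
        _ ≤ 4 * (Nat.card ↥(F ⊔ F') * Nat.card ↥(F ⊓ F')) := Nat.mul_le_mul_left _ hc1
        _ ≤ 4 * (Nat.card W * Nat.card (fixE W g)) := Nat.mul_le_mul_left _ (Nat.mul_le_mul hc2 hc3)
    have e3 : Nat.card W * Nat.card W ≤ Nat.card W * (4 * Nat.card (fixE W g)) := by
      calc Nat.card W * Nat.card W ≤ 4 * (Nat.card W * Nat.card (fixE W g)) := e1.trans e2
        _ = _ := by ring
    exact Nat.le_of_mul_le_mul_left e3 hWpos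
  set U : AddSubgroup W := (⊤ : AddSubgroup W).map (dl W g) with hU
  have hUc : Nat.card U * Nat.card ↥((⊤ : AddSubgroup W) ⊓ fixE W g) = Nat.card (⊤ : AddSubgroup W) := card_dl g ⊤
  rw [top_inf_eq, AddSubgroup.card_top] at hUc
  have hfpos : 0 < Nat.card (fixE W g) := Nat.card_pos
  have hU4 : Nat.card U ≤ 4 := by
    rw [← hUc] at hc5
    exact Nat.le_of_mul_le_mul_right hc5 hfpos
  have hodd : Nat.Coprime (r ^ k) 2 := Nat.Coprime.pow_left _ ((Nat.coprime_primes hr Nat.prime_two).mpr hr2)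
  have hUg : ∀ u ∈ U, g • u ∈ U := by
    rintro _ ⟨w, _, rfl⟩
    refine ⟨g • w, trivial, ?_⟩
    rw [dl_apply, dl_apply, smul_sub]
  have hUfix : U ⊓ fixE W g = ⊥ := map_dl_inf_fixE h2 hodd hgr
  have hmod := card_mod_one hgr hUg hUfix
  have hUpos : 0 < Nat.card U := Nat.card_pos
  have hU1 : Nat.card U = 1 := by
    have e1 : Nat.card U % r = 1 % r := hmod
    rw [Nat.mod_eq_of_lt (by omega), Nat.mod_eq_of_lt (by omega)] at e1
    exact e1
  have hUbot : U = ⊥ := AddSubgroup.card_eq_one.mp hU1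
  have hg1 : g = 1 := by
    refine hfaith g (r ^ k) (Nat.coprime_two_right.mp hodd) hgr ?_
    intro w
    have : dl W g w ∈ U := ⟨w, trivial, rfl⟩
    rw [hUbot, AddSubgroup.mem_bot, dl_apply] at this
    exact sub_eq_zero.mp this
  have hyb' : b * y * b⁻¹ = y := by
    rw [hg, inv_mul_eq_one] at hg1
    exact hg1.symm
  apply hyy
  have := cj_comm hK hKb hne.symm y' hy' _ hyb
  rw [hyb'] at this
  exact this.symm

end Cfsg.Agent.H19.PGV
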