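import Cfsg.Agent.H19.PGV7

set_option autoImplicit false
set_option linter.style.haveILetI false
set_option linter.unusedVariables false

/-! P(G,V)-theorem, part 8: the structure of `[W,K]` in the case of two conjugate components. -/

namespace Cfsg.Agent.H19.PGV

open Cfsg Cfsg.Agent.H10

variable {H W : Type*} [Group H] [AddCommGroup W] [DistribMulAction H W]

/-- noncentral elements of odd order -/
def NO (K : Subgroup H) (y : H) : Prop :=
  y ∈ K ∧ (∃ m, Odd m ∧ y ^ m = 1) ∧ ∃ y' ∈ K, y * y' ≠ y' * y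

theorem NO_conj {K : Subgroup H} {n : H} (hn : ∀ x, x ∈ K ↔ n * x * n⁻¹ ∈ K) {y : H} (hy : NO K y) :
    NO K (n * y * n⁻¹) := by
  obtain ⟨h1, ⟨m, hm, hm1⟩, y', hy', hyy⟩ := hy
  refine ⟨(hn y).mp h1, ⟨m, hm, by rw [conj_pow, hm1]; group⟩, n * y' * n⁻¹, (hn y').mp hy', ?_⟩
  intro h
  apply hyy
  have h3 : n * (y * y') * n⁻¹ = n * (y' * y) * n⁻¹ := by
    calc n * (y * y') * n⁻¹ = (n * y * n⁻¹) * (n * y' * n⁻¹) := by group
      _ = (n * y' * n⁻¹) * (n * y * n⁻¹) := h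
      _ = _ := by group
  exact mul_left_cancel (mul_right_cancel h3)

theorem ca_comm {K : Subgroup H} (hK : IsComponent K) {a : H} (ha : a ^ 2 = 1) (hne : cj a K ≠ K) :
    ∀ x ∈ K, Commute a (x * (a * x * a⁻¹)) := by
  have hai : a⁻¹ = a := by rw [inv_eq_iff_mul_eq_one, ← pow_two, ha]
  have hKa := comp_cj hK a
  intro x hx
  have h1 : x * (a * x * a⁻¹) = (a * x * a⁻¹) * x := cj_comm hK hKa hne.symm x hx _ (cj_mem a hx)
  have : a * (x * (a * x * a⁻¹)) = (a * x * a⁻¹) * x * a := by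
    calc a * (x * (a * x * a⁻¹)) = (a * x * a⁻¹) * (a * (a * x * a⁻¹)) := by group
      _ = (a * x * a⁻¹) * ((a ^ 2) * x * a⁻¹) := by rw [pow_two]; group
      _ = (a * x * a⁻¹) * x * a := by rw [ha, one_mul, hai]; group
  show a * (x * (a * x * a⁻¹)) = x * (a * x * a⁻¹) * a
  rw [this, ← h1]

theorem A2 [Finite W] (h2 : ∀ w : W, 2 • w = 0) {K : Subgroup H} (hK : IsComponent K) {a : H} (ha : a ^ 2 = 1)
    (hne : cj a K ≠ K)
    (hA : ∀ x ∈ K, ∀ w : W, (x * (a * x * a⁻¹)) • (a • w - w) = a • w - w) {y : H} (hy : NO K y) :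
    ∀ w : W, (a * y * a⁻¹) • w = w → ∀ x ∈ K, x • w = w := by
  have hKa := comp_cj hK a
  obtain ⟨hyK, ⟨m, hm, hym⟩, y', hy', hyy⟩ := hy
  have hc : ∀ x ∈ K, ∀ z ∈ K, Commute x (a * z * a⁻¹) := fun x hx z hz =>
    cj_comm hK hKa hne.symm x hx _ (cj_mem a hz)
  have hA1 : ∀ x ∈ K, ∀ w : W, a • ((x * (a * x * a⁻¹)) • w - w) = (x * (a * x * a⁻¹)) • w - w := fun x hx =>
    swap_fix (ca_comm hK ha hne x hx).symm (hA x hx)
  have key : ∀ w : W, (a * y * a⁻¹) • w = w → y • w = w := by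
    intro w hw
    set e := y * (a * y * a⁻¹) with he
    have hem : e ^ m = 1 := by
      rw [he, (hc y hyK y hyK).mul_pow, hym, conj_pow, hym]; simp
    have hce : Commute e (a * y * a⁻¹) := (hc y hyK y hyK).mul_left (Commute.refl _)
    have hcy : Commute y e := (Commute.refl y).mul_right (hc y hyK y hyK)
    have hU : ∀ u ∈ fixE W (a * y * a⁻¹), e • u ∈ fixE W (a * y * a⁻¹) := by
      intro u hu
      rw [mem_fixE] at hu ⊢
      rw [← mul_smul, ← hce.eq, mul_smul, hu]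
    obtain ⟨w₀, hw₀, hew₀, w₁, hw₁, hww⟩ := F2 h2 (Nat.coprime_two_right.mpr hm) hem hU (show w ∈ fixE W (a * y * a⁻¹) from hw)
    have e1 : y • w₀ = w₀ := by
      rw [he, mul_smul, mem_fixE.mp hw₀] at hew₀
      exact hew₀
    set u := e • w₁ - w₁ with hu
    have hau : ∀ w : W, a • (e • w - w) = e • w - w := hA1 y hyK
    have e2 : (a * y * a⁻¹) • u = y • u := by
      have h3 : y • u = e • (y • w₁) - y • w₁ := by
        rw [hu, smul_sub, ← mul_smul, hcy.eq, mul_smul]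
      rw [mul_smul, mul_smul, smul_inv_of_fix (hau w₁), h3, hau]
    have e3 : (a * y * a⁻¹) • u = u := by
      have : u ∈ fixE W (a * y * a⁻¹) := AddSubgroup.sub_mem _ (hU _ hw₁) hw₁
      exact this
    rw [hww, smul_add, e1, ← e2, e3]
  intro w hw x hx
  refine NC3 hK (n := y) (fun z hz => K.mul_mem (K.mul_mem hyK hz) (K.inv_mem hyK)) ⟨y', hy', hyy⟩
    (P := fun w => (a * y * a⁻¹) • w = w) ?_ key x hx w hw
  intro z hz u hu
  show (a * y * a⁻¹) • z • u = z • u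
  rw [← mul_smul, ← (hc z hz y hyK).eq, mul_smul, hu]

theorem A2' [Finite W] (h2 : ∀ w : W, 2 • w = 0) {K : Subgroup H} (hK : IsComponent K) {a : H} (ha : a ^ 2 = 1)
    (hne : cj a K ≠ K)
    (hA : ∀ x ∈ K, ∀ w : W, (x * (a * x * a⁻¹)) • (a • w - w) = a • w - w) {y : H} (hy : NO K y) :
    ∀ w : W, y • w = w → ∀ x ∈ K, (a * x * a⁻¹) • w = w := by
  intro w hw x hx
  have hai : a⁻¹ = a := by rw [inv_eq_iff_mul_eq_one, ← pow_two, ha]
  have h1 : (a * y * a⁻¹) • (a • w) = a • w := by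
    rw [← mul_smul, inv_mul_cancel_right, mul_smul, hw]
  have h3 := A2 h2 hK ha hne hA hy (a • w) h1 x hx
  rw [mul_smul, mul_smul, hai, h3, ← mul_smul, ← pow_two, ha, one_smul]

theorem fixE_eq [Finite W] (h2 : ∀ w : W, 2 • w = 0) {K : Subgroup H} (hK : IsComponent K) {a : H} (ha : a ^ 2 = 1)
    (hne : cj a K ≠ K)
    (hA : ∀ x ∈ K, ∀ w : W, (x * (a * x * a⁻¹)) • (a • w - w) = a • w - w) {y : H} (hy : NO K y) :
    fixE W y = fixS W K ∧ fixE W (a * y * a⁻¹) = fixS W K := by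
  constructor
  · ext w
    constructor
    · intro hw
      exact A2 h2 hK ha hne hA hy w (A2' h2 hK ha hne hA hy w hw y hy.1)
    · intro hw
      exact hw y hy.1
  · ext w
    constructor
    · intro hw
      exact A2 h2 hK ha hne hA hy w hw
    · intro hw
      exact A2' h2 hK ha hne hA hy w (hw y hy.1) y hy.1

/-- the range of `g - 1` -/
def rg (W : Type*) [AddCommGroup W] [DistribMulAction H W] (g : H) : AddSubgroup W := (⊤ : AddSubgroup W).map (dl W g)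

theorem mem_rg (g : H) (w : W) : g • w - w ∈ rg W g := ⟨w, trivial, rfl⟩

theorem card_rg (g : H) : Nat.card (rg W g) * Nat.card (fixE W g) = Nat.card W := by
  have := card_dl g (⊤ : AddSubgroup W)
  rwa [top_inf_eq, AddSubgroup.card_top] at this

theorem rg_eq [Finite W] (h2 : ∀ w : W, 2 • w = 0) {K : Subgroup H} (hK : IsComponent K) {a : H} (ha : a ^ 2 = 1)
    (hne : cj a K ≠ K)
    (hA : ∀ x ∈ K, ∀ w : W, (x * (a * x * a⁻¹)) • (a • w - w) = a • w - w) {y y₁ : H} (hy : NO K y) (hy₁ : NO K y₁) :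
    rg W (a * y₁ * a⁻¹) = rg W y := by
  have hKa := comp_cj hK a
  have h1 := fixE_eq (W := W) h2 hK ha hne hA hy
  have h3 := fixE_eq (W := W) h2 hK ha hne hA hy₁
  have hle : rg W (a * y₁ * a⁻¹) ≤ rg W y := by
    rintro _ ⟨w, _, rfl⟩
    obtain ⟨m, hm, hym⟩ := hy.2.1
    obtain ⟨w₀, -, hyw₀, w₁, -, hw⟩ := F2 h2 (Nat.coprime_two_right.mpr hm) hym (U := ⊤) (fun _ _ => trivial) (show w ∈ (⊤ : AddSubgroup W) from trivial)
    have e1 : w₀ ∈ fixE W (a * y₁ * a⁻¹) := by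
      rw [h3.2, ← h1.1]
      exact hyw₀
    have e2 : (a * y₁ * a⁻¹) • w₀ = w₀ := e1
    have hc : Commute y (a * y₁ * a⁻¹) := cj_comm hK hKa hne.symm y hy.1 _ (cj_mem a hy₁.1)
    have e3 : dl W (a * y₁ * a⁻¹) w = y • ((a * y₁ * a⁻¹) • w₁ - w₁) - ((a * y₁ * a⁻¹) • w₁ - w₁) := by
      rw [dl_apply, hw, smul_add, e2, smul_sub, smul_sub, ← mul_smul _ y, ← hc.eq, mul_smul y]
      abel
    rw [e3]
    exact mem_rg _ _
  have hcard : Nat.card (rg W (a * y₁ * a⁻¹)) = Nat.card (rg W y) := by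
    have c1 := card_rg (W := W) (a * y₁ * a⁻¹)
    have c2 := card_rg (W := W) y
    rw [h3.2] at c1
    rw [h1.1, ← c1] at c2
    have hpos : 0 < Nat.card (fixS W K) := Nat.card_pos
    exact (Nat.eq_of_mul_eq_mul_right hpos c2).symm
  exact AddSubgroup.eq_of_le_of_card_ge hle hcard.ge

end Cfsg.Agent.H19.PGV
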