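import Cfsg.Agent.H19.PGV8

set_option autoImplicit false
set_option linter.style.haveILetI false
set_option linter.unusedVariables false

/-! P(G,V)-theorem, part 9: counting on `X = [W,K]`. -/

namespace Cfsg.Agent.H19.PGV

open Cfsg Cfsg.Agent.H10

variable {H W : Type*} [Group H] [AddCommGroup W] [DistribMulAction H W]

structure CaseA (W : Type*) [AddCommGroup W] [DistribMulAction H W] (A K : Subgroup H) (a₀ n y₀ : H) : Prop where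
  h2 : ∀ w : W, 2 • w = 0
  hK : IsComponent K
  hfaith : ∀ g : H, ∀ m : ℕ, Odd m → g ^ m = 1 → (∀ w : W, g • w = w) → g = 1
  hAc : ∀ a ∈ A, ∀ b ∈ A, a * b = b * a
  hAp : ∀ a ∈ A, a ^ 2 = 1
  hA0 : ∀ a ∈ A, cj a K ≠ K → ∀ x ∈ K, ∀ w : W, (x * (a * x * a⁻¹)) • (a • w - w) = a • w - w
  hN2 : ∀ a ∈ A, ∀ a' ∈ A, cj a K ≠ K → cj a' K ≠ K → cj (a * a') K = K
  ha₀ : a₀ ∈ A
  hne : cj a₀ K ≠ K
  hn : n ∈ A
  hnK : cj n K = K
  hnc : ∃ x ∈ K, n * x ≠ x * n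
  hfix : ∀ a ∈ A, ∀ w : W, n • (a • w - w) = a • w - w
  hy₀ : NO K y₀
  hcard : Nat.card ↥(A ⊓ Subgroup.centralizer (K : Set H)) * Nat.card W ≤ Nat.card A * Nat.card (fixS W A)

namespace CaseA

variable {A K : Subgroup H} {a₀ n y₀ : H}

section
variable [Finite W] (hh : CaseA W A K a₀ n y₀)
include hh

theorem X_eq {y : H} (hy : NO K y) : rg W y = rg W y₀ := by
  have h1 := rg_eq (W := W) hh.h2 hh.hK (hh.hAp a₀ hh.ha₀) hh.hne (hh.hA0 a₀ hh.ha₀ hh.hne) hy hh.hy₀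
  have h3 := rg_eq (W := W) hh.h2 hh.hK (hh.hAp a₀ hh.ha₀) hh.hne (hh.hA0 a₀ hh.ha₀ hh.hne) hh.hy₀ hh.hy₀
  rw [← h1, h3]

theorem X_eq' {a : H} (ha : a ∈ A) (hne : cj a K ≠ K) {y : H} (hy : NO K y) : rg W (a * y * a⁻¹) = rg W y₀ :=
  rg_eq (W := W) hh.h2 hh.hK (hh.hAp a ha) hne (hh.hA0 a ha hne) hh.hy₀ hy

omit hh in
omit [Finite W] in
theorem smul_rg (g : H) (y : H) {x : W} (hx : x ∈ rg W y) : g • x ∈ rg W (g * y * g⁻¹) := by
  obtain ⟨w, _, rfl⟩ := hx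
  refine ⟨g • w, trivial, ?_⟩
  rw [dl_apply, dl_apply, smul_sub, ← mul_smul, ← mul_smul, inv_mul_cancel_right]

theorem X_A {a : H} (ha : a ∈ A) {x : W} (hx : x ∈ rg W y₀) : a • x ∈ rg W y₀ := by
  have h1 := smul_rg a y₀ hx
  by_cases h : cj a K = K
  · rwa [hh.X_eq (NO_conj (cj_eq_iff_norm.mp h) hh.hy₀)] at h1
  · rwa [hh.X_eq' ha h hh.hy₀] at h1

theorem X_K {k : H} (hk : k ∈ K) {x : W} (hx : x ∈ rg W y₀) : k • x ∈ rg W y₀ := by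
  rw [← hh.X_eq' hh.ha₀ hh.hne hh.hy₀] at hx ⊢
  have h1 := smul_rg k _ hx
  have h3 : k * (a₀ * y₀ * a₀⁻¹) = (a₀ * y₀ * a₀⁻¹) * k :=
    cj_comm hh.hK (comp_cj hh.hK a₀) hh.hne.symm k hk _ (cj_mem a₀ hh.hy₀.1)
  rwa [h3, mul_inv_cancel_right] at h1

theorem X_Ka {a : H} (ha : a ∈ A) (hne : cj a K ≠ K) {k : H} (hk : k ∈ cj a K) {x : W} (hx : x ∈ rg W y₀) :
    k • x ∈ rg W y₀ := by
  have h1 := smul_rg k _ hx
  have h3 : y₀ * k = k * y₀ := cj_comm hh.hK (comp_cj hh.hK a) hne.symm y₀ hh.hy₀.1 k hk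
  rwa [← h3, mul_inv_cancel_right] at h1

theorem X_fix {y : H} (hy : NO K y) : rg W y₀ ⊓ fixE W y = ⊥ := by
  obtain ⟨m, hm, hym⟩ := hy.2.1
  rw [← hh.X_eq hy]
  exact map_dl_inf_fixE hh.h2 (Nat.coprime_two_right.mpr hm) hym

omit [Finite W] in
theorem X_ne : rg W y₀ ≠ ⊥ := by
  intro h
  obtain ⟨m, hm, hym⟩ := hh.hy₀.2.1
  have h1 : y₀ = 1 := by
    refine hh.hfaith y₀ m hm hym ?_
    intro w
    have := mem_rg (W := W) y₀ w
    rw [h, AddSubgroup.mem_bot] at this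
    exact sub_eq_zero.mp this
  obtain ⟨y', hy', hyy⟩ := hh.hy₀.2.2
  rw [h1] at hyy
  simp at hyy

theorem sq_fix {n' : H} (hn' : n' ∈ A) (hnK : cj n' K = K) (hnc : ∃ x ∈ K, n' * x ≠ x * n') [Finite H] :
    Nat.card ↥(rg W y₀ ⊓ fixE W n') * Nat.card ↥(rg W y₀ ⊓ fixE W n') = Nat.card (rg W y₀) := by
  have hnorm := cj_eq_iff_norm.mp hnK
  obtain ⟨y, hyK, ⟨m, hm, hym⟩, hinv, hnon⟩ := exists_inverted hh.hK (fun x hx => (hnorm x).mp hx) hnc (hh.hAp n' hn')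
  have hy : NO K y := ⟨hyK, ⟨m, hm, hym⟩, hnon⟩
  refine dih hh.h2 (hh.hAp n' hn') hm hym (fun u hu => hh.X_A hn' hu) (fun u hu => hh.X_K hyK hu) ?_ (hh.X_fix hy)
  intro u _
  rw [← hinv, ← mul_smul, ← mul_smul, inv_mul_cancel_right]

theorem C_eq [Finite H] : rg W y₀ ⊓ fixE W n = rg W y₀ ⊓ fixS W A ∧
    Nat.card ↥(rg W y₀ ⊓ fixS W A) * Nat.card ↥(rg W y₀ ⊓ fixS W A) = Nat.card (rg W y₀) := by
  have h1 := hh.sq_fix hh.hn hh.hnK hh.hnc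
  have h3 := card_dl n (rg W y₀)
  have hle1 : (rg W y₀).map (dl W n) ≤ rg W y₀ ⊓ fixS W A := by
    rintro _ ⟨x, hx, rfl⟩
    refine ⟨AddSubgroup.sub_mem _ (hh.X_A hh.hn hx) hx, ?_⟩
    intro c hc
    exact swap_fix (show Commute n c from hh.hAc n hh.hn c hc) (hh.hfix c hc) x
  have hle2 : rg W y₀ ⊓ fixS W A ≤ rg W y₀ ⊓ fixE W n := fun x hx => ⟨hx.1, hx.2 n hh.hn⟩
  have hpos : 0 < Nat.card ↥(rg W y₀ ⊓ fixE W n) := Nat.card_pos
  have h4 : Nat.card ((rg W y₀).map (dl W n)) = Nat.card ↥(rg W y₀ ⊓ fixE W n) := by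
    rw [← h1] at h3
    exact Nat.eq_of_mul_eq_mul_right hpos h3
  have h5 : Nat.card ((rg W y₀).map (dl W n)) ≤ Nat.card ↥(rg W y₀ ⊓ fixS W A) :=
    Nat.card_le_card_of_injective (AddSubgroup.inclusion hle1) (AddSubgroup.inclusion_injective hle1)
  have h6 : rg W y₀ ⊓ fixS W A = rg W y₀ ⊓ fixE W n := by
    apply AddSubgroup.eq_of_le_of_card_ge hle2
    rw [← h4]
    exact h5
  refine ⟨h6.symm, ?_⟩
  rw [h6]
  exact h1

theorem C_eq' [Finite H] {n' : H} (hn' : n' ∈ A) (hnK : cj n' K = K) (hnc : ∃ x ∈ K, n' * x ≠ x * n') :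
    rg W y₀ ⊓ fixE W n' = rg W y₀ ⊓ fixS W A := by
  have h1 := hh.sq_fix hn' hnK hnc
  have h3 := hh.C_eq.2
  rw [← h3] at h1
  have h4 : Nat.card ↥(rg W y₀ ⊓ fixE W n') = Nat.card ↥(rg W y₀ ⊓ fixS W A) := Nat.mul_self_inj.mp h1
  have hle2 : rg W y₀ ⊓ fixS W A ≤ rg W y₀ ⊓ fixE W n' := fun x hx => ⟨hx.1, hx.2 n' hn'⟩
  exact (AddSubgroup.eq_of_le_of_card_ge hle2 h4.le).symm

/-- `|N₀| q ≤ |A|` -/
theorem q_le [Finite H] : Nat.card ↥(A ⊓ Subgroup.centralizer (K : Set H)) * Nat.card ↥(rg W y₀ ⊓ fixS W A) ≤ Nat.card A := by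
  have h1 := card_mul_le_sup_add (rg W y₀) (fixS W A)
  have h3 : Nat.card ↥(rg W y₀ ⊔ fixS W A) ≤ Nat.card W := Nat.card_le_card_of_injective _ Subtype.val_injective
  have h4 := hh.C_eq.2
  have h5 := hh.hcard
  have hWpos : 0 < Nat.card W := Nat.card_pos
  set q := Nat.card ↥(rg W y₀ ⊓ fixS W A) with hq
  set x := Nat.card (rg W y₀) with hx
  set N := Nat.card ↥(A ⊓ Subgroup.centralizer (K : Set H)) with hN
  have hqpos : 0 < q := Nat.card_pos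
  have h6 : N * Nat.card W * x ≤ Nat.card A * (Nat.card W * q) := by
    calc N * Nat.card W * x ≤ Nat.card A * Nat.card (fixS W A) * x := Nat.mul_le_mul_right _ h5
      _ = Nat.card A * (x * Nat.card (fixS W A)) := by ring
      _ ≤ Nat.card A * (Nat.card ↥(rg W y₀ ⊔ fixS W A) * q) := Nat.mul_le_mul_left _ h1
      _ ≤ Nat.card A * (Nat.card W * q) := Nat.mul_le_mul_left _ (Nat.mul_le_mul_right _ h3)
  have h7 : (N * q) * (Nat.card W * q) ≤ Nat.card A * (Nat.card W * q) := by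
    calc (N * q) * (Nat.card W * q) = N * Nat.card W * (q * q) := by ring
      _ = N * Nat.card W * x := by rw [h4]
      _ ≤ _ := h6
  exact Nat.le_of_mul_le_mul_right h7 (Nat.mul_pos hWpos hqpos)

/-- `c(a)² |X₋| = |X|²` -/
theorem c_sq [Finite H] {a : H} (ha : a ∈ A) (hne : cj a K ≠ K) {y : H} (hy : NO K y) :
    Nat.card ↥(rg W y₀ ⊓ fixE W a) * Nat.card ↥(rg W y₀ ⊓ fixE W a) * Nat.card ↥(rg W y₀ ⊓ fixE W (y * (a * y * a⁻¹)))
      = Nat.card (rg W y₀) * Nat.card (rg W y₀) := by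
  have ha2 := hh.hAp a ha
  have hai : a⁻¹ = a := by rw [inv_eq_iff_mul_eq_one, ← pow_two, ha2]
  have hKa := comp_cj hh.hK a
  obtain ⟨m, hm, hym⟩ := hy.2.1
  have hcy : Commute y (a * y * a⁻¹) := cj_comm hh.hK hKa hne.symm y hy.1 _ (cj_mem a hy.1)
  set e := y * (a * y * a⁻¹) with he
  have hem : e ^ m = 1 := by
    rw [he, hcy.mul_pow, hym, conj_pow, hym]; simp
  have hca : Commute a e := ca_comm hh.hK ha2 hne y hy.1
  have hcye : Commute y e := (Commute.refl y).mul_right hcy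
  have hA1 : ∀ w : W, a • (e • w - w) = e • w - w := swap_fix hca.symm (hh.hA0 a ha hne y hy.1)
  have hXe : ∀ x ∈ rg W y₀, e • x ∈ rg W y₀ := by
    intro x hx
    rw [he, mul_smul]
    exact hh.X_K hy.1 (hh.X_Ka ha hne (cj_mem a hy.1) hx)
  -- dihedral action on `X₋`
  have hd := dih hh.h2 (t := a) (y := y) ha2 hm hym (U := rg W y₀ ⊓ fixE W e) (by
      rintro u ⟨hu1, hu2⟩
      have hu2' : e • u = u := hu2
      refine ⟨hh.X_A ha hu1, ?_⟩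
      show e • a • u = a • u
      rw [← mul_smul, ← hca.eq, mul_smul, hu2']) (by
      rintro u ⟨hu1, hu2⟩
      have hu2' : e • u = u := hu2
      refine ⟨hh.X_K hy.1 hu1, ?_⟩
      show e • y • u = y • u
      rw [← mul_smul, ← hcye.eq, mul_smul, hu2']) (by
      rintro u ⟨hu1, hu2⟩
      have hu2' : e • u = u := hu2
      have hu3 : e • (a • u) = a • u := by
        rw [← mul_smul, ← hca.eq, mul_smul, hu2']
      rw [he, mul_smul] at hu3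
      rw [eq_inv_smul_iff]
      rw [mul_smul, mul_smul, inv_smul_smul] at hu3
      exact hu3) (by
      rw [eq_bot_iff, ← hh.X_fix hy]
      exact fun u hu => ⟨hu.1.1, hu.2⟩)
  -- `[X,a] = [X₋,a]`
  have hmap : (rg W y₀).map (dl W a) = (rg W y₀ ⊓ fixE W e).map (dl W a) := by
    apply le_antisymm
    · rintro _ ⟨x, hx, rfl⟩
      obtain ⟨x₀, hx₀, hex₀, x₁, hx₁, hxx⟩ := F2 hh.h2 (Nat.coprime_two_right.mpr hm) hem hXe hx
      refine ⟨x₀, ⟨hx₀, hex₀⟩, ?_⟩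
      rw [dl_apply, dl_apply, hxx, smul_add, hA1]
      abel
    · exact AddSubgroup.map_mono inf_le_left
  have c1 := card_dl a (rg W y₀)
  have c2 := card_dl a (rg W y₀ ⊓ fixE W e)
  rw [← hmap] at c2
  set c := Nat.card ↥(rg W y₀ ⊓ fixE W a) with hc
  set d := Nat.card ((rg W y₀).map (dl W a)) with hdd
  set x := Nat.card (rg W y₀) with hx
  set s := Nat.card ↥(rg W y₀ ⊓ fixE W e) with hs
  set f := Nat.card ↥(rg W y₀ ⊓ fixE W e ⊓ fixE W a) with hf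
  haveI : Finite ↥(rg W y₀ ⊓ fixE W e ⊓ fixE W a) := inferInstance
  have hfpos : 0 < f := Nat.card_pos
  have hdf : d = f := by
    rw [← hd] at c2
    exact Nat.eq_of_mul_eq_mul_right hfpos c2
  rw [← c1, ← hd, hdf]
  ring

/-- `c(a₁) c(a₂) = q³` -/
theorem c_mul [Finite H] {a₁ a₂ : H} (ha₁ : a₁ ∈ A) (hne₁ : cj a₁ K ≠ K) (ha₂ : a₂ ∈ A) (hne₂ : cj a₂ K ≠ K)
    (hnc : ∃ x ∈ K, (a₁⁻¹ * a₂) * x ≠ x * (a₁⁻¹ * a₂)) :
    Nat.card ↥(rg W y₀ ⊓ fixE W a₁) * Nat.card ↥(rg W y₀ ⊓ fixE W a₂) =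
      Nat.card ↥(rg W y₀ ⊓ fixS W A) * Nat.card ↥(rg W y₀ ⊓ fixS W A) * Nat.card ↥(rg W y₀ ⊓ fixS W A) := by
  have ha₁2 := hh.hAp a₁ ha₁
  have hai : a₁⁻¹ = a₁ := by rw [inv_eq_iff_mul_eq_one, ← pow_two, ha₁2]
  set n' := a₁⁻¹ * a₂ with hn'
  have hn'A : n' ∈ A := A.mul_mem (A.inv_mem ha₁) ha₂
  have hn'K : cj n' K = K := by
    rw [hn', hai]
    exact hh.hN2 a₁ ha₁ a₂ ha₂ hne₁ hne₂
  have hnorm := cj_eq_iff_norm.mp hn'K
  obtain ⟨y, hyK, ⟨m, hm, hym⟩, hinv, hnon⟩ := exists_inverted hh.hK (fun x hx => (hnorm x).mp hx) hnc (hh.hAp n' hn'A)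
  have hy : NO K y := ⟨hyK, ⟨m, hm, hym⟩, hnon⟩
  have ea₂ : a₂ = a₁ * n' := by rw [hn']; group
  have hy2 : a₂ * y * a₂⁻¹ = (a₁ * y * a₁⁻¹)⁻¹ := by
    calc a₂ * y * a₂⁻¹ = a₁ * (n' * y * n'⁻¹) * a₁⁻¹ := by rw [ea₂]; group
      _ = (a₁ * y * a₁⁻¹)⁻¹ := by rw [hinv]; group
  have s1 := hh.c_sq ha₁ hne₁ hy
  have s2 := hh.c_sq ha₂ hne₂ hy
  have hcy1 : Commute y (a₁ * y * a₁⁻¹) := cj_comm hh.hK (comp_cj hh.hK a₁) hne₁.symm y hy.1 _ (cj_mem a₁ hy.1)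
  have hcy2 : Commute y (a₂ * y * a₂⁻¹) := cj_comm hh.hK (comp_cj hh.hK a₂) hne₂.symm y hy.1 _ (cj_mem a₂ hy.1)
  set e₁ := y * (a₁ * y * a₁⁻¹) with he₁
  set e₂ := y * (a₂ * y * a₂⁻¹) with he₂
  set X := rg W y₀ with hX
  have m1 := card_dl e₁ X
  have m2 := card_dl e₂ X
  have hbot : ∀ u ∈ X, y • y • u = u → u = 0 := by
    intro u hu h
    have h1 : y • u = u := fix_of_sq_fix hm hym h
    have h3 : u ∈ X ⊓ fixE W y := ⟨hu, h1⟩
    rw [hh.X_fix hy] at h3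
    exact h3
  -- the minus parts intersect trivially
  have i1 : (X ⊓ fixE W e₁) ⊓ (X ⊓ fixE W e₂) = ⊥ := by
    rw [eq_bot_iff]
    rintro u ⟨⟨huX, hu1'⟩, ⟨_, hu2'⟩⟩
    have hu1 : e₁ • u = u := hu1'
    have hu2 : e₂ • u = u := hu2'
    refine hbot u huX ?_
    rw [he₁, hcy1.eq, mul_smul] at hu1
    rw [he₂, hcy2.eq, mul_smul, hy2, inv_smul_eq_iff] at hu2
    -- hu2 : y • u = (a₁ y a₁⁻¹) • u
    have hu3 : (a₁ * y * a₁⁻¹) • y • u = y • (a₁ * y * a₁⁻¹) • u := by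
      rw [← mul_smul, ← hcy1.eq, mul_smul]
    rw [hu3, ← hu2] at hu1
    exact hu1
  -- the plus parts intersect trivially
  have i2 : X.map (dl W e₁) ⊓ X.map (dl W e₂) = ⊥ := by
    have hplus : ∀ a, a ∈ A → cj a K ≠ K → ∀ u ∈ X.map (dl W (y * (a * y * a⁻¹))), (a * y * a⁻¹) • u = y • u := by
      rintro a ha hne _ ⟨w, _, rfl⟩
      have hcy : Commute y (a * y * a⁻¹) := cj_comm hh.hK (comp_cj hh.hK a) hne.symm y hy.1 _ (cj_mem a hy.1)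
      have hA1 : ∀ w : W, a • ((y * (a * y * a⁻¹)) • w - w) = (y * (a * y * a⁻¹)) • w - w :=
        swap_fix (ca_comm hh.hK (hh.hAp a ha) hne y hy.1).symm (hh.hA0 a ha hne y hy.1)
      set e := y * (a * y * a⁻¹) with he
      have hcye : Commute y e := (Commute.refl y).mul_right hcy
      have h3 : y • (e • w - w) = e • (y • w) - y • w := by
        rw [smul_sub, ← mul_smul, hcye.eq, mul_smul]
      rw [dl_apply, mul_smul, mul_smul, smul_inv_of_fix (hA1 w), h3, hA1]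
    rw [eq_bot_iff]
    rintro u ⟨hu1, hu2⟩
    have huX : u ∈ X := map_dl_le (fun x hx => by
      rw [he₁, mul_smul]
      exact hh.X_K hy.1 (hh.X_Ka ha₁ hne₁ (cj_mem a₁ hy.1) hx)) hu1
    refine hbot u huX ?_
    have f1 := hplus a₁ ha₁ hne₁ u hu1
    have f2 := hplus a₂ ha₂ hne₂ u hu2
    rw [hy2, inv_smul_eq_iff] at f2
    -- f2 : u = (a₁ y a₁⁻¹) • y • u
    have f3 : (a₁ * y * a₁⁻¹) • y • u = y • (a₁ * y * a₁⁻¹) • u := by
      rw [← mul_smul, ← hcy1.eq, mul_smul]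
    rw [f3, f1] at f2
    exact f2.symm
  have n1 := card_mul_le_sup_add (X ⊓ fixE W e₁) (X ⊓ fixE W e₂)
  have n2 := card_mul_le_sup_add (X.map (dl W e₁)) (X.map (dl W e₂))
  rw [i1, AddSubgroup.card_bot, mul_one] at n1
  rw [i2, AddSubgroup.card_bot, mul_one] at n2
  have hXe : ∀ a, a ∈ A → cj a K ≠ K → ∀ x ∈ X, (y * (a * y * a⁻¹)) • x ∈ X := by
    intro a ha hne x hx
    rw [mul_smul]
    exact hh.X_K hy.1 (hh.X_Ka ha hne (cj_mem a hy.1) hx)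
  have l1 : Nat.card ↥((X ⊓ fixE W e₁) ⊔ (X ⊓ fixE W e₂)) ≤ Nat.card X := by
    have hle : (X ⊓ fixE W e₁) ⊔ (X ⊓ fixE W e₂) ≤ X := sup_le inf_le_left inf_le_left
    exact Nat.card_le_card_of_injective (AddSubgroup.inclusion hle) (AddSubgroup.inclusion_injective hle)
  have l2 : Nat.card ↥(X.map (dl W e₁) ⊔ X.map (dl W e₂)) ≤ Nat.card X := by
    have hle : X.map (dl W e₁) ⊔ X.map (dl W e₂) ≤ X :=
      sup_le (map_dl_le (hXe a₁ ha₁ hne₁)) (map_dl_le (hXe a₂ ha₂ hne₂))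
    exact Nat.card_le_card_of_injective (AddSubgroup.inclusion hle) (AddSubgroup.inclusion_injective hle)
  have hq := hh.C_eq.2
  have hXpos : 0 < Nat.card X := Nat.card_pos
  set c₁ := Nat.card ↥(X ⊓ fixE W a₁) with hc₁
  set c₂ := Nat.card ↥(X ⊓ fixE W a₂) with hc₂
  set t₁ := Nat.card ↥(X ⊓ fixE W e₁) with ht₁
  set t₂ := Nat.card ↥(X ⊓ fixE W e₂) with ht₂
  set u₁ := Nat.card (X.map (dl W e₁)) with hu₁
  set u₂ := Nat.card (X.map (dl W e₂)) with hu₂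
  set q := Nat.card ↥(X ⊓ fixS W A) with hqq
  set x := Nat.card X with hx
  have n1' : t₁ * t₂ ≤ x := n1.trans l1
  have n2' : u₁ * u₂ ≤ x := n2.trans l2
  -- t₁ t₂ = x
  have hprod : (u₁ * u₂) * (t₁ * t₂) = x * x := by
    calc (u₁ * u₂) * (t₁ * t₂) = (u₁ * t₁) * (u₂ * t₂) := by ring
      _ = x * x := by rw [m1, m2]
  have ht : t₁ * t₂ = x := by
    apply le_antisymm n1'
    by_contra hlt
    push Not at hlt
    have : (u₁ * u₂) * (t₁ * t₂) < x * x := by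
      calc (u₁ * u₂) * (t₁ * t₂) ≤ x * (t₁ * t₂) := Nat.mul_le_mul_right _ n2'
        _ < x * x := Nat.mul_lt_mul_of_pos_left hlt hXpos
    omega
  have h5 : (c₁ * c₂) * (c₁ * c₂) * x = (x * x) * (x * x) := by
    calc (c₁ * c₂) * (c₁ * c₂) * x = (c₁ * c₂) * (c₁ * c₂) * (t₁ * t₂) := by rw [ht]
      _ = (c₁ * c₁ * t₁) * (c₂ * c₂ * t₂) := by ring
      _ = (x * x) * (x * x) := by rw [s1, s2]
  have h6 : (c₁ * c₂) * (c₁ * c₂) * x = (q * q * q) * (q * q * q) * x := by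
    rw [h5, ← hq]; ring
  have h7 : (c₁ * c₂) * (c₁ * c₂) = (q * q * q) * (q * q * q) := Nat.eq_of_mul_eq_mul_right hXpos h6
  exact Nat.mul_self_inj.mp h7

end

end CaseA

end Cfsg.Agent.H19.PGV
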