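import Mathlib
import Cfsg.Agent.H19.SCFus3
import Cfsg.Agent.H2.StabSec

/-!
# Control of fusion: only local subgroups above `Z(S)`
-/

set_option autoImplicit false
set_option linter.style.haveILetI false
set_option linter.unusedSectionVars false

universe u

namespace Cfsg.Agent.H19

open Cfsg Cfsg.Agent.H2 Cfsg.Agent.L
open scoped commutatorElement

variable {G : Type u} [Group G] [Finite G] {p : ℕ} [hp : Fact p.Prime] {W : ∀ (S : Type u) [Group S], Subgroup S}

/-- all conjugates of `T` in `S` contain their centralizers in `S` -/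
def FCen (S T : Subgroup G) : Prop :=
  ∀ g : G, cj g T ≤ S → S ⊓ Subgroup.centralizer ((cj g T : Subgroup G) : Set G) ≤ cj g T

theorem FCen.mono {S T T' : Subgroup G} (h : FCen S T) (hTT' : T ≤ T') : FCen S T' := by
  intro g hg
  have h1 := h g ((cj_mono hTT').trans hg)
  refine le_trans (le_inf inf_le_left ?_) (h1.trans (cj_mono hTT'))
  exact inf_le_right.trans (Subgroup.centralizer_le (cj_mono hTT'))

theorem FCen.conj {S T : Subgroup G} (h : FCen S T) (k : G) : FCen S (cj k T) := by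
  intro g hg
  rw [cj_cj] at hg ⊢
  exact h _ hg

theorem FCen.center_le {S T : Subgroup G} (h : FCen S T) {g : G} (hg : cj g T ≤ S) :
    S ⊓ Subgroup.centralizer (S : Set G) ≤ cj g T := by
  refine le_trans (le_inf inf_le_left ?_) (h g hg)
  exact inf_le_right.trans (Subgroup.centralizer_le hg)

/-- the chain argument -/
theorem chain_cen (hW : NPCFun p W)
    (hWZ : ∀ T : Subgroup G, IsPGroup p T → T ⊓ Subgroup.centralizer (T : Set G) ≤ WA W T)
    {S : Subgroup G} (hS : SylIn p S ⊤)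
    (hloc : ∀ U : Subgroup G, S ⊓ Subgroup.centralizer (S : Set G) ≤ U → FN p S U →
      MtIn (nz (WA W (S ⊓ nz U))) (S ⊓ nz U) (nz U))
    {q : ℕ} (hbig : ∀ (R : Subgroup G) (g : G), R ≤ S → cj g R ≤ S → q < Nat.card R → Mt (nz (WA W S)) R g) :
    ∀ (n : ℕ) (U : Subgroup G), Nat.card S - Nat.card (↥(S ⊓ nz U)) ≤ n →
      S ⊓ Subgroup.centralizer (S : Set G) ≤ U → FN p S U → FCen S (S ⊓ nz U) →
      q ≤ Nat.card (↥(S ⊓ nz U)) → MtIn (nz (WA W S)) (S ⊓ nz U) (nz U) := by
  intro n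
  induction n using Nat.strong_induction_on with
  | _ n ih =>
  intro U hn hUZ hU hcen hq A x hx hA hxA
  have hSp := hS.isPGroup
  obtain ⟨T, hT⟩ : ∃ T, T = S ⊓ nz U := ⟨_, rfl⟩
  have hTS : T ≤ S := hT ▸ inf_le_left
  have hl := hloc U hUZ hU
  rw [← hT] at hn hq hA hxA hl hcen
  obtain ⟨y, hy, hyA⟩ := hl A x hx hA hxA
  rcases eq_or_lt_of_le hTS with hTeq | hTlt
  · rw [hTeq] at hy
    exact ⟨y, hy, hyA⟩
  obtain ⟨U₁, hU₁⟩ : ∃ U₁, U₁ = WA W T := ⟨_, rfl⟩
  rw [← hU₁] at hy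
  have hU₁S : U₁ ≤ S := by rw [hU₁]; exact (WA_le _).trans hTS
  have hTp : IsPGroup p T := hSp.to_le hTS
  -- `N_S(T) ≤ N(U₁)`
  have hnzT : S ⊓ nz T ≤ nz U₁ := by
    rw [hU₁]
    exact inf_le_right.trans (hW.normalizer_le T)
  obtain ⟨V, hV⟩ : ∃ V, V = S ⊓ nz U₁ := ⟨_, rfl⟩
  have hVS : V ≤ S := hV ▸ inf_le_left
  have hTV : T < V := by
    refine lt_of_lt_of_le (lt_inf_nz hSp hTlt) ?_
    rw [hV]
    exact le_inf inf_le_left hnzT
  have hTV' := card_lt_of_lt hTV
  obtain ⟨U', ⟨g₀, hg₀⟩, hU'⟩ := exists_fn S hS U₁ hU₁S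
  obtain ⟨k, hk, hk2, hk3⟩ := hU'.exists_conj hSp hg₀
  obtain ⟨h, hh⟩ : ∃ h, h = k * g₀ := ⟨_, rfl⟩
  rw [← hh, ← hV] at hk2
  rw [← hh] at hk3
  have hMh : Mt (nz (WA W S)) V h := hbig V h hVS (hk2.trans inf_le_left) (lt_of_le_of_lt hq hTV')
  have hcVU' : Nat.card V ≤ Nat.card (↥(S ⊓ nz U')) := by
    rw [← card_cj h V]; exact card_le_of_le hk2
  have hcU'S : Nat.card (↥(S ⊓ nz U')) ≤ Nat.card S := card_le_of_le inf_le_left
  have hAV : A ≤ V := hA.trans hTV.le
  have hyA' : cj y A ≤ T := by rw [Mt.cj_eq hyA]; exact hxA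
  have hyV : cj y A ≤ V := hyA'.trans hTV.le
  have hhT : cj h T ≤ S ⊓ nz U' := (cj_mono hTV.le).trans hk2
  have hZh : S ⊓ Subgroup.centralizer (S : Set G) ≤ cj h T := hcen.center_le (hhT.trans inf_le_left)
  have hZU' : S ⊓ Subgroup.centralizer (S : Set G) ≤ U' := by
    rw [← hk3, hU₁, ← WA_cj hW]
    refine le_trans ?_ (hWZ (cj h T) (cj_isPGroup hTp))
    exact le_inf hZh (inf_le_right.trans (Subgroup.centralizer_le (hhT.trans inf_le_left)))
  -- induction hypothesis for `U'`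
  have h1 := ih (Nat.card S - Nat.card (↥(S ⊓ nz U'))) (by omega) U' le_rfl hZU' hU'
    ((hcen.conj h).mono hhT) (by omega) (cj h A) (h * y * h⁻¹)
    (by
      rw [← hk3, nz_cj, mem_cj]
      have e : h⁻¹ * (h * y * h⁻¹) * h = y := by group
      rw [e]; exact hy)
    ((cj_mono hAV).trans hk2)
    (by
      rw [cj_cj]
      have e : h * y * h⁻¹ * h = h * y := by group
      rw [e, ← cj_cj]
      exact (cj_mono hyV).trans hk2)
  -- assemble
  have h2 : Mt (nz (WA W S)) A (h * y * h⁻¹ * h) := (hMh.mono hAV).trans h1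
  have e : h * y * h⁻¹ * h = h * y := by group
  rw [e] at h2
  have h3 : Mt (nz (WA W S)) (cj h (cj y A)) h⁻¹ := (hMh.mono hyV).symm
  have h4 : Mt (nz (WA W S)) A (h⁻¹ * (h * y)) := by
    apply h2.trans
    rw [← cj_cj]; exact h3
  rw [inv_mul_cancel_left] at h4
  exact h4.congr hyA

/-- a fully normalized subgroup containing its centralizer in `S` is centric -/
theorem fcen_of_fn {S U : Subgroup G} (hS : SylIn p S ⊤) (hU : FN p S U)
    (h : S ⊓ Subgroup.centralizer (U : Set G) ≤ U) : FCen S U := by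
  intro g hg
  -- `S ∩ C(U)` is Sylow in `C(U)`
  have hCn : Subgroup.centralizer (U : Set G) ≤ nz U := centralizer_le_normalizer U
  have h1 : SylIn p ((S ⊓ nz U) ⊓ Subgroup.centralizer (U : Set G)) (Subgroup.centralizer (U : Set G)) :=
    hU.2.inf_normal' (nz_le_nz_cent U) hCn
  have h2 : (S ⊓ nz U) ⊓ Subgroup.centralizer (U : Set G) = U ⊓ Subgroup.centralizer (U : Set G) := by
    apply le_antisymm
    · refine le_inf ?_ inf_le_right
      exact (le_inf (inf_le_left.trans inf_le_left) inf_le_right).trans h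
    · exact le_inf (inf_le_left.trans hU.ge_self) inf_le_right
  rw [h2] at h1
  have h3 := h1.cj g
  have h4 : cj g (U ⊓ Subgroup.centralizer (U : Set G)) = cj g U ⊓ Subgroup.centralizer ((cj g U : Subgroup G) : Set G) := by
    rw [cj_inf, cent_cj]
  rw [h4, ← cent_cj] at h3
  have h5 : cj g U ⊓ Subgroup.centralizer ((cj g U : Subgroup G) : Set G) =
      S ⊓ Subgroup.centralizer ((cj g U : Subgroup G) : Set G) :=
    h3.eq_of_le (hS.isPGroup.to_le inf_le_left) inf_le_right (inf_le_inf_right _ hg)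
  rw [← h5]
  exact inf_le_left

/-- local control above `Z(S)` implies global control -/
theorem mtAll_of_local_cen (hW : NPCFun p W)
    (hWZ : ∀ T : Subgroup G, IsPGroup p T → T ⊓ Subgroup.centralizer (T : Set G) ≤ WA W T)
    {S : Subgroup G} (hS : SylIn p S ⊤)
    (hloc : ∀ U : Subgroup G, S ⊓ Subgroup.centralizer (S : Set G) ≤ U → FN p S U →
      MtIn (nz (WA W (S ⊓ nz U))) (S ⊓ nz U) (nz U)) :
    MtAll (nz (WA W S)) S := by
  have hSp := hS.isPGroup
  have key : ∀ (n : ℕ) (Q : Subgroup G) (g : G), Nat.card S - Nat.card Q ≤ n → Q ≤ S → cj g Q ≤ S →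
      Mt (nz (WA W S)) Q g := by
    intro n
    induction n using Nat.strong_induction_on with
    | _ n ih =>
    intro Q g hn hQ hgQ
    rcases eq_or_lt_of_le hQ with hQS | hQS
    · subst hQS
      have h1 : g ∈ nz Q := mem_nz_iff.2 (eq_of_le_of_card_le hgQ (card_cj _ _).ge)
      exact Mt.of_mem (hW.normalizer_le Q h1)
    have hbig : ∀ (R : Subgroup G) (g : G), R ≤ S → cj g R ≤ S → Nat.card Q < Nat.card R → Mt (nz (WA W S)) R g := by
      intro R k hR hkR hlt
      have := card_le_of_le hR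
      exact ih (Nat.card S - Nat.card R) (by omega) R k le_rfl hR hkR
    obtain ⟨U, ⟨g₀, hg₀⟩, hU⟩ := exists_fn S hS Q hQ
    obtain ⟨k, hk, hk2, hk3⟩ := hU.exists_conj hSp hg₀
    obtain ⟨h, hh⟩ : ∃ h, h = k * g₀ := ⟨_, rfl⟩
    rw [← hh] at hk2 hk3
    obtain ⟨Q₂, hQ₂⟩ : ∃ Q₂, Q₂ = cj g Q := ⟨_, rfl⟩
    have hQ₂U : cj (h * g⁻¹) Q₂ = U := by
      rw [hQ₂, cj_cj, inv_mul_cancel_right]; exact hk3
    obtain ⟨l, hl, hl2, hl3⟩ := hU.exists_conj hSp hQ₂U
    have hQ₂S : Q₂ < S := by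
      refine lt_of_le_of_ne (hQ₂ ▸ hgQ) (fun e => ?_)
      have h5 : Nat.card Q₂ = Nat.card Q := by rw [hQ₂, card_cj]
      have h6 := card_lt_of_lt hQS
      rw [e] at h5
      omega
    have n1 : Nat.card Q < Nat.card (↥(S ⊓ nz Q)) := card_lt_of_lt (lt_inf_nz hSp hQS)
    have n2 : Nat.card Q < Nat.card (↥(S ⊓ nz Q₂)) := by
      have h5 : Nat.card Q₂ = Nat.card Q := by rw [hQ₂, card_cj]
      rw [← h5]
      exact card_lt_of_lt (lt_inf_nz hSp hQ₂S)
    have m1 : Mt (nz (WA W S)) Q h := (hbig _ h inf_le_left (hk2.trans inf_le_left) n1).mono (nz_inf_of_le hQ)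
    have m2 : Mt (nz (WA W S)) Q₂ (l * (h * g⁻¹)) :=
      (hbig _ _ inf_le_left (hl2.trans inf_le_left) n2).mono (nz_inf_of_le hQ₂S.le)
    have hUc : Nat.card U = Nat.card Q := by rw [← hk3, card_cj]
    have m3 : Mt (nz (WA W S)) U l := by
      by_cases hcen : S ⊓ Subgroup.centralizer (U : Set G) ≤ U
      · have hfc := fcen_of_fn hS hU hcen
        refine chain_cen hW hWZ hS hloc hbig _ U le_rfl ?_ hU (hfc.mono hU.ge_self) ?_ U l hl hU.ge_self ?_
        · exact le_trans (le_inf inf_le_left (inf_le_right.trans (Subgroup.centralizer_le hU.1))) hcen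
        · rw [← hUc]; exact card_le_of_le hU.ge_self
        · rw [mem_nz_iff.1 hl]; exact hU.ge_self
      · -- Frattini
        obtain ⟨C, hC⟩ : ∃ C, C = Subgroup.centralizer (U : Set G) := ⟨_, rfl⟩
        obtain ⟨E, hE⟩ : ∃ E, E = (S ⊓ nz U) ⊓ C := ⟨_, rfl⟩
        have hCn : C ≤ nz U := hC ▸ centralizer_le_normalizer U
        have hES : E ≤ S := by rw [hE]; exact inf_le_left.trans inf_le_left
        have h1 : SylIn p E C := by
          rw [hE, hC]
          exact hU.2.inf_normal' (nz_le_nz_cent U) (hC ▸ hCn)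
        have hlC : cj l C = C := by
          rw [hC]
          exact mem_nz_iff.1 (nz_le_nz_cent U hl)
        have h2 : SylIn p (cj l E) C := by
          have := h1.cj l
          rwa [hlC] at this
        obtain ⟨c, hc, hcE⟩ := h2.exists_conj_eq h1
        rw [cj_cj] at hcE
        -- `c * l` normalizes `E` and `U`
        have hcl : Mt (nz (WA W S)) (U ⊔ E) (c * l) := by
          apply hbig
          · exact sup_le hU.1 hES
          · rw [cj_sup, hcE, mem_nz_iff.1 (mul_mem (hCn hc) hl)]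
            exact sup_le hU.1 hES
          · rw [← hUc]
            apply card_lt_of_lt
            refine lt_of_le_of_ne le_sup_left (fun e => hcen ?_)
            have h3 : S ⊓ Subgroup.centralizer (U : Set G) ≤ E := by
              rw [hE, ← hC]
              exact le_inf (le_inf inf_le_left (inf_le_right.trans hCn)) inf_le_right
            refine h3.trans ?_
            rw [e]; exact le_sup_right
        have hcl' : Mt (nz (WA W S)) U (c * l) := hcl.mono le_sup_left
        refine hcl'.congr (fun a ha => ?_)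
        have h4 : l * a * l⁻¹ ∈ U := (Subgroup.mem_normalizer_iff.1 hl a).1 ha
        rw [hC] at hc
        have h5 := Subgroup.mem_centralizer_iff.1 hc _ h4
        have e : c * l * a * (c * l)⁻¹ = c * (l * a * l⁻¹) * c⁻¹ := by group
        rw [e, ← h5]; group
    have m4 : Mt (nz (WA W S)) U (l * (h * g⁻¹))⁻¹ := by
      have := m2.symm
      rwa [hl3] at this
    have m5 : Mt (nz (WA W S)) Q (l * h) := m1.trans (by rw [hk3]; exact m3)
    have m6 : Mt (nz (WA W S)) Q ((l * (h * g⁻¹))⁻¹ * (l * h)) := by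
      apply m5.trans
      rw [← cj_cj, hk3, mem_nz_iff.1 hl]
      exact m4
    have e : (l * (h * g⁻¹))⁻¹ * (l * h) = g := by group
    rwa [e] at m6
  intro A g hA hgA
  exact key _ A g le_rfl hA hgA

/-- `SL₂(p)`-free groups -/
theorem sfc_of_slfree (hp2 : p ≠ 2) (hW : SCFun p W)
    (h : ¬ HasSec G (Matrix.SpecialLinearGroup (Fin 2) (ZMod p))) : SFC p W G := by
  refine sfc_class hW (fun G _ => ¬ HasSec G (Matrix.SpecialLinearGroup (Fin 2) (ZMod p)))
    (fun G _ _ hG L hL => hG hL.of_subgroup)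
    (fun G _ _ hG N _ hN => hG (hN.of_surjective (QuotientGroup.mk'_surjective N)))
    (fun G _ _ hG _ P _ hP => isPStableOn_of_not_SLConcl hp2 (fun h' => hG h'.hasSec) P hP) _ G rfl h

theorem center_le_WA_ZJa (T : Subgroup G) : T ⊓ Subgroup.centralizer (T : Set G) ≤
    WA (fun (S : Type u) [Group S] => Zf (fun U A => AbIn U A) (⊤ : Subgroup S)) T := by
  rw [WA_Zf, centerThompsonAOf_eq]
  intro x hx
  obtain ⟨hx1, hx2⟩ := Subgroup.mem_inf.1 hx
  refine Subgroup.mem_sInf.2 ?_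
  intro A hA
  apply AbIn.mem_of_centralize hA hx1
  intro a ha
  exact Subgroup.mem_centralizer_iff.1 hx2 a (hA.1 ha)

end Cfsg.Agent.H19
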