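import Mathlib
import Cfsg.Agent.H19.Isolated
import Cfsg.Agent.H10.Basic
import Cfsg.Agent.H1.Basic
import Cfsg.Agent.H2.NComp
import Cfsg.Agent.H2.Basic

/-!
# The minimal counterexample to `Z*_p`
-/

set_option autoImplicit false
set_option linter.style.haveILetI false

namespace Cfsg.Agent.H19

open Subgroup Cfsg.Agent.H23
open scoped Pointwise commutatorElement

variable {G : Type*} [Group G] {p : ℕ}

/-- if `O_p(G) = O_{p'}(G) = 1` then `G` has no nontrivial solvable normal subgroup -/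
theorem eq_bot_of_solvable_normal [Finite G] [hp : Fact p.Prime] (h1 : Cfsg.pCore p G = ⊥)
    (h2 : Cfsg.pPrimeCore p G = ⊥) {N : Subgroup G} (hN : N.Normal) (hs : Group.IsSolvable N) : N = ⊥ := by
  by_contra hne
  haveI hnt : Nontrivial N := (Subgroup.nontrivial_iff_ne_bot N).mpr hne
  obtain ⟨q, A, hq, hAc, hA1, _, hAq⟩ := H1.exists_pgroup_characteristic_of_solvable N hs
  haveI := hAc
  have hAn : (A.map N.subtype).Normal := by infer_instance
  have hne' : A.map N.subtype ≠ ⊥ := by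
    rw [Ne, Subgroup.map_eq_bot_iff_of_injective _ N.subtype_injective]
    exact hA1
  by_cases hqp : q = p
  · subst hqp
    apply hne'
    rw [eq_bot_iff, ← h1]
    exact H10.le_pCore hAn (hAq.map _)
  · apply hne'
    rw [eq_bot_iff, ← h2]
    refine H10.le_pPrimeCore hAn ?_
    haveI : Fact q.Prime := ⟨hq⟩
    obtain ⟨n, hn⟩ := hAq.exists_card_eq
    rw [H10.card_map_subtype, hn]
    exact Nat.Coprime.pow_left n ((Nat.coprime_primes hq hp.out).mpr hqp)

/-- `x` is in `Z*_p` if it is so mod a normal `p'`-subgroup -/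
theorem inZStar_of_quotient [Finite G] {x : G} (N : Subgroup G) [N.Normal]
    (hN : (Nat.card N).Coprime p) (h : Cfsg.InZStar p (QuotientGroup.mk x : G ⧸ N)) : Cfsg.InZStar p x := by
  intro g
  have h1 := h (QuotientGroup.mk g)
  set M := (Cfsg.pPrimeCore p (G ⧸ N)).comap (QuotientGroup.mk' N) with hM
  haveI := H10.pPrimeCore_characteristic p (G ⧸ N)
  have hMn : M.Normal := by rw [hM]; infer_instance
  have hMc : (Nat.card M).Coprime p := by
    rw [hM, H2.card_comap_mk']
    exact Nat.Coprime.mul_left (H10.pPrimeCore_coprime p _) hN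
  have h2 : g * x * g⁻¹ * x⁻¹ ∈ M := h1
  exact H10.le_pPrimeCore hMn hMc h2

/-- a group with central Sylow `p`-subgroup and `O_{p'} = 1` is a `p`-group, in the form we need -/
theorem eq_of_central_of_coprime_index [Finite G] [Fact p.Prime] (h2 : Cfsg.pPrimeCore p G = ⊥)
    {Q M : Subgroup G} (hMn : M.Normal) (hQM : Q ≤ M) (hQ : IsPGroup p Q) (hQc : Q ≤ center G)
    (hcop : (Q.relIndex M).Coprime p) : M = Q := by
  have hQM' : IsPGroup p (Q.subgroupOf M) := H10.isPGroup_subgroupOf hQ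
  obtain ⟨P, hP⟩ := H2.exists_sylow_eq_of_isPGroup_of_not_dvd_index hQM'
    ((Nat.Prime.coprime_iff_not_dvd Fact.out).mp hcop.symm)
  have hle : normalizer ((P : Subgroup M) : Set M) ≤ centralizer ((P : Subgroup M) : Set M) := by
    intro g _
    rw [mem_centralizer_iff]
    intro y hy
    have hy' : (y : G) ∈ Q := by
      rw [hP] at hy
      exact hy
    exact Subtype.ext ((mem_center_iff.mp (hQc hy') g).symm)
  have hcomp := MonoidHom.ker_transferSylow_isComplement' P hle
  set K := (MonoidHom.transferSylow P hle).ker with hK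
  have hKn : K.Normal := MonoidHom.normal_ker _
  have hKc : (Nat.card K).Coprime p :=
    ((Nat.Prime.coprime_iff_not_dvd Fact.out).mpr (MonoidHom.not_dvd_card_ker_transferSylow P hle)).symm
  have hK1 : K = ⊥ := by
    have h3 : K.map M.subtype ≤ Cfsg.pPrimeCore p G := by
      have h4 := H10.pPrimeCore_map_subtype p (H := M) hMn.isSubnormal
      have h5 : K.map M.subtype ≤ (Cfsg.pPrimeCore p M).map M.subtype :=
        Subgroup.map_mono (H10.le_pPrimeCore hKn hKc)
      rw [h4] at h5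
      exact h5.trans inf_le_left
    rw [h2, le_bot_iff, Subgroup.map_eq_bot_iff_of_injective _ M.subtype_injective] at h3
    exact h3
  have h6 := hcomp.sup_eq_top
  rw [hK1, bot_sup_eq, hP, subgroupOf_eq_top] at h6
  exact le_antisymm h6 hQM

/-- the last step: if `N` is the unique minimal normal subgroup and `G = N⟨x⟩` then `N` is simple -/
theorem simple_of_unique_minimal [Finite G] [hp : Fact p.Prime] {x : G} (hxp : ∃ k : ℕ, orderOf x = p ^ k)
    (hiso : Cfsg.IsIsolated x) (hp' : Cfsg.pPrimeCore p G = ⊥) {N : Subgroup G} (hN : N.Normal) (hN1 : N ≠ ⊥)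
    (hsup : N ⊔ zpowers x = ⊤) (hle : ∀ K : Subgroup G, K.Normal → K ≠ ⊥ → N ≤ K) : IsSimpleGroup N := by
  haveI hnt : Nontrivial N := (Subgroup.nontrivial_iff_ne_bot _).mpr hN1
  refine ⟨fun M hM => ?_⟩
  by_contra hcon
  push Not at hcon
  obtain ⟨hM1, hMt⟩ := hcon
  -- minimal normal subgroup of `G'`
  obtain ⟨M₀', hM₀⟩ := (Set.toFinite {K : Subgroup N | K.Normal ∧ K ≠ ⊥ ∧ K ≤ M}).exists_minimal
    ⟨M, hM, hM1, le_rfl⟩
  obtain ⟨⟨hM₀n, hM₀1, hM₀M⟩, hM₀min⟩ := hM₀
  set M₀ : Subgroup G := M₀'.map N.subtype with hM₀def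
  have hM₀N : M₀ ≤ N := Subgroup.map_subtype_le _
  have hNM₀ : N ≤ normalizer (M₀ : Set G) := by
    refine H18.le_normalizer_of_conj_mem ?_
    rintro a ha _ ⟨y, hy, rfl⟩
    exact ⟨⟨a, ha⟩ * y * ⟨a, ha⟩⁻¹, hM₀n.conj_mem y hy _, rfl⟩
  have hM₀b : M₀ ≠ ⊥ := by
    rw [Ne, Subgroup.map_eq_bot_iff_of_injective _ N.subtype_injective]
    exact hM₀1
  have hxM₀ : x ∉ normalizer (M₀ : Set G) := by
    intro h
    have h1 : N ⊔ zpowers x ≤ normalizer (M₀ : Set G) := sup_le hNM₀ (zpowers_le.mpr h)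
    rw [hsup] at h1
    have h2 : M₀.Normal := Subgroup.normalizer_eq_top_iff.mp (top_le_iff.mp h1)
    have h3 := hle M₀ h2 hM₀b
    apply hMt
    rw [eq_top_iff]
    rintro ⟨y, hy⟩ _
    obtain ⟨z, hz, hzy⟩ := h3 hy
    have : z = ⟨y, hy⟩ := Subtype.ext hzy
    exact hM₀M (this ▸ hz)
  -- `M₀ ∩ M₀^x = 1`
  have hD : M₀ ⊓ MulAut.conj x • M₀ = ⊥ := by
    by_contra hD1
    set D := M₀ ⊓ MulAut.conj x • M₀ with hDdef
    have hDN : D ≤ N := inf_le_left.trans hM₀N
    have hDn : (D.subgroupOf N).Normal := by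
      rw [H18.normal_subgroupOf_iff hDN]
      refine H18.le_normalizer_inf hNM₀ ?_
      refine H18.le_normalizer_of_conj_mem ?_
      intro a ha y hy
      rw [H1.mem_conj_smul] at hy ⊢
      have h1 : x⁻¹ * a * x ∈ N := by
        have := hN.conj_mem a ha x⁻¹
        simpa using this
      have h2 := (mem_normalizer_iff.mp (hNM₀ h1) _).mp hy
      have e : x⁻¹ * (a * y * a⁻¹) * x = x⁻¹ * a * x * (x⁻¹ * y * x) * (x⁻¹ * a * x)⁻¹ := by group
      rw [e]
      exact h2
    have hDle : D.subgroupOf N ≤ M₀' := by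
      intro y hy
      have h1 : (y : G) ∈ M₀ := (mem_subgroupOf.mp hy).1
      obtain ⟨z, hz, hzy⟩ := h1
      have : z = y := Subtype.ext hzy
      exact this ▸ hz
    have hDb : D.subgroupOf N ≠ ⊥ := by
      intro h
      apply hD1
      rw [subgroupOf_eq_bot] at h
      exact h.eq_bot_of_le hDN
    have h1 := hM₀min ⟨hDn, hDb, hDle.trans hM₀M⟩ hDle
    have h2 : M₀ ≤ D := by
      rintro _ ⟨y, hy, rfl⟩
      exact mem_subgroupOf.mp (h1 hy)
    have h3 : M₀ ≤ MulAut.conj x • M₀ := h2.trans inf_le_right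
    apply hxM₀
    rw [H1.mem_normalizer_iff_conj_smul]
    exact (Subgroup.eq_of_le_of_card_ge h3 (by rw [H1.card_conj_smul])).symm
  -- `M₀` is a `p'`-group
  have hcop : (Nat.card M₀).Coprime p := by
    rw [Nat.coprime_comm, Nat.Prime.coprime_iff_not_dvd hp.out]
    intro hdvd
    obtain ⟨y, hy, hyo⟩ := H2.exists_mem_orderOf_eq_prime hdvd
    obtain ⟨Q, hQ, hxQ⟩ := exists_isSylowOf_ge (Q := zpowers x) (G := (⊤ : Subgroup G)) le_top (isPGroup_zpowers hxp)
    obtain ⟨g, -, hg⟩ := IsSylowOf.exists_conj_le hQ (le_top : zpowers y ≤ ⊤)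
      (isPGroup_zpowers ⟨1, by rw [pow_one]; exact hyo⟩)
    have h1 : g * y * g⁻¹ ∈ Q := hg (H1.conj_mem_conj_smul (mem_zpowers _))
    have hgt : g ∈ zpowers x ⊔ N := by rw [sup_comm, hsup]; exact mem_top g
    obtain ⟨u, hu, n, hn, hun⟩ := Subgroup.mem_sup_of_normal_right.mp hgt
    have h2 : n * y * n⁻¹ ∈ M₀ := (mem_normalizer_iff.mp (hNM₀ hn) y).mp hy
    have h3 : n * y * n⁻¹ ∈ Q := by
      have e : n * y * n⁻¹ = u⁻¹ * (g * y * g⁻¹) * u := by rw [← hun]; group
      rw [e]
      exact mul_mem (mul_mem (inv_mem (hxQ hu)) h1) (hxQ hu)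
    have h4 := isolated_commute hQ.isPGroup (hxQ (mem_zpowers x)) hiso _ h3
    have h5 : n * y * n⁻¹ ∈ M₀ ⊓ MulAut.conj x • M₀ := by
      refine ⟨h2, ?_⟩
      have h6 : x * (n * y * n⁻¹) * x⁻¹ ∈ MulAut.conj x • M₀ := H1.conj_mem_conj_smul h2
      have e : x * (n * y * n⁻¹) * x⁻¹ = n * y * n⁻¹ := by rw [h4.eq]; group
      rwa [e] at h6
    rw [hD, mem_bot] at h5
    have h6 : y = 1 := by
      have := congrArg (fun z => n⁻¹ * z * n) h5
      simpa [mul_assoc] using this
    rw [h6, orderOf_one] at hyo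
    exact hp.out.one_lt.ne hyo
  have h1 : M₀ ≤ Cfsg.pPrimeCore p G := by
    refine H10.subnormal_pPrime_le_pPrimeCore ?_ hcop
    refine Subgroup.IsSubnormal.trans hM₀N ?_ hN.isSubnormal
    refine Subgroup.Normal.isSubnormal ?_
    rw [H18.normal_subgroupOf_iff hM₀N]
    exact hNM₀
  rw [hp', le_bot_iff] at h1
  exact hM₀b h1

theorem zpStar_min [Finite G] [hp : Fact p.Prime] (x : G) (hx : orderOf x = p) (hiso : Cfsg.IsIsolated x)
    (hnz : ¬ Cfsg.InZStar p x)
    (hmin : ∀ (H : Subgroup G) (hxH : x ∈ H), H ≠ ⊤ → Cfsg.InZStar p (⟨x, hxH⟩ : ↥H))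
    (hquot : ∀ (N : Subgroup G) [N.Normal], N ≠ ⊥ → Cfsg.InZStar p (QuotientGroup.mk x : G ⧸ N)) :
    IsSimpleGroup ↥(commutator G) ∧ ¬ IsMulCommutative ↥(commutator G) ∧ commutator G ⊔ Subgroup.zpowers x = ⊤ := by
  have hx1 : x ≠ 1 := by
    rintro rfl
    rw [orderOf_one] at hx
    exact hp.out.one_lt.ne hx
  have hxp : ∃ k : ℕ, orderOf x = p ^ k := ⟨1, by rw [pow_one]; exact hx⟩
  have hxc : ¬ x ∈ center G := by
    intro h
    apply hnz
    intro g
    have h1 : g * x * g⁻¹ * x⁻¹ = 1 := by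
      rw [mem_center_iff.mp h g]; group
    rw [h1]
    exact one_mem _
  have hcent : ∀ g : G, Commute x (g * x * g⁻¹) → Commute g x := by
    intro g hg
    have h1 := hiso g hg
    show g * x = x * g
    calc g * x = (g * x * g⁻¹) * g := by group
      _ = x * g := by rw [h1]
  -- step 1
  have hp' : Cfsg.pPrimeCore p G = ⊥ := by
    by_contra hne
    haveI := H10.pPrimeCore_characteristic p G
    exact hnz (inZStar_of_quotient _ (H10.pPrimeCore_coprime p G) (hquot _ hne))
  -- step 2: no proper normal subgroup contains `x`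
  have hnorm : ∀ H : Subgroup G, H.Normal → x ∈ H → H = ⊤ := by
    intro H hH hxH
    by_contra hne
    have h1 := hmin H hxH hne
    apply hxc
    rw [mem_center_iff]
    intro g
    refine hcent g ?_
    have h2 : g * x * g⁻¹ ∈ H := hH.conj_mem x hxH g
    have h3 := h1 ⟨_, h2⟩
    have h4 : ((⟨g * x * g⁻¹, h2⟩ : H) * ⟨x, hxH⟩ * (⟨g * x * g⁻¹, h2⟩ : H)⁻¹ * (⟨x, hxH⟩ : H)⁻¹ : H) = 1 := by
      have h5 := H10.pPrimeCore_map_subtype p (H := H) hH.isSubnormal
      rw [hp', bot_inf_eq, Subgroup.map_eq_bot_iff_of_injective _ H.subtype_injective] at h5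
      rw [h5] at h3
      exact mem_bot.mp h3
    have h6 := congrArg Subtype.val h4
    simp only [Subgroup.coe_mul, Subgroup.coe_inv, Subgroup.coe_one] at h6
    have h7 := mul_inv_eq_one.mp h6
    have h8 : (g * x * g⁻¹) * x = x * (g * x * g⁻¹) := by
      calc (g * x * g⁻¹) * x = ((g * x * g⁻¹) * x * (g * x * g⁻¹)⁻¹) * (g * x * g⁻¹) := by group
        _ = x * (g * x * g⁻¹) := by rw [h7]
    exact h8.symm
  -- step 3: `O_p(G) = 1`
  have hpc : Cfsg.pCore p G = ⊥ := by
    by_contra hne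
    haveI hQch := H10.pCore_characteristic p G
    set Q := Cfsg.pCore p G with hQ
    have hQn : Q.Normal := inferInstance
    have hQp : IsPGroup p Q := H10.pCore_isPGroup p G
    have h1 : IsPGroup p (zpowers x ⊔ Q : Subgroup G) :=
      H18.isPGroup_sup_of_le_normalizer (isPGroup_zpowers hxp) hQp
        (by rw [Subgroup.normalizer_eq_top_iff.mpr hQn]; exact le_top)
    have h2 := isolated_commute h1 ((le_sup_left : zpowers x ≤ _) (mem_zpowers x)) hiso
    have h3 : x ∈ centralizer (Q : Set G) := by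
      rw [mem_centralizer_iff]
      intro y hy
      exact (h2 y ((le_sup_right : Q ≤ _) hy)).eq.symm
    have h4 := hnorm (centralizer (Q : Set G)) (Subgroup.normal_centralizer) h3
    have hQc : Q ≤ center G := by
      intro y hy
      rw [mem_center_iff]
      intro g
      have : g ∈ centralizer (Q : Set G) := by rw [h4]; exact mem_top g
      exact (mem_centralizer_iff.mp this y hy).symm
    have h5 := hquot Q hne
    haveI := H10.pPrimeCore_characteristic p (G ⧸ Q)
    set M := (Cfsg.pPrimeCore p (G ⧸ Q)).comap (QuotientGroup.mk' Q) with hM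
    have hMn : M.Normal := by rw [hM]; infer_instance
    have hQM : Q ≤ M := by
      intro y hy
      have : QuotientGroup.mk' Q y = 1 := (QuotientGroup.eq_one_iff y).mpr hy
      rw [hM, mem_comap, this]
      exact one_mem _
    have hidx : (Q.relIndex M).Coprime p := by
      have h6 : Nat.card M = Nat.card (Cfsg.pPrimeCore p (G ⧸ Q)) * Nat.card Q := by rw [hM, H2.card_comap_mk']
      have h7 := card_relIndex hQM
      rw [h6, mul_comm] at h7
      have h8 : Q.relIndex M = Nat.card (Cfsg.pPrimeCore p (G ⧸ Q)) := Nat.eq_of_mul_eq_mul_right Nat.card_pos h7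
      rw [h8]
      exact H10.pPrimeCore_coprime p _
    have h9 := eq_of_central_of_coprime_index hp' hMn hQM hQp hQc hidx
    apply hxc
    rw [mem_center_iff]
    intro g
    refine hcent g ?_
    have h10 : g * x * g⁻¹ * x⁻¹ ∈ M := h5 (QuotientGroup.mk g)
    rw [h9] at h10
    have h11 := mem_center_iff.mp (hQc h10) x
    show x * (g * x * g⁻¹) = (g * x * g⁻¹) * x
    calc x * (g * x * g⁻¹) = x * (g * x * g⁻¹ * x⁻¹) * x := by group
      _ = (g * x * g⁻¹ * x⁻¹) * x * x := by rw [h11]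
      _ = _ := by group
  have hsolv : ∀ N : Subgroup G, N.Normal → Group.IsSolvable N → N = ⊥ := fun N hN hs =>
    eq_bot_of_solvable_normal hpc hp' hN hs
  have hcen : center G = ⊥ := by
    refine hsolv _ inferInstance ?_
    exact Group.isSolvable_of_comm fun a b => Subtype.ext (mem_center_iff.mp b.2 a)
  -- step 4
  have hsup : ∀ N : Subgroup G, N.Normal → N ≠ ⊥ → N ⊔ zpowers x = ⊤ := by
    intro N hN hN1
    by_contra hne
    set H := N ⊔ zpowers x with hH
    have hxH : x ∈ H := (le_sup_right : zpowers x ≤ _) (mem_zpowers x)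
    have hNH : N ≤ H := le_sup_left
    have h1 := hmin H hxH hne
    have h2 : x ∈ centralizer (N : Set G) := by
      rw [mem_centralizer_iff]
      intro n hn
      have h3 := h1 ⟨n, hNH hn⟩
      -- the commutator lies in `N` and in `O_{p'}(H)`
      have h4 : (((⟨n, hNH hn⟩ : H) * ⟨x, hxH⟩ * (⟨n, hNH hn⟩ : H)⁻¹ * (⟨x, hxH⟩ : H)⁻¹ : H) : G) ∈ N := by
        show n * x * n⁻¹ * x⁻¹ ∈ N
        have : n * x * n⁻¹ * x⁻¹ = n * (x * n⁻¹ * x⁻¹) := by group
        rw [this]
        exact mul_mem hn (hN.conj_mem _ (inv_mem hn) x)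
      have hD : (Cfsg.pPrimeCore p H ⊓ N.subgroupOf H).map H.subtype ≤ Cfsg.pPrimeCore p G := by
        refine H10.subnormal_pPrime_le_pPrimeCore ?_ ?_
        · -- `D ⊴ N ⊴ G`
          haveI := H10.pPrimeCore_characteristic p H
          have hDn : (Cfsg.pPrimeCore p H ⊓ N.subgroupOf H).Normal := by
            haveI : (N.subgroupOf H).Normal := inferInstance
            infer_instance
          have hDN : (Cfsg.pPrimeCore p H ⊓ N.subgroupOf H).map H.subtype ≤ N := by
            rintro _ ⟨y, hy, rfl⟩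
            exact hy.2
          refine Subgroup.IsSubnormal.trans hDN ?_ hN.isSubnormal
          refine Subgroup.Normal.isSubnormal ?_
          rw [H18.normal_subgroupOf_iff hDN]
          refine H18.le_normalizer_of_conj_mem ?_
          rintro a ha _ ⟨y, hy, rfl⟩
          exact ⟨⟨a, hNH ha⟩ * y * ⟨a, hNH ha⟩⁻¹, hDn.conj_mem y hy _, rfl⟩
        · rw [H10.card_map_subtype]
          exact Nat.Coprime.coprime_dvd_left (Subgroup.card_dvd_of_le inf_le_left) (H10.pPrimeCore_coprime p H)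
      have h5 := hD ⟨_, ⟨h3, h4⟩, rfl⟩
      rw [hp', mem_bot] at h5
      have h6 : n * x * n⁻¹ * x⁻¹ = 1 := h5
      have h7 := mul_inv_eq_one.mp h6
      calc n * x = (n * x * n⁻¹) * n := by group
        _ = x * n := by rw [h7]
    have h8 := hnorm _ (Subgroup.normal_centralizer) h2
    apply hN1
    rw [eq_bot_iff, ← hcen]
    intro n hn
    rw [mem_center_iff]
    intro g
    have : g ∈ centralizer (N : Set G) := by rw [h8]; exact mem_top g
    exact (mem_centralizer_iff.mp this n hn).symm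
  -- step 5
  have hG' : commutator G ≠ ⊥ := by
    intro h
    apply hxc
    rw [mem_center_iff]
    intro g
    have h1 : ⁅g, x⁆ ∈ commutator G := commutator_mem_commutator (mem_top g) (mem_top x)
    rw [h, mem_bot, commutatorElement_eq_one_iff_mul_comm] at h1
    exact h1
  have hle : ∀ N : Subgroup G, N.Normal → N ≠ ⊥ → commutator G ≤ N := by
    intro N hN hN1
    have h1 := hsup N hN hN1
    have h2 : ∀ g : G, ∃ k : ℤ, (QuotientGroup.mk g : G ⧸ N) = (QuotientGroup.mk x) ^ k := by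
      intro g
      have : g ∈ N ⊔ zpowers x := by rw [h1]; exact mem_top g
      obtain ⟨n, hn, y, ⟨k, rfl⟩, rfl⟩ := Subgroup.mem_sup_of_normal_left.mp this
      refine ⟨k, ?_⟩
      have hn1 : (QuotientGroup.mk n : G ⧸ N) = 1 := (QuotientGroup.eq_one_iff n).mpr hn
      simp only [QuotientGroup.mk_mul, hn1, one_mul]
      rfl
    rw [_root_.commutator_def, commutator_le]
    intro a _ b _
    rw [← QuotientGroup.eq_one_iff]
    obtain ⟨k, hk⟩ := h2 a
    obtain ⟨l, hl⟩ := h2 b
    have h3 : ((⁅a, b⁆ : G) : G ⧸ N) = ⁅(a : G ⧸ N), (b : G ⧸ N)⁆ := rfl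
    rw [h3, hk, hl, commutatorElement_eq_one_iff_mul_comm]
    exact (Commute.zpow_zpow_self _ k l).eq
  have hns : ∀ M : Subgroup G, M.Normal → M ≠ ⊥ → ¬ Group.IsSolvable M := fun M hM hM1 hs => hM1 (hsolv M hM hs)
  refine ⟨?_, ?_, hsup _ inferInstance hG'⟩
  · exact simple_of_unique_minimal hxp hiso hp' inferInstance hG' (hsup _ inferInstance hG') hle
  · intro hab
    refine hns _ inferInstance hG' ?_
    exact Group.isSolvable_of_comm fun a b => hab.is_comm.comm a b

end Cfsg.Agent.H19
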