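import Mathlib
import Cfsg.Agent.H19.ZpStar
import Cfsg.Agent.H19.Sylow2
import Cfsg.Agent.H23.Coprime2

/-!
# The minimal counterexample to `Z*_p`: invariant Sylow subgroups
-/

set_option autoImplicit false
set_option linter.style.haveILetI false

namespace Cfsg.Agent.H19

open Subgroup Cfsg.Agent.H23
open scoped Pointwise commutatorElement

variable {G : Type*} [Group G] {p : ℕ}

theorem zpStar_min_cores [Finite G] [hp : Fact p.Prime] (x : G) (hx : orderOf x = p) (hiso : Cfsg.IsIsolated x)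
    (hnz : ¬ Cfsg.InZStar p x)
    (hmin : ∀ (H : Subgroup G) (hxH : x ∈ H), H ≠ ⊤ → Cfsg.InZStar p (⟨x, hxH⟩ : ↥H))
    (hquot : ∀ (N : Subgroup G) [N.Normal], N ≠ ⊥ → Cfsg.InZStar p (QuotientGroup.mk x : G ⧸ N)) :
    Cfsg.pPrimeCore p G = ⊥ ∧ Cfsg.pCore p G = ⊥ := by
  have hx1 : x ≠ 1 := by
    rintro rfl
    rw [orderOf_one] at hx
    exact hp.out.one_lt.ne hx
  have hxp : ∃ k : ℕ, orderOf x = p ^ k := ⟨1, by rw [pow_one]; exact hx⟩
  have hxc : ¬ x ∈ center G := by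
    intro h
    apply hnz
    intro g
    have h1 : g * x * g⁻¹ * x⁻¹ = 1 := by
      rw [mem_center_iff.mp h g]; group
    rw [h1]
    exact one_mem _
  have hcent : ∀ g : G, Commute x (g * x * g⁻¹) → Commute g x := by
    intro g hg
    have h1 := hiso g hg
    show g * x = x * g
    calc g * x = (g * x * g⁻¹) * g := by group
      _ = x * g := by rw [h1]
  -- step 1
  have hp' : Cfsg.pPrimeCore p G = ⊥ := by
    by_contra hne
    haveI := H10.pPrimeCore_characteristic p G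
    exact hnz (inZStar_of_quotient _ (H10.pPrimeCore_coprime p G) (hquot _ hne))
  -- step 2: no proper normal subgroup contains `x`
  have hnorm : ∀ H : Subgroup G, H.Normal → x ∈ H → H = ⊤ := by
    intro H hH hxH
    by_contra hne
    have h1 := hmin H hxH hne
    apply hxc
    rw [mem_center_iff]
    intro g
    refine hcent g ?_
    have h2 : g * x * g⁻¹ ∈ H := hH.conj_mem x hxH g
    have h3 := h1 ⟨_, h2⟩
    have h4 : ((⟨g * x * g⁻¹, h2⟩ : H) * ⟨x, hxH⟩ * (⟨g * x * g⁻¹, h2⟩ : H)⁻¹ * (⟨x, hxH⟩ : H)⁻¹ : H) = 1 := by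
      have h5 := H10.pPrimeCore_map_subtype p (H := H) hH.isSubnormal
      rw [hp', bot_inf_eq, Subgroup.map_eq_bot_iff_of_injective _ H.subtype_injective] at h5
      rw [h5] at h3
      exact mem_bot.mp h3
    have h6 := congrArg Subtype.val h4
    simp only [Subgroup.coe_mul, Subgroup.coe_inv, Subgroup.coe_one] at h6
    have h7 := mul_inv_eq_one.mp h6
    have h8 : (g * x * g⁻¹) * x = x * (g * x * g⁻¹) := by
      calc (g * x * g⁻¹) * x = ((g * x * g⁻¹) * x * (g * x * g⁻¹)⁻¹) * (g * x * g⁻¹) := by group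
        _ = x * (g * x * g⁻¹) := by rw [h7]
    exact h8.symm
  -- step 3: `O_p(G) = 1`
  have hpc : Cfsg.pCore p G = ⊥ := by
    by_contra hne
    haveI hQch := H10.pCore_characteristic p G
    set Q := Cfsg.pCore p G with hQ
    have hQn : Q.Normal := inferInstance
    have hQp : IsPGroup p Q := H10.pCore_isPGroup p G
    have h1 : IsPGroup p (zpowers x ⊔ Q : Subgroup G) :=
      H18.isPGroup_sup_of_le_normalizer (isPGroup_zpowers hxp) hQp
        (by rw [Subgroup.normalizer_eq_top_iff.mpr hQn]; exact le_top)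
    have h2 := isolated_commute h1 ((le_sup_left : zpowers x ≤ _) (mem_zpowers x)) hiso
    have h3 : x ∈ centralizer (Q : Set G) := by
      rw [mem_centralizer_iff]
      intro y hy
      exact (h2 y ((le_sup_right : Q ≤ _) hy)).eq.symm
    have h4 := hnorm (centralizer (Q : Set G)) (Subgroup.normal_centralizer) h3
    have hQc : Q ≤ center G := by
      intro y hy
      rw [mem_center_iff]
      intro g
      have : g ∈ centralizer (Q : Set G) := by rw [h4]; exact mem_top g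
      exact (mem_centralizer_iff.mp this y hy).symm
    have h5 := hquot Q hne
    haveI := H10.pPrimeCore_characteristic p (G ⧸ Q)
    set M := (Cfsg.pPrimeCore p (G ⧸ Q)).comap (QuotientGroup.mk' Q) with hM
    have hMn : M.Normal := by rw [hM]; infer_instance
    have hQM : Q ≤ M := by
      intro y hy
      have : QuotientGroup.mk' Q y = 1 := (QuotientGroup.eq_one_iff y).mpr hy
      rw [hM, mem_comap, this]
      exact one_mem _
    have hidx : (Q.relIndex M).Coprime p := by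
      have h6 : Nat.card M = Nat.card (Cfsg.pPrimeCore p (G ⧸ Q)) * Nat.card Q := by rw [hM, H2.card_comap_mk']
      have h7 := card_relIndex hQM
      rw [h6, mul_comm] at h7
      have h8 : Q.relIndex M = Nat.card (Cfsg.pPrimeCore p (G ⧸ Q)) := Nat.eq_of_mul_eq_mul_right Nat.card_pos h7
      rw [h8]
      exact H10.pPrimeCore_coprime p _
    have h9 := eq_of_central_of_coprime_index hp' hMn hQM hQp hQc hidx
    apply hxc
    rw [mem_center_iff]
    intro g
    refine hcent g ?_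
    have h10 : g * x * g⁻¹ * x⁻¹ ∈ M := h5 (QuotientGroup.mk g)
    rw [h9] at h10
    have h11 := mem_center_iff.mp (hQc h10) x
    show x * (g * x * g⁻¹) = (g * x * g⁻¹) * x
    calc x * (g * x * g⁻¹) = x * (g * x * g⁻¹ * x⁻¹) * x := by group
      _ = (g * x * g⁻¹ * x⁻¹) * x * x := by rw [h11]
      _ = _ := by group
  exact ⟨hp', hpc⟩

/-- `C_G(x)` is transitive on the `x`-invariant Sylow `q`-subgroups -/
theorem isolated_transitive [Finite G] [hp : Fact p.Prime] {x : G} (hxp : ∃ k : ℕ, orderOf x = p ^ k)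
    (hiso : Cfsg.IsIsolated x) {g : G} {S : Subgroup G} (h1 : x ∈ normalizer (S : Set G))
    (h2 : x ∈ normalizer ((MulAut.conj g • S : Subgroup G) : Set G)) :
    ∃ c ∈ centralizer ({x} : Set G), MulAut.conj c • S = MulAut.conj g • S := by
  set N := normalizer (S : Set G) with hN
  have h3 : g⁻¹ * x * g ∈ N := by
    rw [hN, H1.mem_normalizer_iff_conj_smul, ← H1.conj_smul_smul, ← H1.conj_smul_smul,
      H1.mem_normalizer_iff_conj_smul.mp h2, H1.conj_smul_smul]
    simp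
  obtain ⟨P, hP, hxP⟩ := exists_isSylowOf_ge (Q := zpowers x) (G := N) (zpowers_le.mpr h1) (isPGroup_zpowers hxp)
  obtain ⟨n, hn, hnP⟩ := IsSylowOf.exists_conj_le (Q := zpowers (g⁻¹ * x * g)) hP (zpowers_le.mpr h3)
    (isPGroup_zpowers (by
      obtain ⟨k, hk⟩ := hxp
      refine ⟨k, ?_⟩
      rw [show g⁻¹ * x * g = (MulAut.conj g⁻¹) x by simp, MulEquiv.orderOf_eq, hk]))
  have h4 : n * (g⁻¹ * x * g) * n⁻¹ ∈ P := hnP (H1.conj_mem_conj_smul (mem_zpowers _))
  have h5 := isolated_commute hP.isPGroup (hxP (mem_zpowers x)) hiso _ h4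
  have e : n * (g⁻¹ * x * g) * n⁻¹ = (n * g⁻¹) * x * (n * g⁻¹)⁻¹ := by group
  rw [e] at h5
  have h6 := hiso _ h5
  refine ⟨g * n⁻¹, ?_, ?_⟩
  · rw [mem_centralizer_singleton_iff]
    have h7 : n * g⁻¹ * x = x * (n * g⁻¹) := by
      calc n * g⁻¹ * x = (n * g⁻¹) * x * (n * g⁻¹)⁻¹ * (n * g⁻¹) := by group
        _ = _ := by rw [h6]
    have h8 : Commute (n * g⁻¹) x := h7
    have h9 := h8.inv_left
    simpa using h9.eq
  · rw [← H1.conj_smul_smul, H1.mem_normalizer_iff_conj_smul.mp (inv_mem hn)]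

/-- a maximal `x`-invariant `q`-subgroup `Q` with `x ∈ Z*_p(N_G(Q))` is a Sylow subgroup -/
theorem maximal_invariant_sylow [Finite G] [hp : Fact p.Prime] {q : ℕ} [hq : Fact q.Prime] {x : G}
    (hx : orderOf x = p) {Q : Subgroup G} (hQ : IsPGroup q Q)
    (hxQ : x ∈ normalizer (Q : Set G))
    (hmax : ∀ R : Subgroup G, IsPGroup q ↥R → x ∈ Subgroup.normalizer (R : Set G) → Q ≤ R → R = Q)
    (hz : Cfsg.InZStar p (⟨x, hxQ⟩ : normalizer (Q : Set G))) : IsSylowOf q Q ⊤ := by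
  set N := normalizer (Q : Set G) with hN
  set K : Subgroup G := (Cfsg.pPrimeCore p N).map N.subtype with hK
  have hKN : K ≤ N := Subgroup.map_subtype_le _
  have hKcop : (Nat.card K).Coprime p := by
    rw [hK, H10.card_map_subtype]
    exact H10.pPrimeCore_coprime p N
  haveI := H10.pPrimeCore_characteristic p N
  have hNK : N ≤ normalizer (K : Set G) := by
    refine H18.le_normalizer_of_conj_mem ?_
    rintro a ha _ ⟨y, hy, rfl⟩
    exact ⟨⟨a, ha⟩ * y * ⟨a, ha⟩⁻¹, (inferInstance : (Cfsg.pPrimeCore p N).Normal).conj_mem y hy _, rfl⟩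
  obtain ⟨R, hR, hQR⟩ := exists_isSylowOf_ge (Q := Q) (G := N) Subgroup.le_normalizer hQ
  have hcx : ∀ n ∈ N, n * x * n⁻¹ * x⁻¹ ∈ K := fun n hn => ⟨_, hz ⟨n, hn⟩, rfl⟩
  -- `a n a⁻¹ n⁻¹ ∈ K`
  have hca : ∀ a ∈ zpowers x, ∀ n ∈ N, n * a * n⁻¹ * a⁻¹ ∈ K := by
    intro a ha n hn
    haveI : (K.subgroupOf N).Normal := (H18.normal_subgroupOf_iff hKN).mpr hNK
    obtain ⟨k, rfl⟩ := ha
    have hxN : x ∈ N := hxQ
    have h1 : Commute (QuotientGroup.mk (⟨n, hn⟩ : N) : N ⧸ K.subgroupOf N) (QuotientGroup.mk (⟨x, hxN⟩ : N)) := by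
      have h2 : (⟨n, hn⟩ : N) * ⟨x, hxN⟩ * (⟨n, hn⟩ : N)⁻¹ * (⟨x, hxN⟩ : N)⁻¹ ∈ K.subgroupOf N := hcx n hn
      rw [← QuotientGroup.eq_one_iff] at h2
      simp only [QuotientGroup.mk_mul, QuotientGroup.mk_inv] at h2
      rw [mul_inv_eq_one] at h2
      show _ * _ = _ * _
      calc _ = (QuotientGroup.mk (⟨n, hn⟩ : N) : N ⧸ K.subgroupOf N) * (QuotientGroup.mk (⟨x, hxN⟩ : N)) *
            (QuotientGroup.mk (⟨n, hn⟩ : N))⁻¹ * (QuotientGroup.mk (⟨n, hn⟩ : N)) := by group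
        _ = _ := by rw [h2]
    have h3 := h1.zpow_right k
    have h4 : (⟨n, hn⟩ : N) * (⟨x, hxN⟩ : N) ^ k * (⟨n, hn⟩ : N)⁻¹ * ((⟨x, hxN⟩ : N) ^ k)⁻¹ ∈ K.subgroupOf N := by
      rw [← QuotientGroup.eq_one_iff]
      simp only [QuotientGroup.mk_mul, QuotientGroup.mk_inv, QuotientGroup.mk_zpow]
      rw [h3.eq]; group
    exact h4
  have hAK : zpowers x ≤ normalizer (K : Set G) := (zpowers_le.mpr hxQ).trans hNK
  have hcop : (Nat.card (zpowers x)).Coprime (Nat.card K) := by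
    rw [Nat.card_zpowers, hx]; exact hKcop.symm
  have hsol : Group.IsSolvable (zpowers x) :=
    H23.isSolvable_of_isPGroup (isPGroup_zpowers (p := p) ⟨1, by rw [pow_one]; exact hx⟩)
  have hRK : R ≤ normalizer (K : Set G) := hR.le.trans hNK
  obtain ⟨k, hk, hkR⟩ := exists_conj_invariant hAK hcop (Or.inl hsol) R (by
    intro a ha
    have haN : a ∈ N := (zpowers_le.mpr hxQ) ha
    have h1 : IsSylowOf q (MulAut.conj a • R) N := hR.conj (Subgroup.le_normalizer haN)
    have h2 : MulAut.conj a • R ≤ K ⊔ R := by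
      intro y hy
      rw [H1.mem_conj_smul] at hy
      have h3 := inv_mem (hca a ha _ (hR.le hy))
      have h4 : y = ((a⁻¹ * y * a) * a * (a⁻¹ * y * a)⁻¹ * a⁻¹)⁻¹ * (a⁻¹ * y * a) := by group
      rw [h4]
      exact mul_mem ((le_sup_left : K ≤ K ⊔ R) h3) ((le_sup_right : R ≤ K ⊔ R) hy)
    have h3 : IsSylowOf q (MulAut.conj a • R) (K ⊔ R) := IsSylowOf.mono h1 h2 (sup_le hKN hR.le)
    have h4 : IsSylowOf q R (K ⊔ R) := IsSylowOf.mono hR le_sup_right (sup_le hKN hR.le)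
    obtain ⟨y, hy, hyR⟩ := h4.exists_conj h3
    obtain ⟨k, hk, r, hr, rfl⟩ := (mem_sup_iff_of_le_normalizer hRK).mp hy
    refine ⟨k, hk, ?_⟩
    rw [← hyR, ← H1.conj_smul_smul, H1.conj_smul_self_of_mem hr])
  have h1 : IsSylowOf q (MulAut.conj k • R) N := hR.conj (Subgroup.le_normalizer (hKN hk))
  have h2 : Q ≤ MulAut.conj k • R := by
    have h3 : MulAut.conj k • Q = Q := H1.mem_normalizer_iff_conj_smul.mp (hKN hk)
    rw [← h3]
    exact Subgroup.pointwise_smul_le_pointwise_smul_iff.mpr hQR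
  have h3 := hmax _ h1.isPGroup (hkR (mem_zpowers x)) h2
  rw [h3] at h1
  refine isSylowOf_of_normalizer ?_
  rw [top_inf_eq]
  exact h1

end Cfsg.Agent.H19
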